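import Mathlib
import Cfsg.Agent.Lib.H78.Contr1
import Cfsg.Agent.Lib.H31.CentralSec
import Cfsg.Agent.Lib.H84.CyclicNorm

/-! Contributions as values of integral polynomials at roots of unity. -/

set_option autoImplicit false
set_option linter.unusedSectionVars false
set_option linter.unusedVariables false
set_option linter.style.haveILetI false
open Cfsg H20.Loc H20.GA H20.Blk H20.Orth H20.Defect H20.Height H78.BlkCount H78.Sect
open Polynomial
open scoped ComplexConjugate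

namespace H78.Contr

universe u

section central
variable {K : Type u} [Group K] [Finite K]

theorem central_mul {χ : K → ℂ} (hχ : IsIrrCharacter K χ) {z : K} (hz : ∀ c : K, z * c = c * z)
    {n : ℕ} (hn : n ≠ 0) (hzn : z ^ n = 1) {ζ : ℂ} (hζ : IsPrimitiveRoot ζ n) :
    ∃ e : ℕ, ∀ (k : ℕ) (h : K), χ (z ^ k * h) = (ζ ^ k) ^ e * χ h := by
  haveI : NeZero n := ⟨hn⟩
  obtain ⟨m, ρ, hρ, rfl⟩ := hχ
  obtain ⟨μ, hμ⟩ := H31.CentralSec.schur_scalar ρ hρ (ρ z) (fun g => by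
    have : ρ (z * g) = ρ (g * z) := by rw [hz g]
    rw [map_mul, map_mul] at this
    exact this)
  have hpow : ∀ k : ℕ, ρ (z ^ k) = μ ^ k • LinearMap.id := by
    intro k
    rw [map_pow, hμ]
    show (μ • (1 : Module.End ℂ (Fin m → ℂ))) ^ k = μ ^ k • (1 : Module.End ℂ (Fin m → ℂ))
    rw [_root_.smul_pow, one_pow]
  have hμn : μ ^ n = 1 := by
    have h1 := hpow n
    rw [hzn] at h1
    have h0 := H18.CharBasic.irr_one_ne_zero (⟨m, ρ, hρ, rfl⟩ : IsIrrCharacter K ρ.character)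
    have h2 : ρ.character 1 = μ ^ n * ρ.character 1 := by
      unfold Representation.character
      conv_lhs => rw [h1]
      rw [map_one ρ]
      show LinearMap.trace ℂ _ (μ ^ n • (1 : Module.End ℂ (Fin m → ℂ))) = _
      rw [map_smul, smul_eq_mul]
    exact (mul_right_cancel₀ h0 (by rw [one_mul]; exact h2)).symm
  obtain ⟨e, -, he⟩ := hζ.eq_pow_of_pow_eq_one hμn
  refine ⟨e, fun k h => ?_⟩
  unfold Representation.character
  rw [map_mul, hpow k, ← he, ← pow_mul, mul_comm e k, pow_mul]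
  show LinearMap.trace ℂ _ ((((ζ ^ k) ^ e) • (1 : Module.End ℂ (Fin m → ℂ))) * ρ h) = _
  rw [smul_mul_assoc, one_mul, map_smul, smul_eq_mul]

end central

variable {G : Type u} [Group G] [Fintype G] {M : Ideal AlgInt} {p : ℕ}
variable (H : Subgroup G) [Fintype H] (u : G)

/-- multiplicities of the restriction -/
noncomputable def mult (χ : IrrCharacter G) (ξ : IrrCharacter H) : ℕ :=
  (H18.CharOrtho.inner_char_natCast (H18.CharBasic.isCharacter_restrict H (irr_char χ))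
    (irr_char ξ)).choose

theorem mult_spec (χ : IrrCharacter G) (ξ : IrrCharacter H) :
    classInner (fun h : H => (χ : G → ℂ) h) (ξ : H → ℂ) = mult H χ ξ :=
  (H18.CharOrtho.inner_char_natCast (H18.CharBasic.isCharacter_restrict H (irr_char χ))
    (irr_char ξ)).choose_spec

theorem restrict_expand [Fintype (IrrCharacter H)] (χ : IrrCharacter G) (h : H) :
    (χ : G → ℂ) h = ∑ ξ : IrrCharacter H, (mult H χ ξ : ℂ) * (ξ : H → ℂ) h := by
  have h1 := H18.CharOrtho.mem_classFun_expand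
    (H18.CharBasic.isClassFunction_of_isCharacter (H18.CharBasic.isCharacter_restrict H (irr_char χ)))
  have h2 := congrFun h1 h
  rw [Finset.sum_apply] at h2
  rw [h2]
  refine Finset.sum_congr rfl fun ξ _ => ?_
  rw [Pi.smul_apply, smul_eq_mul, mult_spec]

section Ni
variable {K : Type u} [Group K] [Fintype K]

open Classical in
/-- the integers `p ^ q [ξ°, ξ']` -/
noncomputable def Ni (p : ℕ) (b : Set (IrrCharacter K)) (ξ ξ' : IrrCharacter K) : ℤ :=
  if h : ∃ z : ℤ, (p : ℂ) ^ blockDefect p b * classInner (reg p (ξ : K → ℂ)) (ξ' : K → ℂ) = z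
    then h.choose else 0

theorem Ni_spec (hM : IsPModular p M) {b : Set (IrrCharacter K)} (hb : IsPBlock M b)
    {ξ : IrrCharacter K} (hξ : ξ ∈ b) (ξ' : IrrCharacter K) :
    (p : ℂ) ^ blockDefect p b * classInner (reg p (ξ : K → ℂ)) (ξ' : K → ℂ) = Ni p b ξ ξ' := by
  have h : ∃ z : ℤ, (p : ℂ) ^ blockDefect p b *
      classInner (reg p (ξ : K → ℂ)) (ξ' : K → ℂ) = z := by
    obtain ⟨n, hn, -⟩ := H78.BF.exists_n hM hb hξ ξ'
    exact ⟨(p : ℤ) ^ blockHeight p b (ξ : K → ℂ) * n, by rw [hn]; push_cast; rfl⟩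
  rw [Ni, dif_pos h]
  exact h.choose_spec

theorem Ni_symm (hM : IsPModular p M) {b : Set (IrrCharacter K)} (hb : IsPBlock M b)
    {ξ ξ' : IrrCharacter K} (hξ : ξ ∈ b) (hξ' : ξ' ∈ b) : Ni p b ξ ξ' = Ni p b ξ' ξ := by
  have h1 := Ni_spec hM hb hξ ξ'
  have h2 := Ni_spec hM hb hξ' ξ
  rw [inner_reg_symm (irr_char ξ) (irr_char ξ'), h2] at h1
  exact_mod_cast h1.symm

end Ni

open Classical in
/-- the contribution polynomial -/
noncomputable def Pol [Fintype (IrrCharacter H)] (p : ℕ) (b : Set (IrrCharacter H)) (n : ℕ)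
    (e : IrrCharacter H → ℕ) (χ ψ : IrrCharacter G) : ℤ[X] :=
  ∑ ξ : IrrCharacter H, ∑ ξ' : IrrCharacter H, if ξ ∈ b ∧ ξ' ∈ b then
    C (Ni p b ξ ξ' * mult H χ ξ * mult H ψ ξ') * X ^ (e ξ + (n - 1) * e ξ') else 0

/-- the exponent property -/
def IsExp (n : ℕ) (ζ : ℂ) (e : IrrCharacter H → ℕ) (hu : u ∈ H) : Prop :=
  ∀ (ξ : IrrCharacter H) (k : ℕ) (h : H), (ξ : H → ℂ) (⟨u, hu⟩ ^ k * h) = (ζ ^ k) ^ e ξ * (ξ : H → ℂ) h

theorem exists_exp (hH : Subgroup.centralizer ({u} : Set G) = H) (hu : u ∈ H) {n : ℕ} (hn : n ≠ 0)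
    (hun : u ^ n = 1) {ζ : ℂ} (hζ : IsPrimitiveRoot ζ n) : ∃ e, IsExp H u n ζ e hu := by
  have h1 : ∀ ξ : IrrCharacter H, ∃ e : ℕ, ∀ (k : ℕ) (h : H),
      (ξ : H → ℂ) (⟨u, hu⟩ ^ k * h) = (ζ ^ k) ^ e * (ξ : H → ℂ) h := by
    intro ξ
    apply central_mul ξ.2 _ hn _ hζ
    · intro c
      apply Subtype.ext
      have : (c : G) ∈ Subgroup.centralizer ({u} : Set G) := hH.symm ▸ c.2
      exact (Subgroup.mem_centralizer_singleton_iff.1 this).symm
    · apply Subtype.ext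
      simpa using hun
  choose e he using h1
  exact ⟨e, he⟩

theorem mem_of_centralizer (hH : Subgroup.centralizer ({u} : Set G) = H) : u ∈ H := by
  rw [← hH]; exact Subgroup.mem_centralizer_singleton_iff.2 rfl

theorem tr_expand [Fintype (IrrCharacter H)] {n : ℕ} {ζ : ℂ} {e : IrrCharacter H → ℕ} {hu : u ∈ H}
    (he : IsExp H u n ζ e hu) (χ : IrrCharacter G) (k : ℕ) :
    tr H (u ^ k) (χ : G → ℂ) = ∑ ξ : IrrCharacter H, ((mult H χ ξ : ℂ) * (ζ ^ k) ^ e ξ) •
      (ξ : H → ℂ) := by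
  funext h
  have h1 : tr H (u ^ k) (χ : G → ℂ) h = (χ : G → ℂ) ((⟨u, hu⟩ ^ k * h : H) : G) := rfl
  rw [h1, restrict_expand, Finset.sum_apply]
  refine Finset.sum_congr rfl fun ξ _ => ?_
  rw [he ξ k h, Pi.smul_apply, smul_eq_mul]
  ring

theorem dd_expand [Fintype (IrrCharacter H)] {n : ℕ} {ζ : ℂ} {e : IrrCharacter H → ℕ} {hu : u ∈ H}
    (he : IsExp H u n ζ e hu) (b : Set (IrrCharacter H)) [DecidablePred (· ∈ b)]
    (χ : IrrCharacter G) (k : ℕ) :
    dd H (u ^ k) p b (χ : G → ℂ) = ∑ ξ : IrrCharacter H,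
      (if ξ ∈ b then (mult H χ ξ : ℂ) * (ζ ^ k) ^ e ξ else 0) • reg p (ξ : H → ℂ) := by
  have h1 : dd H (u ^ k) p b (χ : G → ℂ) = regL H p (projL b (tr H (u ^ k) (χ : G → ℂ))) := rfl
  have h2 : ∀ ξ : IrrCharacter H, regL H p (projL b (ξ : H → ℂ)) =
      if ξ ∈ b then reg p (ξ : H → ℂ) else 0 := by
    intro ξ
    have h3 : projL b (ξ : H → ℂ) = if ξ ∈ b then (ξ : H → ℂ) else 0 := by
      show proj b (ξ : H → ℂ) = _
      rw [proj_eq_sum_smul b]
      split_ifs with hξ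
      · rw [Finset.sum_eq_single ξ]
        · rw [if_pos hξ, H18.CharOrtho.inner_irr_self ξ.2, one_smul]
        · intro η _ hη
          rw [H18.CharOrtho.inner_irr_ne ξ.2 η.2 (fun hc => hη (Subtype.ext hc).symm)]
          simp
        · intro hc; exact absurd (Finset.mem_univ _) hc
      · apply Finset.sum_eq_zero
        intro η _
        split_ifs with hη
        · rw [H18.CharOrtho.inner_irr_ne ξ.2 η.2
            (fun hc => hξ (by rw [show ξ = η from Subtype.ext hc]; exact hη)), zero_smul]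
        · rw [zero_smul]
    rw [h3]
    split_ifs
    · rfl
    · exact map_zero _
  rw [h1, tr_expand H u he, map_sum, map_sum]
  refine Finset.sum_congr rfl fun ξ _ => ?_
  rw [map_smul, map_smul, h2]
  split_ifs
  · rfl
  · rw [smul_zero, zero_smul]

theorem conj_root {n : ℕ} (hn : n ≠ 0) {μ : ℂ} (hμ : μ ^ n = 1) : conj μ = μ ^ (n - 1) := by
  have h1 : μ * μ ^ (n - 1) = 1 := by
    rw [← pow_succ', Nat.sub_add_cancel (Nat.one_le_iff_ne_zero.2 hn), hμ]
  have h2 : ‖μ‖ = 1 := Complex.norm_eq_one_of_pow_eq_one hμ hn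
  have h3 : μ * conj μ = 1 := by
    rw [Complex.mul_conj, Complex.normSq_eq_norm_sq, h2]; norm_num
  have h4 : μ ≠ 0 := fun h => by rw [h, zero_mul] at h1; exact zero_ne_one h1
  exact mul_left_cancel₀ h4 (h3.trans h1.symm)

theorem mm_eq_eval [Fintype (IrrCharacter H)] (hM : IsPModular p M) {n : ℕ} (hn : n ≠ 0) {ζ : ℂ}
    (hζ : ζ ^ n = 1) {e : IrrCharacter H → ℕ} {hu : u ∈ H} (he : IsExp H u n ζ e hu)
    {b : Set (IrrCharacter H)} (hb : IsPBlock M b) (χ ψ : IrrCharacter G) (k : ℕ) :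
    (p : ℂ) ^ blockDefect p b * mm H (u ^ k) p b χ ψ =
      ((Pol H p b n e χ ψ).map (Int.castRingHom ℂ)).eval (ζ ^ k) := by
  classical
  rw [mm, dd_expand H u he, dd_expand H u he, H18.CharOrtho.inner_sum_left, Finset.mul_sum, Pol,
    Polynomial.map_sum, eval_finsetSum]
  refine Finset.sum_congr rfl fun ξ _ => ?_
  rw [H18.CharOrtho.inner_sum_right, Finset.mul_sum, Polynomial.map_sum, eval_finsetSum]
  refine Finset.sum_congr rfl fun ξ' _ => ?_
  rw [H18.CharOrtho.inner_smul_left, H18.CharOrtho.inner_smul_right]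
  by_cases h1 : ξ ∈ b
  · by_cases h2 : ξ' ∈ b
    · rw [if_pos h1, if_pos h2, if_pos ⟨h1, h2⟩]
      have h3 := Ni_spec hM hb h1 ξ'
      have h4 : classInner (reg p (ξ : H → ℂ)) (reg p (ξ' : H → ℂ)) =
          classInner (reg p (ξ : H → ℂ)) (ξ' : H → ℂ) := by
        rw [← inner_reg_left, reg_reg]
      have h5 : conj ((mult H ψ ξ' : ℂ) * (ζ ^ k) ^ e ξ') =
          (mult H ψ ξ' : ℂ) * (ζ ^ k) ^ ((n - 1) * e ξ') := by
        rw [map_mul, Complex.conj_natCast, map_pow, conj_root hn (by rw [← pow_mul, mul_comm,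
          pow_mul, hζ, one_pow]), ← pow_mul]
      rw [h4, h5]
      simp only [Polynomial.map_mul, Polynomial.map_pow, map_X, eval_mul, eval_pow, eval_X,
        Polynomial.map_C, eval_C, pow_add]
      rw [map_mul, map_mul, eq_intCast, ← h3, map_natCast, map_natCast]
      ring
    · rw [if_neg h2, if_neg (fun hc : ξ ∈ b ∧ ξ' ∈ b => h2 hc.2), map_zero]
      simp
  · rw [if_neg h1, if_neg (fun hc : ξ ∈ b ∧ ξ' ∈ b => h1 hc.1), zero_mul]
    simp

theorem eval_one_eq [Fintype (IrrCharacter H)] (p : ℕ) (b : Set (IrrCharacter H))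
    [DecidablePred (· ∈ b)] (n : ℕ) (e : IrrCharacter H → ℕ) (χ ψ : IrrCharacter G) :
    (Pol H p b n e χ ψ).eval 1 = ∑ ξ : IrrCharacter H, ∑ ξ' : IrrCharacter H,
      if ξ ∈ b ∧ ξ' ∈ b then Ni p b ξ ξ' * mult H χ ξ * mult H ψ ξ' else 0 := by
  rw [Pol, eval_finsetSum]
  refine Finset.sum_congr rfl fun ξ _ => ?_
  rw [eval_finsetSum]
  refine Finset.sum_congr rfl fun ξ' _ => ?_
  split_ifs
  · simp
  · simp

theorem eval_one_symm [Fintype (IrrCharacter H)] (hM : IsPModular p M) {b : Set (IrrCharacter H)}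
    (hb : IsPBlock M b) (n : ℕ) (e : IrrCharacter H → ℕ) (χ ψ : IrrCharacter G) :
    (Pol H p b n e χ ψ).eval 1 = (Pol H p b n e ψ χ).eval 1 := by
  classical
  rw [eval_one_eq, eval_one_eq, Finset.sum_comm]
  refine Finset.sum_congr rfl fun ξ _ => ?_
  refine Finset.sum_congr rfl fun ξ' _ => ?_
  by_cases h : ξ ∈ b ∧ ξ' ∈ b
  · rw [if_pos h.symm, if_pos h, Ni_symm hM hb h.2 h.1]
    ring
  · rw [if_neg h, if_neg (fun hc => h hc.symm)]

/-- Values of integral polynomials at `p`-power roots of unity. -/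
theorem eval_congr (hM : IsPModular p M) (P : ℤ[X]) {μ : ℂ} {j : ℕ} (hμ : μ ^ p ^ j = 1) :
    MemLocalIdeal M ((P.map (Int.castRingHom ℂ)).eval μ - (P.eval 1 : ℤ)) := by
  haveI := pm_isPrime hM
  haveI := hM.2.1
  have h1 : ((P.eval 1 : ℤ) : ℂ) = (P.map (Int.castRingHom ℂ)).eval 1 := by
    rw [eval_map, ← eq_intCast (Int.castRingHom ℂ), ← Polynomial.eval₂_at_apply, map_one]
  obtain ⟨Q, hQ⟩ : (X - C 1 : ℤ[X]) ∣ P - C (P.eval 1) := by
    rw [dvd_iff_isRoot]; simp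
  have h2 : (P.map (Int.castRingHom ℂ)).eval μ - (P.eval 1 : ℤ) =
      (μ - 1) * (Q.map (Int.castRingHom ℂ)).eval μ := by
    have h3 := congrArg (fun R : ℤ[X] => (R.map (Int.castRingHom ℂ)).eval μ) hQ
    simpa using h3
  rw [h2]
  refine locI_mul_right (locI_root_of_unity_sub_one hM hμ) (isIntegral_mem ?_)
  have hμi : IsIntegral ℤ μ := by
    refine ⟨X ^ p ^ j - 1, monic_X_pow_sub_C (1 : ℤ) (pow_pos (pm_prime hM).pos _).ne', ?_⟩
    simp [hμ]
  have h3 : (Q.map (Int.castRingHom ℂ)).eval μ = aeval μ Q := by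
    rw [eval_map, aeval_def]; rfl
  rw [h3]
  exact adjoin_le_integralClosure hμi (aeval_mem_adjoin_singleton ℤ μ)

end H78.Contr
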