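import Mathlib
import Cfsg.Agent.Lib.H78.Contr2
import Cfsg.Agent.Lib.H20.PPart

/-! Contributions: divisibility and unit properties. -/

set_option autoImplicit false
set_option linter.unusedSectionVars false
set_option linter.unusedVariables false
set_option linter.style.haveILetI false
open Cfsg H20.Loc H20.GA H20.Blk H20.Orth H20.Defect H20.Height H78.BlkCount H78.Sect
open Polynomial
open scoped ComplexConjugate

namespace H78.Contr

universe u

theorem not_locI_div {M : Ideal AlgInt} {p : ℕ} (hM : IsPModular p M) {a b : ℕ} (ha : a ≠ 0)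
    (hb : b ≠ 0) (h : b.factorization p = a.factorization p) :
    ¬ MemLocalIdeal M ((a : ℂ) / (b : ℂ)) := by
  haveI := pm_isPrime hM
  intro hc
  have h1 := H20.PPart.locR_div_of_le hM hb ha h.symm.le
  have h2 := locI_mul_right hc h1
  have ha0 : (a : ℂ) ≠ 0 := by exact_mod_cast ha
  have hb0 : (b : ℂ) ≠ 0 := by exact_mod_cast hb
  rw [show (a : ℂ) / b * (b / a) = 1 by field_simp] at h2
  exact not_locI_one h2

section ratio
variable {K : Type u} [Group K] [Fintype K] {M : Ideal AlgInt} {p : ℕ}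

/-- `p ^ q ξ(1) / |K|` -/
noncomputable def rr (p : ℕ) (b : Set (IrrCharacter K)) (ξ : IrrCharacter K) : ℂ :=
  (p : ℂ) ^ blockDefect p b * (ξ : K → ℂ) 1 / (Nat.card K : ℂ)

theorem rr_eq (b : Set (IrrCharacter K)) (ξ : IrrCharacter K) :
    rr p b ξ = ((p ^ blockDefect p b * charDegree (ξ : K → ℂ) : ℕ) : ℂ) / (Nat.card K : ℂ) := by
  rw [rr, ← charDegree_irr]
  push_cast
  rfl

theorem rr_div (hM : IsPModular p M) {b : Set (IrrCharacter K)} (hb : IsPBlock M b)
    {ξ : IrrCharacter K} (hξ : ξ ∈ b) :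
    MemLocalRing M (rr p b ξ / (p : ℂ) ^ blockHeight p b (ξ : K → ℂ)) ∧
      ¬ MemLocalIdeal M (rr p b ξ / (p : ℂ) ^ blockHeight p b (ξ : K → ℂ)) := by
  have hp := pm_prime hM
  have h1 := H78.BF.height_eq hM hb hξ
  have h2 : rr p b ξ / (p : ℂ) ^ blockHeight p b (ξ : K → ℂ) =
      ((p ^ blockDefect p b * charDegree (ξ : K → ℂ) : ℕ) : ℂ) /
        ((Nat.card K * p ^ blockHeight p b (ξ : K → ℂ) : ℕ) : ℂ) := by
    rw [rr_eq, div_div]
    push_cast
    rfl
  have ha : p ^ blockDefect p b * charDegree (ξ : K → ℂ) ≠ 0 :=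
    mul_ne_zero (pow_ne_zero _ hp.ne_zero) (charDegree_ne_zero ξ)
  have hb' : Nat.card K * p ^ blockHeight p b (ξ : K → ℂ) ≠ 0 :=
    mul_ne_zero Nat.card_pos.ne' (pow_ne_zero _ hp.ne_zero)
  have h3 : (Nat.card K * p ^ blockHeight p b (ξ : K → ℂ)).factorization p =
      (p ^ blockDefect p b * charDegree (ξ : K → ℂ)).factorization p := by
    rw [Nat.factorization_mul Nat.card_pos.ne' (pow_ne_zero _ hp.ne_zero),
      Nat.factorization_mul (pow_ne_zero _ hp.ne_zero) (charDegree_ne_zero ξ),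
      Finsupp.add_apply, Finsupp.add_apply, Nat.factorization_pow, Nat.factorization_pow,
      Finsupp.smul_apply, Finsupp.smul_apply, hp.factorization_self]
    simp only [smul_eq_mul, mul_one]
    omega
  rw [h2]
  exact ⟨H20.PPart.locR_div_of_le hM ha hb' h3.le, not_locI_div hM ha hb' h3⟩

theorem rr_memR (hM : IsPModular p M) {b : Set (IrrCharacter K)} (hb : IsPBlock M b)
    {ξ : IrrCharacter K} (hξ : ξ ∈ b) : MemLocalRing M (rr p b ξ) := by
  haveI := pm_isPrime hM
  have h1 := (rr_div hM hb hξ).1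
  have hp0 : (p : ℂ) ^ blockHeight p b (ξ : K → ℂ) ≠ 0 :=
    pow_ne_zero _ (by exact_mod_cast (pm_prime hM).ne_zero)
  have h2 := locR_mul (locR_pow (locR_natCast p) (blockHeight p b (ξ : K → ℂ))) h1
  rwa [mul_div_cancel₀ _ hp0] at h2

theorem rr_unit (hM : IsPModular p M) {b : Set (IrrCharacter K)} (hb : IsPBlock M b)
    {ξ : IrrCharacter K} (hξ : ξ ∈ b) (h0 : blockHeight p b (ξ : K → ℂ) = 0) :
    ¬ MemLocalIdeal M (rr p b ξ) := by
  have h1 := (rr_div hM hb hξ).2
  rwa [h0, pow_zero, div_one] at h1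

/-- `p ^ q [ξ°, θ] = r_ξ Q(ξ, θ)` -/
theorem inner_eq_rr (b : Set (IrrCharacter K)) (ξ : IrrCharacter K) {θ : K → ℂ}
    (hθ : IsClassFunction K θ) :
    (p : ℂ) ^ blockDefect p b * classInner (reg p (ξ : K → ℂ)) θ = rr p b ξ * Q p ξ θ hθ := by
  have h1 := H18.CharBasic.irr_one_ne_zero ξ.2
  have h2 : (Nat.card K : ℂ) ≠ 0 := by exact_mod_cast (Nat.card_pos (α := K)).ne'
  rw [Q_eq, rr]
  field_simp

end ratio

variable {G : Type u} [Group G] [Fintype G] {M : Ideal AlgInt} {p : ℕ}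
variable (H : Subgroup G) [Fintype H] (u : G)

theorem restrict_class (χ : IrrCharacter G) : IsClassFunction H (fun h : H => (χ : G → ℂ) h) :=
  H18.CharBasic.isClassFunction_of_isCharacter (H18.CharBasic.isCharacter_restrict H (irr_char χ))

/-- expansion of the inner product with a restriction. -/
theorem inner_restrict [Fintype (IrrCharacter H)] (f : H → ℂ) (ψ : IrrCharacter G) :
    classInner f (fun h : H => (ψ : G → ℂ) h) =
      ∑ ξ' : IrrCharacter H, (mult H ψ ξ' : ℂ) * classInner f (ξ' : H → ℂ) := by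
  have h1 : (fun h : H => (ψ : G → ℂ) h) = ∑ ξ' : IrrCharacter H, (mult H ψ ξ' : ℂ) •
      (ξ' : H → ℂ) := by
    funext h
    rw [restrict_expand, Finset.sum_apply]
    rfl
  rw [h1, H18.CharOrtho.inner_sum_right]
  refine Finset.sum_congr rfl fun ξ' _ => ?_
  rw [H18.CharOrtho.inner_smul_right, Complex.conj_natCast]

/-- rows of the contribution polynomial at `1` -/
theorem sum_Ni [Fintype (IrrCharacter H)] (hM : IsPModular p M) {b : Set (IrrCharacter H)}
    [DecidablePred (· ∈ b)] (hb : IsPBlock M b) {ξ : IrrCharacter H} (hξ : ξ ∈ b)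
    (ψ : IrrCharacter G) :
    ((∑ ξ' : IrrCharacter H, if ξ' ∈ b then Ni p b ξ ξ' * mult H ψ ξ' else 0 : ℤ) : ℂ) =
      rr p b ξ * Q p ξ (fun h : H => (ψ : G → ℂ) h) (restrict_class H ψ) := by
  haveI := pm_isPrime hM
  rw [← inner_eq_rr, inner_restrict, Finset.mul_sum, Int.cast_sum]
  refine Finset.sum_congr rfl fun ξ' _ => ?_
  split_ifs with h
  · rw [Int.cast_mul, ← Ni_spec hM hb hξ ξ', Int.cast_natCast]
    ring
  · rw [inner_reg_eq_zero hM (fun hs => h ((isPBlock_mem_iff hb hξ ξ').2 hs)), mul_zero, mul_zero,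
      Int.cast_zero]

theorem eval_one_eq' [Fintype (IrrCharacter H)] (hM : IsPModular p M) {b : Set (IrrCharacter H)}
    [DecidablePred (· ∈ b)] (hb : IsPBlock M b) (n : ℕ) (e : IrrCharacter H → ℕ)
    (χ ψ : IrrCharacter G) :
    (((Pol H p b n e χ ψ).eval 1 : ℤ) : ℂ) = ∑ ξ : IrrCharacter H, if ξ ∈ b then
      (mult H χ ξ : ℂ) * rr p b ξ * Q p ξ (fun h : H => (ψ : G → ℂ) h) (restrict_class H ψ)
        else 0 := by
  rw [eval_one_eq, Int.cast_sum]
  refine Finset.sum_congr rfl fun ξ _ => ?_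
  split_ifs with h
  · rw [mul_assoc, ← sum_Ni H hM hb h ψ, Int.cast_sum, Int.cast_sum, Finset.mul_sum]
    refine Finset.sum_congr rfl fun ξ' _ => ?_
    by_cases h' : ξ' ∈ b
    · rw [if_pos ⟨h, h'⟩, if_pos h']
      push_cast
      ring
    · rw [if_neg (fun hc => h' hc.2), if_neg h']
      simp
  · rw [Int.cast_sum]
    apply Finset.sum_eq_zero
    intro ξ' _
    rw [if_neg (fun hc => h hc.1), Int.cast_zero]

/-- Contributions of height zero characters are units. -/
theorem eval_one_unit [Fintype (IrrCharacter H)] (hM : IsPModular p M)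
    {b : Set (IrrCharacter H)} {B : Set (IrrCharacter G)} (hb : IsInducedBlock M H b B) (n : ℕ)
    (e : IrrCharacter H → ℕ) {χ ψ : IrrCharacter G} (hχ : χ ∈ B) (hψ : ψ ∈ B)
    (hχ0 : blockHeight p B (χ : G → ℂ) = 0) (hψ0 : blockHeight p B (ψ : G → ℂ) = 0) :
    ¬ (p : ℤ) ∣ (Pol H p b n e χ ψ).eval 1 := by
  classical
  haveI := pm_isPrime hM
  rw [← locI_intCast_iff hM, eval_one_eq' H hM hb.1]
  -- the sum `S`
  set S : ℂ := ∑ ξ : IrrCharacter H, if ξ ∈ b then (mult H χ ξ : ℂ) * rr p b ξ else 0 with hS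
  have hSR : MemLocalRing M S := by
    refine locR_sum fun ξ _ => ?_
    split_ifs with h
    · exact locR_mul (locR_natCast _) (rr_memR hM hb.1 h)
    · exact locR_zero
  -- the value is congruent to `S Q(ψ,ψ)`
  have hQ : ∀ {ξ : IrrCharacter H} (_ : ξ ∈ b) {θ : IrrCharacter G} (_ : θ ∈ B), MemLocalIdeal M
      (Q p ξ (fun h : H => (θ : G → ℂ) h) (restrict_class H θ) - Q p θ (θ : G → ℂ) (irr_class θ)) := by
    intro ξ hξ θ hθ
    exact Q_induced (p := p) hb hξ hθ (irr_class θ) (irr_int θ) (restrict_class H θ)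
  have h1 : MemLocalIdeal M ((∑ ξ : IrrCharacter H, if ξ ∈ b then
      (mult H χ ξ : ℂ) * rr p b ξ * Q p ξ (fun h : H => (ψ : G → ℂ) h) (restrict_class H ψ)
        else 0) - S * Q p ψ (ψ : G → ℂ) (irr_class ψ)) := by
    rw [hS, Finset.sum_mul]
    refine locI_sum_congr fun ξ _ => ?_
    split_ifs with h
    · rw [← mul_sub]
      exact locI_mul_left (locR_mul (locR_natCast _) (rr_memR hM hb.1 h)) (hQ h hψ)
    · simpa using locI_zero (M := M)
  intro hc
  have h2 := (locI_congr h1).1 hc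
  have hQψ : ¬ MemLocalIdeal M (Q p ψ (ψ : G → ℂ) (irr_class ψ)) :=
    (Q_unit_iff hM hb.2.1 hψ ψ).2 ⟨hψ, hψ0⟩
  have hQχ : ¬ MemLocalIdeal M (Q p χ (χ : G → ℂ) (irr_class χ)) :=
    (Q_unit_iff hM hb.2.1 hχ χ).2 ⟨hχ, hχ0⟩
  refine (not_locI_mul hSR (Q_memR ψ (irr_class ψ) (irr_int ψ)) ?_ hQψ) h2
  -- `S` is a unit
  obtain ⟨ξ0, hξ0, h00⟩ := exists_height_zero hM hb.1
  intro hSI
  have h3 : rr p b ξ0 * Q p ξ0 (fun h : H => (χ : G → ℂ) h) (restrict_class H χ) =
      ∑ ξ : IrrCharacter H, if ξ ∈ b then (mult H χ ξ : ℂ) * rr p b ξ *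
        Q p ξ (ξ0 : H → ℂ) (irr_class ξ0) else 0 := by
    rw [← inner_eq_rr, inner_restrict, Finset.mul_sum]
    refine Finset.sum_congr rfl fun ξ _ => ?_
    split_ifs with h
    · rw [mul_assoc, ← inner_eq_rr, inner_reg_symm (irr_char ξ0) (irr_char ξ)]
      ring
    · rw [inner_reg_eq_zero hM (fun hs => h ((isPBlock_mem_iff hb.1 hξ0 ξ).2 hs)), mul_zero,
        mul_zero]
  have h4 : MemLocalIdeal M (rr p b ξ0 * Q p ξ0 (fun h : H => (χ : G → ℂ) h) (restrict_class H χ) -
      S * Q p ξ0 (ξ0 : H → ℂ) (irr_class ξ0)) := by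
    rw [h3, hS, Finset.sum_mul]
    refine locI_sum_congr fun ξ _ => ?_
    split_ifs with h
    · rw [← mul_sub]
      exact locI_mul_left (locR_mul (locR_natCast _) (rr_memR hM hb.1 h))
        (Q_congr (isPBlock_sameBlock hb.1 h hξ0) (irr_class ξ0) (irr_int ξ0))
    · simpa using locI_zero (M := M)
  have h5 := (locI_congr h4).2 (locI_mul_right hSI (Q_memR ξ0 (irr_class ξ0) (irr_int ξ0)))
  have h6 : ¬ MemLocalIdeal M (Q p ξ0 (fun h : H => (χ : G → ℂ) h) (restrict_class H χ)) :=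
    fun hc => hQχ ((locI_congr (hQ hξ0 hχ)).1 hc)
  have h7 : MemLocalRing M (Q p ξ0 (fun h : H => (χ : G → ℂ) h) (restrict_class H χ)) :=
    Q_memR ξ0 (restrict_class H χ) (fun h => irr_int χ h)
  exact not_locI_mul (rr_memR hM hb.1 hξ0) h7 (rr_unit hM hb.1 hξ0 h00) h6 h5

/-- the conjugate of a value of a subsection function is a local integer. -/
theorem conj_dd_memR (hM : IsPModular p M) (hH : Subgroup.centralizer ({u} : Set G) = H)
    {b : Set (IrrCharacter H)} (hb : IsPBlock M b) (ψ : IrrCharacter G) (y : H) :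
    MemLocalRing M (conj (dd H u p b (ψ : G → ℂ) y)) := by
  classical
  haveI := pm_isPrime hM
  letI := Fintype.ofFinite (IrrCharacter H)
  by_cases hy : p ∣ orderOf y
  · rw [dd, reg_not hy, map_zero]; exact locR_zero
  rw [dd, reg_of hy]
  -- the conjugate function
  let f' : H → ℂ := fun h => conj (tr H u (ψ : G → ℂ) h⁻¹)
  have hf'c : IsClassFunction H f' := by
    intro h g
    show conj (tr H u (ψ : G → ℂ) (g * h * g⁻¹)⁻¹) = conj (tr H u (ψ : G → ℂ) h⁻¹)
    rw [show (g * h * g⁻¹)⁻¹ = g * h⁻¹ * g⁻¹ by group, tr_class H u hH (irr_class ψ) h⁻¹ g]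
  have h1 : conj (proj b (tr H u (ψ : G → ℂ)) y) = proj b f' y⁻¹ := by
    rw [proj_eq_sum, proj_eq_sum, map_sum]
    refine Finset.sum_congr rfl fun ξ _ => ?_
    split_ifs with h
    · rw [map_mul, H18.CharBasic.char_inv (irr_char ξ)]
      congr 1
      rw [classInner, classInner, map_mul, map_inv₀, Complex.conj_natCast, map_sum]
      congr 1
      rw [← Equiv.sum_comp (Equiv.inv H)]
      refine Finset.sum_congr rfl fun h _ => ?_
      simp only [Equiv.inv_apply, map_mul, f']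
      rw [H18.CharBasic.char_inv (irr_char ξ), Complex.conj_conj]
    · rw [map_zero]
  rw [h1, ← evA_eB_single b hf'c, evA_eq_sum]
  refine locR_sum fun h _ => locR_mul ?_ ?_
  · rw [coeff_mul_eq]
    refine locR_sum fun x _ => locR_mul (eB_mem hb x) ?_
    rw [MonoidAlgebra.coeff_single_apply]
    split_ifs
    · exact locR_one
    · exact locR_zero
  · apply isIntegral_mem
    exact (irr_int ψ _).map (starRingEnd ℂ).toIntAlgHom

end H78.Contr
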