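import Mathlib
import Cfsg.Agent.Lib.H78.Contr3

/-! Contributions for major subsections. -/

set_option autoImplicit false
set_option linter.unusedSectionVars false
set_option linter.unusedVariables false
set_option linter.style.haveILetI false
open Cfsg H20.Loc H20.GA H20.Blk H20.Orth H20.Defect H20.Height H78.BlkCount H78.Sect
open Polynomial
open scoped ComplexConjugate

namespace H78.Contr

universe u

variable {G : Type u} [Group G] [Fintype G] {M : Ideal AlgInt} {p : ℕ}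
variable (H : Subgroup G) [Fintype H] (u : G)

theorem exists_central (hM : IsPModular p M) [M.IsPrime]
    (hH : Subgroup.centralizer ({u} : Set G) = H)
    (hu : ∃ k : ℕ, orderOf u = p ^ k) {b : Set (IrrCharacter H)} (hb : IsPBlock M b)
    (ψ : IrrCharacter G) : ∃ z ∈ zr M G, ∀ χ : IrrCharacter G,
      omega χ z = (Nat.card G : ℂ) / (χ : G → ℂ) 1 * mm H u p b χ ψ := by
  have hp := pm_prime hM
  obtain ⟨L, hLc, hL1, -, hL3⟩ := exists_lift H u hp hH hu (dd_mem H u b (ψ : G → ℂ))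
  refine ⟨zof (fun g => conj (L g)) (conj_class hLc), ?_, ?_⟩
  · intro g
    show MemLocalRing M (conj (L g))
    rcases hL3 g with h | ⟨y, -, hy⟩
    · rw [h, map_zero]; exact locR_zero
    · rw [hy]; exact conj_dd_memR H u hM hH hb ψ y
  · intro χ
    have h1 : mm H u p b χ ψ = classInner (χ : G → ℂ) L := by
      rw [mm, ← H18.CharOrtho.inner_conj_symm, inner_dd H u hM hb (dd_mem H u b (ψ : G → ℂ)),
        ← hL1 _ (irr_class χ), H18.CharOrtho.inner_conj_symm]
    have hG : (Nat.card G : ℂ) ≠ 0 := by exact_mod_cast (Nat.card_pos (α := G)).ne'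
    rw [h1, omega_eq_sum, classInner]
    have h2 : ∑ g : G, zc (zof (fun g => conj (L g)) (conj_class hLc)) g * (χ : G → ℂ) g =
        ∑ g : G, (χ : G → ℂ) g * conj (L g) :=
      Finset.sum_congr rfl fun g _ => mul_comm _ _
    rw [h2]
    field_simp

theorem major (hM : IsPModular p M) (hH : Subgroup.centralizer ({u} : Set G) = H)
    (hu : ∃ k : ℕ, orderOf u = p ^ k) {b : Set (IrrCharacter H)} {B : Set (IrrCharacter G)}
    (hb : IsInducedBlock M H b B) (hq : blockDefect p b = blockDefect p B)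
    {χ ψ : IrrCharacter G} (hχ : χ ∈ B) (hψ : ψ ∈ B) :
    MemLocalRing M ((p : ℂ) ^ blockDefect p b * mm H u p b χ ψ /
      (p : ℂ) ^ blockHeight p B (χ : G → ℂ)) ∧
    (MemLocalIdeal M ((p : ℂ) ^ blockDefect p b * mm H u p b χ ψ /
      (p : ℂ) ^ blockHeight p B (χ : G → ℂ)) ↔ blockHeight p B (ψ : G → ℂ) ≠ 0) := by
  classical
  haveI := pm_isPrime hM
  have hp := pm_prime hM
  letI := Fintype.ofFinite (IrrCharacter H)
  have key : ∀ {χ ψ : IrrCharacter G}, χ ∈ B → ψ ∈ B → ∃ s w : ℂ, MemLocalRing M s ∧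
      ¬ MemLocalIdeal M s ∧ MemLocalRing M w ∧
      w = (Nat.card G : ℂ) / (χ : G → ℂ) 1 * mm H u p b χ ψ ∧
      (p : ℂ) ^ blockDefect p b * mm H u p b χ ψ / (p : ℂ) ^ blockHeight p B (χ : G → ℂ) =
        s * w := by
    intro χ ψ hχ hψ
    obtain ⟨z, hz, hz2⟩ := exists_central H u hM hH hu hb.1 ψ
    obtain ⟨h1, h2⟩ := rr_div hM hb.2.1 hχ
    refine ⟨_, _, h1, h2, omega_mem χ hz, hz2 χ, ?_⟩
    rw [hz2, rr, hq]
    have h3 := H18.CharBasic.irr_one_ne_zero χ.2
    have hG : (Nat.card G : ℂ) ≠ 0 := by exact_mod_cast (Nat.card_pos (α := G)).ne'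
    field_simp
  have hR : ∀ {χ ψ : IrrCharacter G}, χ ∈ B → ψ ∈ B →
      MemLocalRing M ((p : ℂ) ^ blockDefect p b * mm H u p b χ ψ /
      (p : ℂ) ^ blockHeight p B (χ : G → ℂ)) := by
    intro χ ψ hχ hψ
    obtain ⟨s, w, h1, -, h3, -, h5⟩ := key hχ hψ
    rw [h5]; exact locR_mul h1 h3
  refine ⟨hR hχ hψ, ?_⟩
  -- reduction to a height zero character
  obtain ⟨χ0, hχ0, h0⟩ := exists_height_zero hM hb.2.1
  have h1 : MemLocalIdeal M ((p : ℂ) ^ blockDefect p b * mm H u p b χ ψ /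
      (p : ℂ) ^ blockHeight p B (χ : G → ℂ)) ↔
      MemLocalIdeal M ((p : ℂ) ^ blockDefect p b * mm H u p b χ0 ψ) := by
    obtain ⟨s, w, h1, h2, h3, h4, h5⟩ := key hχ hψ
    obtain ⟨s', w', h1', h2', h3', h4', h5'⟩ := key hχ0 hψ
    rw [h0, pow_zero, div_one] at h5'
    rw [h5, h5']
    obtain ⟨z, hz, hz2⟩ := exists_central H u hM hH hu hb.1 ψ
    have h6 : MemLocalIdeal M (w - w') := by
      rw [h4, h4', ← hz2, ← hz2]
      exact sameBlock_iff.1 (isPBlock_sameBlock hb.2.1 hχ hχ0) z hz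
    have h7 : ∀ {s w : ℂ}, MemLocalRing M s → ¬ MemLocalIdeal M s → MemLocalRing M w →
        (MemLocalIdeal M (s * w) ↔ MemLocalIdeal M w) := by
      intro s w hs hs' hw
      refine ⟨fun h => ?_, fun h => locI_mul_left hs h⟩
      rcases locI_or_locI hs hw h with h8 | h8
      · exact absurd h8 hs'
      · exact h8
    rw [h7 h1 h2 h3, h7 h1' h2' h3', locI_congr h6]
  -- polynomials
  have hum := mem_of_centralizer H u hH
  obtain ⟨j, hj⟩ := hu
  have hn : p ^ j ≠ 0 := pow_ne_zero _ hp.ne_zero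
  have hun : u ^ p ^ j = 1 := by rw [← hj]; exact pow_orderOf_eq_one u
  have hζ := Complex.isPrimitiveRoot_exp (p ^ j) hn
  set ζ := Complex.exp (2 * Real.pi * Complex.I / ((p ^ j : ℕ) : ℂ)) with hζd
  obtain ⟨e, he⟩ := exists_exp H u hH hum hn hun hζ
  have h2 : ∀ χ ψ : IrrCharacter G, MemLocalIdeal M ((p : ℂ) ^ blockDefect p b *
      mm H u p b χ ψ) ↔ (p : ℤ) ∣ (Pol H p b (p ^ j) e χ ψ).eval 1 := by
    intro χ ψ
    have h3 := mm_eq_eval H u hM hn hζ.pow_eq_one he hb.1 χ ψ 1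
    rw [pow_one, pow_one] at h3
    rw [h3, locI_congr (eval_congr hM _ hζ.pow_eq_one), locI_intCast_iff hM]
  rw [h1, h2, eval_one_symm H hM hb.1, ← h2]
  constructor
  · intro h3 h4
    rw [h2] at h3
    exact eval_one_unit H hM hb (p ^ j) e hψ hχ0 h4 h0 h3
  · intro h3
    have h4 := hR hψ hχ0
    have hp0 : (p : ℂ) ^ blockHeight p B (ψ : G → ℂ) ≠ 0 :=
      pow_ne_zero _ (by exact_mod_cast hp.ne_zero)
    have h5 := locI_mul_left h4 (locI_pow (locI_p hM) h3)
    rwa [div_mul_cancel₀ _ hp0] at h5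

/-- centralizers of coprime powers -/
theorem centralizer_pow {n k : ℕ} (hun : u ^ n = 1) (hk : k.Coprime n) :
    Subgroup.centralizer ({u ^ k} : Set G) = Subgroup.centralizer ({u} : Set G) := by
  ext x
  rw [Subgroup.mem_centralizer_singleton_iff, Subgroup.mem_centralizer_singleton_iff]
  constructor
  · intro h
    have hko : k.Coprime (orderOf u) := Nat.Coprime.coprime_dvd_right (orderOf_dvd_of_pow_eq_one hun) hk
    obtain ⟨m, hm⟩ := exists_pow_eq_self_of_coprime hko
    rw [← hm]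
    exact (Commute.pow_right (show Commute x (u ^ k) from h) m)
  · intro h
    exact (Commute.pow_right (show Commute x u from h) k)

end H78.Contr
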