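import Mathlib
import Cfsg.Agent.Lib.H78.Contr2

/-! Two-power cyclotomic integers. -/

set_option autoImplicit false
set_option linter.unusedSectionVars false
set_option linter.unusedVariables false
set_option linter.style.haveILetI false
open Cfsg H20.Loc Polynomial
open scoped ComplexConjugate

namespace H78.Cyc2

variable {M : Ideal AlgInt} {m : ℕ} {ζ : ℂ}

/-- evaluation of an integral polynomial -/
noncomputable def ev (f : ℤ[X]) (μ : ℂ) : ℂ := (f.map (Int.castRingHom ℂ)).eval μ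

theorem ev_add (f g : ℤ[X]) (μ : ℂ) : ev (f + g) μ = ev f μ + ev g μ := by simp [ev]
theorem ev_sub (f g : ℤ[X]) (μ : ℂ) : ev (f - g) μ = ev f μ - ev g μ := by simp [ev]
theorem ev_mul (f g : ℤ[X]) (μ : ℂ) : ev (f * g) μ = ev f μ * ev g μ := by simp [ev]
theorem ev_C (c : ℤ) (μ : ℂ) : ev (C c) μ = c := by simp [ev]
theorem ev_X (μ : ℂ) : ev X μ = μ := by simp [ev]
theorem ev_pow (f : ℤ[X]) (k : ℕ) (μ : ℂ) : ev (f ^ k) μ = ev f μ ^ k := by simp [ev]
theorem ev_one (μ : ℂ) : ev 1 μ = 1 := by simp [ev]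

theorem ev_eq_sum {f : ℤ[X]} (hf : f.natDegree < m) (μ : ℂ) :
    ev f μ = ∑ k ∈ Finset.range m, (f.coeff k : ℂ) * μ ^ k := by
  rw [ev, eval_eq_sum_range' (lt_of_le_of_lt natDegree_map_le hf)]
  refine Finset.sum_congr rfl fun k _ => ?_
  rw [coeff_map, eq_intCast]

theorem pow_m (hζ : IsPrimitiveRoot ζ (2 * m)) (hm : m ≠ 0) : ζ ^ m = -1 := by
  have h1 : (ζ ^ m) * (ζ ^ m) = 1 := by rw [← pow_add, ← two_mul, hζ.pow_eq_one]
  have h2 : ζ ^ m ≠ 1 := by
    intro h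
    have := hζ.dvd_of_pow_eq_one m h
    have := Nat.le_of_dvd (Nat.pos_of_ne_zero hm) this
    omega
  rcases mul_self_eq_one_iff.1 h1 with h | h
  · exact absurd h h2
  · exact h

theorem root_pow_m (hζ : IsPrimitiveRoot ζ (2 * m)) (hm : m ≠ 0) (t : ℕ) :
    (ζ ^ (2 * t + 1)) ^ m = -1 := by
  rw [← pow_mul, mul_comm, pow_mul, pow_m hζ hm]
  exact Odd.neg_one_pow ⟨t, rfl⟩

theorem root_pow_n (hζ : IsPrimitiveRoot ζ (2 * m)) (t : ℕ) :
    (ζ ^ (2 * t + 1)) ^ (2 * m) = 1 := by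
  rw [← pow_mul, mul_comm, pow_mul, hζ.pow_eq_one, one_pow]

theorem norm_root (hζ : IsPrimitiveRoot ζ (2 * m)) (hm : m ≠ 0) (t : ℕ) :
    conj (ζ ^ (2 * t + 1)) * ζ ^ (2 * t + 1) = 1 := by
  have h2 : ‖ζ ^ (2 * t + 1)‖ = 1 :=
    Complex.norm_eq_one_of_pow_eq_one (root_pow_n hζ t) (by omega)
  rw [mul_comm, Complex.mul_conj, Complex.normSq_eq_norm_sq, h2]; norm_num

/-- orthogonality -/
theorem sum_orth (hζ : IsPrimitiveRoot ζ (2 * m)) (hm : m ≠ 0) {k l : ℕ} (hk : k < m) (hl : l < m) :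
    ∑ t ∈ Finset.range m, conj (ζ ^ (2 * t + 1)) ^ k * (ζ ^ (2 * t + 1)) ^ l =
      if k = l then (m : ℂ) else 0 := by
  set r : ℂ := conj ζ ^ k * ζ ^ l with hr
  have h0 : conj ζ * ζ = 1 := by have := norm_root hζ hm 0; simpa using this
  have h1 : ∀ t : ℕ, conj (ζ ^ (2 * t + 1)) ^ k * (ζ ^ (2 * t + 1)) ^ l = r * (r ^ 2) ^ t := by
    intro t
    rw [map_pow, hr]
    ring
  have hrm : (r ^ 2) ^ m = 1 := by
    have h2 : conj ζ ^ (2 * m) = 1 := by rw [← map_pow, hζ.pow_eq_one, map_one]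
    calc (r ^ 2) ^ m = (conj ζ ^ (2 * m)) ^ k * (ζ ^ (2 * m)) ^ l := by rw [hr]; ring
      _ = 1 := by rw [h2, hζ.pow_eq_one, one_pow, one_pow, one_mul]
  simp_rw [h1]
  rw [← Finset.mul_sum]
  split_ifs with hkl
  · subst hkl
    have : r = 1 := by rw [hr, ← mul_pow, h0, one_pow]
    rw [this]
    simp
  · have h3 : r ^ 2 ≠ 1 := by
      intro h
      apply hkl
      have h4 : ζ ^ (2 * l) = ζ ^ (2 * k) := by
        have h5 : (ζ ^ (2 * k)) * r ^ 2 = (conj ζ * ζ) ^ (2 * k) * ζ ^ (2 * l) := by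
          rw [hr]; ring
        rw [h, h0, one_pow, one_mul, mul_one] at h5
        exact h5.symm
      have := hζ.pow_inj (by omega) (by omega) h4
      omega
    rw [geom_sum_eq h3, hrm, sub_self, zero_div, mul_zero]

theorem sum_coeff (hζ : IsPrimitiveRoot ζ (2 * m)) (hm : m ≠ 0) {f : ℤ[X]} (hf : f.natDegree < m)
    {k : ℕ} (hk : k < m) :
    ∑ t ∈ Finset.range m, conj (ζ ^ (2 * t + 1)) ^ k * ev f (ζ ^ (2 * t + 1)) = m * f.coeff k := by
  simp_rw [ev_eq_sum hf, Finset.mul_sum]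
  rw [Finset.sum_comm, Finset.sum_eq_single k]
  · have h1 : ∀ t ∈ Finset.range m, conj (ζ ^ (2 * t + 1)) ^ k * ((f.coeff k : ℂ) *
        (ζ ^ (2 * t + 1)) ^ k) = (conj (ζ ^ (2 * t + 1)) ^ k * (ζ ^ (2 * t + 1)) ^ k) *
          (f.coeff k : ℂ) := fun t _ => by ring
    rw [Finset.sum_congr rfl h1, ← Finset.sum_mul, sum_orth hζ hm hk hk, if_pos rfl]
  · intro l hl hlk
    have h1 : ∀ t ∈ Finset.range m, conj (ζ ^ (2 * t + 1)) ^ k * ((f.coeff l : ℂ) *
        (ζ ^ (2 * t + 1)) ^ l) = (conj (ζ ^ (2 * t + 1)) ^ k * (ζ ^ (2 * t + 1)) ^ l) *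
          (f.coeff l : ℂ) := fun t _ => by ring
    rw [Finset.sum_congr rfl h1, ← Finset.sum_mul, sum_orth hζ hm hk (Finset.mem_range.1 hl),
      if_neg (fun h => hlk h.symm), zero_mul]
  · intro h; exact absurd (Finset.mem_range.2 hk) h

/-- average of an integral polynomial -/
theorem sum_ev (hζ : IsPrimitiveRoot ζ (2 * m)) (hm : m ≠ 0) {f : ℤ[X]} (hf : f.natDegree < m) :
    ∑ t ∈ Finset.range m, ev f (ζ ^ (2 * t + 1)) = m * f.coeff 0 := by
  have := sum_coeff hζ hm hf (Nat.pos_of_ne_zero hm)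
  simpa using this

/-- for real values the value at one is the average -/
theorem eval_one_of_real (hζ : IsPrimitiveRoot ζ (2 * m)) (hm : m ≠ 0) {f : ℤ[X]}
    (hf : f.natDegree < m) (hreal : ∀ t, conj (ev f (ζ ^ (2 * t + 1))) = ev f (ζ ^ (2 * t + 1))) :
    f.eval 1 = f.coeff 0 := by
  have hm0 : (m : ℂ) ≠ 0 := by exact_mod_cast hm
  have h1 : ∀ k, k < m - 1 → f.coeff (k + 1) = - f.coeff (m - 1 - 1 - k + 1) := by
    intro k hk
    have h2 := sum_coeff hζ hm hf (k := k + 1) (by omega)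
    have h3 := sum_coeff hζ hm hf (k := m - 1 - 1 - k + 1) (by omega)
    have h4 := congrArg conj h2
    rw [map_sum, map_mul, Complex.conj_natCast, map_intCast] at h4
    have h5 : ∀ t ∈ Finset.range m, conj (conj (ζ ^ (2 * t + 1)) ^ (k + 1) *
        ev f (ζ ^ (2 * t + 1))) = - (conj (ζ ^ (2 * t + 1)) ^ (m - 1 - 1 - k + 1) *
        ev f (ζ ^ (2 * t + 1))) := by
      intro t _
      rw [map_mul, hreal, map_pow, Complex.conj_conj]
      have h6 := root_pow_m hζ hm t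
      have h7 := norm_root hζ hm t
      set μ := ζ ^ (2 * t + 1)
      have h8 : μ ^ (k + 1) = - (conj μ ^ (m - 1 - 1 - k + 1)) := by
        have h9 : μ ^ (k + 1) * (conj μ * μ) ^ (m - 1 - 1 - k + 1) =
            μ ^ m * conj μ ^ (m - 1 - 1 - k + 1) := by
          rw [mul_pow, mul_left_comm, ← pow_add, show k + 1 + (m - 1 - 1 - k + 1) = m by omega]
          ring
        rw [h7, one_pow, mul_one, h6] at h9
        rw [h9]; ring
      rw [h8]; ring
    rw [Finset.sum_congr rfl h5, Finset.sum_neg_distrib, h3] at h4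
    have h6 : (f.coeff (k + 1) : ℂ) = - f.coeff (m - 1 - 1 - k + 1) := by
      have : (m : ℂ) * (f.coeff (k + 1) : ℂ) = m * (- f.coeff (m - 1 - 1 - k + 1)) := by
        rw [← h4]; ring
      exact mul_left_cancel₀ hm0 this
    exact_mod_cast h6
  obtain ⟨m', rfl⟩ := Nat.exists_eq_succ_of_ne_zero hm
  rw [eval_eq_sum_range' hf, Finset.sum_range_succ']
  simp only [one_pow, mul_one]
  have h2 : ∑ k ∈ Finset.range m', f.coeff (k + 1) = 0 := by
    have h3 : ∑ k ∈ Finset.range m', f.coeff (k + 1) =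
        - ∑ k ∈ Finset.range m', f.coeff (k + 1) := by
      conv_rhs => rw [← Finset.sum_range_reflect]
      rw [← Finset.sum_neg_distrib]
      refine Finset.sum_congr rfl fun k hk => ?_
      have := h1 k (by have := Finset.mem_range.1 hk; omega)
      simpa using this
    omega
  rw [h2, zero_add]

/-- reduction modulo `X ^ m + 1` -/
noncomputable def red (m : ℕ) (P : ℤ[X]) : ℤ[X] := P %ₘ (X ^ m + 1)

theorem monic_X (hm : m ≠ 0) : (X ^ m + 1 : ℤ[X]).Monic := by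
  have := monic_X_pow_add_C (1 : ℤ) hm
  simpa using this

theorem red_degree (hm : m ≠ 0) (P : ℤ[X]) : (red m P).natDegree < m := by
  have h1 : (X ^ m + 1 : ℤ[X]).natDegree = m := by
    have := natDegree_X_pow_add_C (n := m) (r := (1 : ℤ))
    simpa using this
  have h2 := natDegree_modByMonic_lt P (monic_X hm) (by
    intro h
    have := congrArg Polynomial.natDegree h
    rw [h1, natDegree_one] at this
    exact hm this)
  rwa [h1] at h2

theorem red_ev (P : ℤ[X]) (hm : m ≠ 0) {μ : ℂ} (hμ : μ ^ m = -1) : ev (red m P) μ = ev P μ := by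
  have h1 := modByMonic_add_div P (X ^ m + 1 : ℤ[X])
  have h2 := congrArg (fun f => ev f μ) h1
  simp only [ev_add, ev_mul, ev_pow, ev_X, ev_one, hμ] at h2
  rw [← h2, red]
  ring

theorem red_eval_one (P : ℤ[X]) (hm : m ≠ 0) : (2 : ℤ) ∣ (red m P).eval 1 ↔ (2 : ℤ) ∣ P.eval 1 := by
  have h1 := modByMonic_add_div P (X ^ m + 1 : ℤ[X])
  have h2 := congrArg (fun f : ℤ[X] => f.eval 1) h1
  simp only [eval_add, eval_mul, eval_pow, eval_X, eval_one, one_pow] at h2
  rw [← h2, red]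
  constructor
  · intro h; exact dvd_add h ⟨(P /ₘ (X ^ m + 1)).eval 1, by norm_num⟩
  · intro h
    have : (2 : ℤ) ∣ (1 + 1) * (P /ₘ (X ^ m + 1)).eval 1 :=
      ⟨(P /ₘ (X ^ m + 1)).eval 1, by norm_num⟩
    exact (Int.dvd_add_left this).1 h

theorem isIntegral_root (hζ : IsPrimitiveRoot ζ (2 * m)) (hm : m ≠ 0) : IsIntegral ℤ ζ := by
  refine ⟨X ^ (2 * m) - 1, monic_X_pow_sub_C (1 : ℤ) (by omega), ?_⟩
  simp [hζ.pow_eq_one]

theorem isIntegral_ev {μ : ℂ} (hμ : IsIntegral ℤ μ) (f : ℤ[X]) : IsIntegral ℤ (ev f μ) := by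
  have h3 : ev f μ = aeval μ f := by rw [ev, eval_map, aeval_def]; rfl
  rw [h3]
  exact adjoin_le_integralClosure hμ (aeval_mem_adjoin_singleton ℤ μ)

/-- divisibility of the coefficients: the first step. -/
theorem two_dvd (hM : IsPModular 2 M) {i : ℕ} (hmi : m = 2 ^ i) (hζ : IsPrimitiveRoot ζ (2 * m))
    {f : ℤ[X]} (hf : f.natDegree < m) (h : MemLocalRing M (ev f ζ / 2)) : C (2 : ℤ) ∣ f := by
  haveI := pm_isPrime hM
  haveI := hM.2.1
  haveI : Fact (Nat.Prime 2) := ⟨Nat.prime_two⟩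
  have hm : m ≠ 0 := by rw [hmi]; positivity
  have hζi := isIntegral_root hζ hm
  have hζpow : ζ ^ 2 ^ (i + 1) = 1 := by rw [pow_succ', ← hmi, hζ.pow_eq_one]
  have hred : ∀ P : ℤ[X], (P.map (Int.castRingHom (ZMod 2)) = 0 → C (2 : ℤ) ∣ P) := by
    intro P hP
    rw [C_dvd_iff_dvd_coeff]
    intro k
    have h1 := congrArg (fun Q : (ZMod 2)[X] => Q.coeff k) hP
    simp only [coeff_map, coeff_zero, eq_intCast] at h1
    exact_mod_cast (ZMod.intCast_zmod_eq_zero_iff_dvd _ 2).1 h1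
  by_contra hnd
  set fb := f.map (Int.castRingHom (ZMod 2)) with hfb
  have hfb0 : fb ≠ 0 := fun h0 => hnd (hred f h0)
  obtain ⟨gb, hgb, hgb1⟩ := exists_eq_pow_rootMultiplicity_mul_and_not_dvd fb hfb0 1
  set r := fb.rootMultiplicity 1 with hr
  have hrm : r < m := by
    have h1 : r ≤ fb.natDegree := by
      have h2 := natDegree_le_of_dvd (Dvd.intro _ hgb.symm) hfb0
      rw [natDegree_pow, natDegree_X_sub_C, mul_one] at h2
      exact h2
    exact lt_of_le_of_lt h1 (lt_of_le_of_lt natDegree_map_le hf)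
  obtain ⟨g, hg⟩ := map_surjective (Int.castRingHom (ZMod 2)) (ZMod.intCast_surjective) gb
  -- `f = (X - 1)^r g + 2 F`
  obtain ⟨F, hF⟩ := hred (f - (X - C 1) ^ r * g) (by
    rw [Polynomial.map_sub, Polynomial.map_mul, hg, Polynomial.map_pow, Polynomial.map_sub, map_X,
      Polynomial.map_C, map_one, ← hfb]
    rw [sub_eq_zero]
    exact hgb)
  have hg1 : ¬ (2 : ℤ) ∣ g.eval 1 := by
    intro h2
    apply hgb1
    rw [dvd_iff_isRoot, IsRoot, ← hg]
    rw [show (1 : ZMod 2) = Int.castRingHom (ZMod 2) 1 by simp, eval_map, eval₂_at_apply,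
      eq_intCast, ZMod.intCast_zmod_eq_zero_iff_dvd]
    exact_mod_cast h2
  have hgu : ¬ MemLocalIdeal M (ev g ζ) := by
    rw [ev, locI_congr (H78.Contr.eval_congr hM g hζpow), locI_intCast_iff hM]
    exact_mod_cast hg1
  have hgR : MemLocalRing M (ev g ζ) := isIntegral_mem (isIntegral_ev hζi g)
  have h2F : ev f ζ = (ζ - 1) ^ r * ev g ζ + 2 * ev F ζ := by
    have h3 := congrArg (fun P => ev P ζ) hF
    simp only [ev_sub, ev_mul, ev_pow, ev_X, ev_C] at h3
    push_cast at h3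
    linear_combination h3
  have hr2 : MemLocalRing M ((ζ - 1) ^ r / 2) := by
    have h3 : (ζ - 1) ^ r / 2 = (ev f ζ / 2 - ev F ζ) * (ev g ζ)⁻¹ := by
      have hg0 : ev g ζ ≠ 0 := fun h0 => hgu (h0 ▸ locI_zero)
      rw [h2F]
      field_simp
      ring
    rw [h3]
    exact locR_mul (locR_sub h (isIntegral_mem (isIntegral_ev hζi F))) (locR_inv hgR hgu)
  -- `(ζ - 1)^m = -2 (1 - W ζ)`
  obtain ⟨W, hW⟩ := hred ((X - C 1) ^ m - (X ^ m - C 1)) (by
    rw [Polynomial.map_sub, Polynomial.map_sub, Polynomial.map_pow, Polynomial.map_sub,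
      Polynomial.map_pow, map_X, Polynomial.map_C, map_one, hmi, sub_pow_char_pow, C_1,
      one_pow, sub_self])
  have hW1 : W.eval 1 = 0 := by
    have h3 := congrArg (fun P : ℤ[X] => P.eval 1) hW
    simp only [eval_sub, eval_mul, eval_pow, eval_X, eval_C, sub_self, one_pow, zero_pow hm] at h3
    omega
  have hWI : MemLocalIdeal M (ev W ζ) := by
    have := H78.Contr.eval_congr hM W hζpow
    rw [hW1, Int.cast_zero, sub_zero] at this
    exact this
  have h1W : ¬ MemLocalIdeal M (1 - ev W ζ) := by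
    intro hc
    have := locI_add hc hWI
    rw [sub_add_cancel] at this
    exact not_locI_one this
  have hζ1 : (ζ - 1) ^ m = -2 * (1 - ev W ζ) := by
    have h3 := congrArg (fun P => ev P ζ) hW
    simp only [ev_sub, ev_mul, ev_pow, ev_X, ev_C, pow_m hζ hm] at h3
    push_cast at h3
    linear_combination h3
  have h1W0 : (1 - ev W ζ) ≠ 0 := fun h0 => h1W (h0 ▸ locI_zero)
  have hWR : MemLocalRing M ((1 - ev W ζ)⁻¹) :=
    locR_inv (locR_sub locR_one (isIntegral_mem (isIntegral_ev hζi W))) h1W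
  have hζne : ζ - 1 ≠ 0 := by
    intro h0
    rw [h0, zero_pow hm] at hζ1
    have := mul_eq_zero.1 hζ1.symm
    rcases this with h3 | h3
    · norm_num at h3
    · exact h1W0 h3
  apply not_locI_one (M := M)
  have h4 : (1 : ℂ) = (ζ - 1) ^ (m - r) * ((ζ - 1) ^ r / 2 * (-1 * (1 - ev W ζ)⁻¹)) := by
    have h5 : (ζ - 1) ^ (m - r) * (ζ - 1) ^ r = -2 * (1 - ev W ζ) := by
      rw [← pow_add, Nat.sub_add_cancel hrm.le, hζ1]
    calc (1 : ℂ) = (1 - ev W ζ) * (1 - ev W ζ)⁻¹ := (mul_inv_cancel₀ h1W0).symm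
      _ = (-2 * (1 - ev W ζ)) * (-1 / 2 * (1 - ev W ζ)⁻¹) := by ring
      _ = ((ζ - 1) ^ (m - r) * (ζ - 1) ^ r) * (-1 / 2 * (1 - ev W ζ)⁻¹) := by rw [h5]
      _ = _ := by ring
  rw [h4]
  refine locI_mul_right (locI_pow (locI_root_of_unity_sub_one hM hζpow) (by omega)) ?_
  refine locR_mul hr2 (locR_mul ?_ hWR)
  exact locR_neg locR_one

theorem two_pow_dvd (hM : IsPModular 2 M) {i : ℕ} (hmi : m = 2 ^ i)
    (hζ : IsPrimitiveRoot ζ (2 * m)) (k : ℕ) :
    ∀ {f : ℤ[X]}, f.natDegree < m → MemLocalRing M (ev f ζ / 2 ^ k) → C ((2 : ℤ) ^ k) ∣ f := by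
  haveI := pm_isPrime hM
  induction k with
  | zero => intro f _ _; simp
  | succ k ih =>
    intro f hf h
    have h1 : MemLocalRing M (ev f ζ / 2) := by
      have h2 := locR_mul (locR_pow (locR_natCast 2) k) h
      have h3 : ((2 : ℕ) : ℂ) ^ k * (ev f ζ / 2 ^ (k + 1)) = ev f ζ / 2 := by
        push_cast
        rw [pow_succ]
        field_simp
      rwa [h3] at h2
    obtain ⟨g, hg⟩ := two_dvd hM hmi hζ hf h1
    have hgd : g.natDegree < m := by
      rw [hg, natDegree_C_mul (by norm_num : (2 : ℤ) ≠ 0)] at hf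
      exact hf
    have h2 : MemLocalRing M (ev g ζ / 2 ^ k) := by
      have h3 : ev g ζ / 2 ^ k = ev f ζ / 2 ^ (k + 1) := by
        rw [hg, ev_mul, ev_C, pow_succ]
        push_cast
        field_simp
      rw [h3]; exact h
    obtain ⟨g', hg'⟩ := ih hgd h2
    refine ⟨g', ?_⟩
    rw [hg, hg', ← mul_assoc, ← C_mul, pow_succ, mul_comm (2 : ℤ)]

end H78.Cyc2
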