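import Mathlib
import Cfsg.Agent.Lib.H78.Contr4
import Cfsg.Agent.Lib.H78.Cyc2

/-! Contributions as functions on the primitive roots of unity. -/

set_option autoImplicit false
set_option linter.unusedSectionVars false
set_option linter.unusedVariables false
set_option linter.style.haveILetI false
open Cfsg H20.Loc H20.GA H20.Blk H20.Orth H20.Defect H20.Height H78.BlkCount H78.Sect
open Polynomial H78.Cyc2
open scoped ComplexConjugate

namespace H78.Contr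

universe u

section norm
variable {M : Ideal AlgInt} {p : ℕ}

/-- The norm inequality. -/
theorem norm_ineq (hM : IsPModular p M) {n : ℕ} (hn : n ≠ 0) {f : ℤ[X]} {k : ℕ}
    (hk : ∀ μ ∈ primitiveRoots n ℂ, MemLocalRing M (ev f μ / (p : ℂ) ^ k)) {ζ : ℂ}
    (hζ : IsPrimitiveRoot ζ n) (h0 : ev f ζ ≠ 0) :
    ((primitiveRoots n ℂ).card : ℝ) * ((p : ℝ) ^ k) ^ 2 ≤
      ∑ μ ∈ primitiveRoots n ℂ, ‖ev f μ‖ ^ 2 := by
  haveI := pm_isPrime hM
  have hp := pm_prime hM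
  have hn' := Nat.pos_of_ne_zero hn
  have hp0 : (0 : ℝ) < (p : ℝ) ^ k := pow_pos (by exact_mod_cast hp.pos) _
  have hpc : (p : ℂ) ≠ 0 := by exact_mod_cast hp.ne_zero
  obtain ⟨N, hN⟩ := H84.CyclicNorm.prod_eval_int n hn' f
  have hne : ∀ μ ∈ primitiveRoots n ℂ, ev f μ ≠ 0 := fun μ hμ =>
    H84.CyclicNorm.eval_ne_zero hn' f hζ ((mem_primitiveRoots hn').1 hμ) h0
  have hN' : ∏ μ ∈ primitiveRoots n ℂ, ev f μ = (N : ℂ) := hN
  have hN0 : N ≠ 0 := by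
    intro h
    rw [h, Int.cast_zero] at hN'
    exact (Finset.prod_ne_zero_iff.2 hne) hN'
  set c := (primitiveRoots n ℂ).card with hc
  have h1 : MemLocalRing M ((N : ℂ) / (p : ℂ) ^ (k * c)) := by
    have h2 : (N : ℂ) / (p : ℂ) ^ (k * c) = ∏ μ ∈ primitiveRoots n ℂ, (ev f μ / (p : ℂ) ^ k) := by
      rw [Finset.prod_div_distrib, hN', Finset.prod_const, pow_mul, hc]
    rw [h2]
    exact locR_prod hk
  have h2 := dvd_of_div_mem hM h1
  obtain ⟨N', hN'2⟩ := h2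
  have h3 : 1 ≤ |N'| := Int.one_le_abs (by rintro rfl; exact hN0 (by rw [hN'2, mul_zero]))
  have h4 : (1 : ℝ) ≤ ∏ μ ∈ primitiveRoots n ℂ, (‖ev f μ‖ ^ 2 / ((p : ℝ) ^ k) ^ 2) := by
    rw [Finset.prod_div_distrib, Finset.prod_pow, ← norm_prod, hN', Finset.prod_const, ← hc,
      ← pow_mul, mul_comm 2 c, pow_mul, ← div_pow, Complex.norm_intCast, hN'2]
    apply one_le_pow₀
    push_cast
    rw [abs_mul, abs_pow, Nat.abs_cast, pow_mul, mul_comm, mul_div_assoc, div_self (pow_pos hp0 _).ne',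
      mul_one]
    exact_mod_cast h3
  have h5 := H84.CyclicNorm.card_le_sum_of_one_le_prod (primitiveRoots n ℂ)
    (fun μ => ‖ev f μ‖ ^ 2 / ((p : ℝ) ^ k) ^ 2) (fun μ hμ => by
      have := norm_pos_iff.2 (hne μ hμ)
      positivity) h4
  rw [← Finset.sum_div, le_div_iff₀ (by positivity)] at h5
  exact h5

/-- the same inequality without divisibility -/
theorem norm_ineq_one {n : ℕ} (hn : n ≠ 0) {f : ℤ[X]} {ζ : ℂ}
    (hζ : IsPrimitiveRoot ζ n) (h0 : ev f ζ ≠ 0) :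
    ((primitiveRoots n ℂ).card : ℝ) ≤ ∑ μ ∈ primitiveRoots n ℂ, ‖ev f μ‖ ^ 2 := by
  have := H84.CyclicNorm.card_le_sum_norm_sq (Nat.pos_of_ne_zero hn) f hζ h0
  rwa [← hζ.card_primitiveRoots] at this

/-- the inequality for the values themselves -/
theorem norm_ineq_val {n : ℕ} (hn : n ≠ 0) {f : ℤ[X]} {ζ : ℂ}
    (hζ : IsPrimitiveRoot ζ n) (h0 : ev f ζ ≠ 0) :
    ((primitiveRoots n ℂ).card : ℝ) ≤ ∑ μ ∈ primitiveRoots n ℂ, ‖ev f μ‖ := by
  have := H84.CyclicNorm.card_le_sum_norm (Nat.pos_of_ne_zero hn) f hζ h0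
  rwa [← hζ.card_primitiveRoots] at this

end norm

variable {G : Type u} [Group G] [Fintype G] {M : Ideal AlgInt} {p : ℕ}

/-- The situation: a `p`-element `u` with centralizer `H` and `u ^ n = 1`, `n` a power of `p`. -/
structure Sit (M : Ideal AlgInt) (p : ℕ) (H : Subgroup G) (u : G) (n : ℕ) (ζ : ℂ)
    (e : IrrCharacter H → ℕ) (b : Set (IrrCharacter H)) (B : Set (IrrCharacter G)) : Prop where
  hM : IsPModular p M
  hH : Subgroup.centralizer ({u} : Set G) = H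
  hn : ∃ j : ℕ, n = p ^ j
  hun : u ^ n = 1
  hζ : IsPrimitiveRoot ζ n
  hu : u ∈ H
  he : IsExp H u n ζ e hu
  hb : IsInducedBlock M H b B

theorem exists_sit {H : Subgroup G} [Fintype H] {u : G} (hM : IsPModular p M)
    (hH : Subgroup.centralizer ({u} : Set G) = H) (hu : ∃ k : ℕ, orderOf u = p ^ k)
    {b : Set (IrrCharacter H)} {B : Set (IrrCharacter G)} (hb : IsInducedBlock M H b B) :
    ∃ (i : ℕ) (ζ : ℂ) (e : IrrCharacter H → ℕ), Sit M p H u (p ^ (i + 1)) ζ e b B := by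
  obtain ⟨k, hk⟩ := hu
  have hp := pm_prime hM
  have hn : p ^ (k + 1) ≠ 0 := pow_ne_zero _ hp.ne_zero
  have hun : u ^ p ^ (k + 1) = 1 := by
    rw [pow_succ, pow_mul, ← hk, pow_orderOf_eq_one, one_pow]
  have hum := mem_of_centralizer H u hH
  obtain ⟨e, he⟩ := exists_exp H u hH hum hn hun (Complex.isPrimitiveRoot_exp _ hn)
  exact ⟨k, _, e, hM, hH, ⟨k + 1, rfl⟩, hun, Complex.isPrimitiveRoot_exp _ hn, hum, he, hb⟩

namespace Sit

variable {H : Subgroup G} [Fintype H] {u : G} {n : ℕ} {ζ : ℂ} {e : IrrCharacter H → ℕ}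
  {b : Set (IrrCharacter H)} {B : Set (IrrCharacter G)}

theorem n_ne (S : Sit M p H u n ζ e b B) : n ≠ 0 := by
  obtain ⟨j, hj⟩ := S.hn
  rw [hj]
  exact pow_ne_zero _ (pm_prime S.hM).ne_zero

/-- primitive roots come from powers of `u` -/
theorem exists_pow (S : Sit M p H u n ζ e b B) {μ : ℂ} (hμ : μ ∈ primitiveRoots n ℂ) :
    ∃ k : ℕ, μ = ζ ^ k ∧ Subgroup.centralizer ({u ^ k} : Set G) = H ∧
      (∃ l : ℕ, orderOf (u ^ k) = p ^ l) := by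
  haveI : NeZero n := ⟨S.n_ne⟩
  obtain ⟨k, -, hk, hk2⟩ := S.hζ.isPrimitiveRoot_iff.1
    ((mem_primitiveRoots (Nat.pos_of_ne_zero S.n_ne)).1 hμ)
  refine ⟨k, hk2.symm, ?_, ?_⟩
  · rw [centralizer_pow u S.hun hk, S.hH]
  · obtain ⟨j, hj⟩ := S.hn
    have h1 : orderOf (u ^ k) ∣ p ^ j := by
      apply orderOf_dvd_of_pow_eq_one
      rw [← hj, ← pow_mul, mul_comm, pow_mul, S.hun, one_pow]
    obtain ⟨l, -, hl⟩ := (Nat.dvd_prime_pow (pm_prime S.hM)).1 h1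
    exact ⟨l, hl⟩

variable [Fintype (IrrCharacter H)]

/-- the contributions -/
noncomputable def A (_S : Sit M p H u n ζ e b B) (μ : ℂ) (χ ψ : IrrCharacter G) : ℂ :=
  ev (Pol H p b n e χ ψ) μ

theorem A_pow (S : Sit M p H u n ζ e b B) (k : ℕ) (χ ψ : IrrCharacter G) :
    S.A (ζ ^ k) χ ψ = (p : ℂ) ^ blockDefect p b * mm H (u ^ k) p b χ ψ :=
  (mm_eq_eval H u S.hM S.n_ne S.hζ.pow_eq_one S.he S.hb.1 χ ψ k).symm

theorem conj_A (S : Sit M p H u n ζ e b B) {μ : ℂ} (hμ : μ ∈ primitiveRoots n ℂ)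
    (χ ψ : IrrCharacter G) : conj (S.A μ χ ψ) = S.A μ ψ χ := by
  obtain ⟨k, rfl, -, -⟩ := S.exists_pow hμ
  rw [A_pow, A_pow, map_mul, mm_conj, map_pow, Complex.conj_natCast]

theorem A_eq_zero (S : Sit M p H u n ζ e b B) {μ : ℂ} (hμ : μ ∈ primitiveRoots n ℂ)
    {χ ψ : IrrCharacter G} (hχ : χ ∉ B) : S.A μ χ ψ = 0 := by
  obtain ⟨k, rfl, h1, h2⟩ := S.exists_pow hμ
  rw [A_pow, mm_eq_zero H _ S.hM h1 h2 S.hb hχ, mul_zero]

theorem A_eq_zero' (S : Sit M p H u n ζ e b B) {μ : ℂ} (hμ : μ ∈ primitiveRoots n ℂ)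
    {χ ψ : IrrCharacter G} (hψ : ψ ∉ B) : S.A μ χ ψ = 0 := by
  have := S.conj_A hμ ψ χ
  rw [S.A_eq_zero hμ hψ, map_zero] at this
  exact this.symm

variable [Fintype (IrrCharacter G)]

theorem sum_sq (S : Sit M p H u n ζ e b B) {μ : ℂ} (hμ : μ ∈ primitiveRoots n ℂ)
    (χ : IrrCharacter G) : ∑ ψ : IrrCharacter G, S.A μ χ ψ * conj (S.A μ χ ψ) =
      (p : ℂ) ^ blockDefect p b * S.A μ χ χ := by
  obtain ⟨k, rfl, h1, h2⟩ := S.exists_pow hμ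
  rw [A_pow, ← sum_mm_sq H _ S.hM h1 h2 S.hb.1 χ, Finset.mul_sum, Finset.mul_sum]
  refine Finset.sum_congr rfl fun ψ _ => ?_
  rw [A_pow, map_mul, map_pow, Complex.conj_natCast]
  ring

theorem sum_norm (S : Sit M p H u n ζ e b B) {μ : ℂ} (hμ : μ ∈ primitiveRoots n ℂ)
    (χ : IrrCharacter G) : ∑ ψ : IrrCharacter G, ‖S.A μ χ ψ‖ ^ 2 =
      (p : ℝ) ^ blockDefect p b * (S.A μ χ χ).re := by
  have h1 := congrArg Complex.re (S.sum_sq hμ χ)
  have h2 : ((p : ℂ) ^ blockDefect p b * S.A μ χ χ).re =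
      (p : ℝ) ^ blockDefect p b * (S.A μ χ χ).re := by
    have : (p : ℂ) ^ blockDefect p b = (((p : ℝ) ^ blockDefect p b : ℝ) : ℂ) := by push_cast; rfl
    rw [this, Complex.re_ofReal_mul]
  rw [h2, Complex.re_sum] at h1
  rw [← h1]
  refine Finset.sum_congr rfl fun ψ _ => ?_
  rw [Complex.mul_conj, Complex.ofReal_re, Complex.normSq_eq_norm_sq]

theorem sum_diag (S : Sit M p H u n ζ e b B) {μ : ℂ} (hμ : μ ∈ primitiveRoots n ℂ) :
    ∑ χ : IrrCharacter G, S.A μ χ χ = (p : ℂ) ^ blockDefect p b * blockRank p b := by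
  obtain ⟨k, rfl, h1, h2⟩ := S.exists_pow hμ
  rw [← sum_mm H _ S.hM h1 h2 S.hb.1, Finset.mul_sum]
  exact Finset.sum_congr rfl fun χ _ => S.A_pow k χ χ

theorem sum_diag_re (S : Sit M p H u n ζ e b B) {μ : ℂ} (hμ : μ ∈ primitiveRoots n ℂ) :
    ∑ χ : IrrCharacter G, (S.A μ χ χ).re = (p : ℝ) ^ blockDefect p b * blockRank p b := by
  have h1 := congrArg Complex.re (S.sum_diag hμ)
  rw [Complex.re_sum] at h1
  rw [h1]
  have : (p : ℂ) ^ blockDefect p b * (blockRank p b : ℂ) =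
    (((p : ℝ) ^ blockDefect p b * blockRank p b : ℝ) : ℂ) := by push_cast; rfl
  rw [this, Complex.ofReal_re]

theorem diag_nonneg (S : Sit M p H u n ζ e b B) {μ : ℂ} (hμ : μ ∈ primitiveRoots n ℂ)
    (χ : IrrCharacter G) : 0 ≤ (S.A μ χ χ).re := by
  have h1 := S.sum_norm hμ χ
  have hp : (0 : ℝ) < (p : ℝ) ^ blockDefect p b :=
    pow_pos (by exact_mod_cast (pm_prime S.hM).pos) _
  have h2 : 0 ≤ ∑ ψ : IrrCharacter G, ‖S.A μ χ ψ‖ ^ 2 := Finset.sum_nonneg fun _ _ => by positivity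
  rw [h1] at h2
  exact nonneg_of_mul_nonneg_right h2 hp

theorem diag_pos (S : Sit M p H u n ζ e b B) {μ : ℂ} (hμ : μ ∈ primitiveRoots n ℂ)
    {χ ψ : IrrCharacter G} (h : S.A μ χ ψ ≠ 0) : 0 < (S.A μ χ χ).re := by
  have h1 := S.sum_norm hμ χ
  have hp : (0 : ℝ) < (p : ℝ) ^ blockDefect p b :=
    pow_pos (by exact_mod_cast (pm_prime S.hM).pos) _
  have h2 : 0 < ∑ ψ : IrrCharacter G, ‖S.A μ χ ψ‖ ^ 2 := by
    refine Finset.sum_pos' (fun _ _ => by positivity) ⟨ψ, Finset.mem_univ _, ?_⟩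
    have := norm_pos_iff.2 h
    positivity
  rw [h1] at h2
  exact pos_of_mul_pos_right h2 hp.le

theorem diag_im (S : Sit M p H u n ζ e b B) {μ : ℂ} (hμ : μ ∈ primitiveRoots n ℂ)
    (χ : IrrCharacter G) : ((S.A μ χ χ).re : ℂ) = S.A μ χ χ :=
  Complex.conj_eq_iff_re.1 (S.conj_A hμ χ χ)

/-- units for height zero -/
theorem unit (S : Sit M p H u n ζ e b B) {χ ψ : IrrCharacter G} (hχ : χ ∈ B) (hψ : ψ ∈ B)
    (hχ0 : blockHeight p B (χ : G → ℂ) = 0) (hψ0 : blockHeight p B (ψ : G → ℂ) = 0) {μ : ℂ}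
    (hμ : μ ∈ primitiveRoots n ℂ) : ¬ MemLocalIdeal M (S.A μ χ ψ) := by
  haveI := pm_isPrime S.hM
  obtain ⟨j, hj⟩ := S.hn
  have h1 : μ ^ p ^ j = 1 := by
    rw [← hj]; exact ((mem_primitiveRoots (Nat.pos_of_ne_zero S.n_ne)).1 hμ).pow_eq_one
  rw [A, ev, locI_congr (eval_congr S.hM _ h1), locI_intCast_iff S.hM]
  exact eval_one_unit H S.hM S.hb n e hχ hψ hχ0 hψ0

theorem ne_zero (S : Sit M p H u n ζ e b B) {χ ψ : IrrCharacter G} (hχ : χ ∈ B) (hψ : ψ ∈ B)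
    (hχ0 : blockHeight p B (χ : G → ℂ) = 0) (hψ0 : blockHeight p B (ψ : G → ℂ) = 0) {μ : ℂ}
    (hμ : μ ∈ primitiveRoots n ℂ) : S.A μ χ ψ ≠ 0 := by
  haveI := pm_isPrime S.hM
  intro h
  exact S.unit hχ hψ hχ0 hψ0 hμ (h ▸ locI_zero)

/-- the major case -/
theorem major (S : Sit M p H u n ζ e b B) (hq : blockDefect p b = blockDefect p B)
    {χ ψ : IrrCharacter G} (hχ : χ ∈ B) (hψ : ψ ∈ B) {μ : ℂ} (hμ : μ ∈ primitiveRoots n ℂ) :
    MemLocalRing M (S.A μ χ ψ / (p : ℂ) ^ blockHeight p B (χ : G → ℂ)) ∧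
      (MemLocalIdeal M (S.A μ χ ψ / (p : ℂ) ^ blockHeight p B (χ : G → ℂ)) ↔
        blockHeight p B (ψ : G → ℂ) ≠ 0) := by
  obtain ⟨k, rfl, h1, h2⟩ := S.exists_pow hμ
  rw [A_pow]
  exact Contr.major H (u ^ k) S.hM h1 h2 S.hb hq hχ hψ

theorem major_ne_zero (S : Sit M p H u n ζ e b B) (hq : blockDefect p b = blockDefect p B)
    {χ ψ : IrrCharacter G} (hχ : χ ∈ B) (hψ : ψ ∈ B) (hψ0 : blockHeight p B (ψ : G → ℂ) = 0)
    {μ : ℂ} (hμ : μ ∈ primitiveRoots n ℂ) : S.A μ χ ψ ≠ 0 := by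
  haveI := pm_isPrime S.hM
  intro h
  have h1 := (S.major hq hχ hψ hμ).2
  rw [h, zero_div] at h1
  exact h1.1 locI_zero hψ0

end Sit

end H78.Contr
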