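import Mathlib
import Cfsg.Agent.Lib.H78.Contr5

/-! Lattices of class functions with an integral form; reduced bases in rank two. -/

set_option autoImplicit false
set_option linter.unusedSectionVars false
set_option linter.unusedVariables false
set_option linter.style.haveILetI false
open Cfsg H20.Loc H20.GA H20.Blk H20.Orth H20.Defect H20.Height H78.BlkCount H78.Sect
open H78.Contr
open scoped ComplexConjugate

namespace H78.Lat2

universe u

variable {K : Type u} [Group K] [Fintype K]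

/-- A finitely generated lattice with integral form has a `ℤ`-basis which is independent over `ℂ`. -/
theorem exists_basis (L : Submodule ℤ (K → ℂ)) [Module.Finite ℤ L] {c : ℂ} (hc : c ≠ 0)
    (hint : ∀ w ∈ L, ∀ w' ∈ L, ∃ z : ℤ, c * classInner w w' = z) :
    ∃ (r : ℕ) (v : Fin r → K → ℂ), (∀ i, v i ∈ L) ∧ LinearIndependent ℂ v ∧
      ∀ w ∈ L, ∃ a : Fin r → ℤ, w = ∑ i, (a i : ℂ) • v i := by
  classical
  haveI : Module.IsTorsionFree ℤ L := inferInstance
  haveI : Module.Free ℤ L := Module.free_of_finite_type_torsion_free'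
  set r := Module.finrank ℤ L with hr
  let B : Module.Basis (Fin r) ℤ L := Module.finBasis ℤ L
  let v : Fin r → K → ℂ := fun i => (B i : K → ℂ)
  have hv : ∀ i, v i ∈ L := fun i => (B i).2
  choose Γ hΓ using fun i j => hint (v i) (hv i) (v j) (hv j)
  have hexp : ∀ w ∈ L, ∃ a : Fin r → ℤ, w = ∑ i, (a i : ℂ) • v i := by
    intro w hw
    refine ⟨fun i => B.repr ⟨w, hw⟩ i, ?_⟩
    have h1 := congrArg (Subtype.val : L → K → ℂ) (B.sum_repr ⟨w, hw⟩)
    rw [AddSubmonoidClass.coe_finset_sum] at h1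
    refine h1.symm.trans ?_
    refine Finset.sum_congr rfl fun i _ => ?_
    show _ • v i = _
    rw [Int.cast_smul_eq_zsmul]
  have hdet : (Matrix.of Γ).det ≠ 0 := by
    intro h0
    obtain ⟨x, hx0, hx⟩ := Matrix.exists_vecMul_eq_zero_iff.2 h0
    have h1 : ∑ i, x i • B i ≠ 0 := by
      intro h2
      apply hx0
      funext i
      have h3 := congrArg (fun y => B.repr y i) h2
      simpa [Finsupp.single_apply] using h3
    apply h1
    apply Subtype.ext
    set w : K → ℂ := ((∑ i, x i • B i : L) : K → ℂ) with hw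
    have hw2 : w = ∑ i, (x i : ℂ) • v i := by
      rw [hw, AddSubmonoidClass.coe_finset_sum]
      refine Finset.sum_congr rfl fun i _ => ?_
      show x i • v i = _
      rw [Int.cast_smul_eq_zsmul]
    have h4 : c * classInner w w = 0 := by
      conv_lhs => rw [hw2]
      rw [H18.CharOrtho.inner_sum_right, Finset.mul_sum]
      apply Finset.sum_eq_zero
      intro j _
      rw [H18.CharOrtho.inner_smul_right, H18.CharOrtho.inner_sum_left]
      have h5 := congrFun hx j
      rw [Matrix.vecMul, dotProduct] at h5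
      have h6 : c * ∑ i, classInner ((x i : ℂ) • v i) (v j) = ((∑ i, x i * Γ i j : ℤ) : ℂ) := by
        rw [Finset.mul_sum, Int.cast_sum]
        refine Finset.sum_congr rfl fun i _ => ?_
        rw [H18.CharOrtho.inner_smul_left, Int.cast_mul, ← hΓ]
        ring
      have h7 : (∑ i, x i * Γ i j : ℤ) = 0 := h5
      rw [mul_left_comm, h6, h7, Int.cast_zero, mul_zero]
    exact H18.CharOrtho.inner_self_eq_zero.1 ((mul_eq_zero.1 h4).resolve_left hc)
  refine ⟨r, v, hv, ?_, hexp⟩
  rw [Fintype.linearIndependent_iff]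
  intro a ha
  have hdetC : (Matrix.of (fun i j => (Γ i j : ℂ))).det ≠ 0 := by
    have h1 : (Matrix.of (fun i j => (Γ i j : ℂ))) = (Matrix.of Γ).map (Int.castRingHom ℂ) := by
      ext i j; simp
    rw [h1, ← RingHom.mapMatrix_apply, ← RingHom.map_det]
    intro h2
    apply hdet
    rw [eq_intCast] at h2
    exact_mod_cast h2
  have h1 : Matrix.vecMul a (Matrix.of (fun i j => (Γ i j : ℂ))) = 0 := by
    funext j
    rw [Matrix.vecMul, dotProduct]
    have h2 : c * classInner (∑ i, a i • v i) (v j) = 0 := by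
      rw [ha, H18.CharOrtho.inner_zero_left, mul_zero]
    rw [H18.CharOrtho.inner_sum_left, Finset.mul_sum] at h2
    rw [Pi.zero_apply, ← h2]
    refine Finset.sum_congr rfl fun i _ => ?_
    rw [H18.CharOrtho.inner_smul_left, Matrix.of_apply, ← hΓ]
    ring
  by_contra hne
  push Not at hne
  obtain ⟨i, hi⟩ := hne
  exact hdetC (Matrix.exists_vecMul_eq_zero_iff.1 ⟨a, fun h => hi (congrFun h i), h1⟩)

/-- admissible pairs -/
structure Good (L : Submodule ℤ (K → ℂ)) (v w : K → ℂ) : Prop where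
  hv : v ∈ L
  hw : w ∈ L
  li : ∀ s t : ℂ, s • v + t • w = 0 → s = 0 ∧ t = 0
  gen : ∀ x ∈ L, ∃ a b : ℤ, x = (a : ℂ) • v + (b : ℂ) • w

variable {L : Submodule ℤ (K → ℂ)}

theorem Good.swap {v w : K → ℂ} (h : Good L v w) : Good L w v where
  hv := h.hw
  hw := h.hv
  li s t hst := by
    obtain ⟨h1, h2⟩ := h.li t s (by rw [add_comm]; exact hst)
    exact ⟨h2, h1⟩
  gen x hx := by
    obtain ⟨a, b, hab⟩ := h.gen x hx
    exact ⟨b, a, by rw [hab, add_comm]⟩

theorem Good.neg {v w : K → ℂ} (h : Good L v w) : Good L v (-w) where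
  hv := h.hv
  hw := L.neg_mem h.hw
  li s t hst := by
    obtain ⟨h1, h2⟩ := h.li s (-t) (by rw [neg_smul, ← smul_neg]; exact hst)
    exact ⟨h1, neg_eq_zero.1 h2⟩
  gen x hx := by
    obtain ⟨a, b, hab⟩ := h.gen x hx
    refine ⟨a, -b, ?_⟩
    rw [hab]
    push_cast
    rw [neg_smul, smul_neg, neg_neg]

theorem Good.add {v w : K → ℂ} (h : Good L v w) (s : ℤ) : Good L v (w + (s : ℂ) • v) where
  hv := h.hv
  hw := by
    refine L.add_mem h.hw ?_
    rw [Int.cast_smul_eq_zsmul]
    exact L.smul_mem s h.hv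
  li a t hst := by
    have h1 : (a + t * s) • v + t • w = 0 := by
      rw [← hst]; module
    obtain ⟨h2, h3⟩ := h.li _ _ h1
    rw [h3, zero_mul, add_zero] at h2
    exact ⟨h2, h3⟩
  gen x hx := by
    obtain ⟨a, b, hab⟩ := h.gen x hx
    refine ⟨a - b * s, b, ?_⟩
    rw [hab]
    push_cast
    module

/-- The reduced basis. -/
theorem exists_reduced [Module.Finite ℤ L] {c : ℝ} (hc : 0 < c)
    (hint : ∀ w ∈ L, ∀ w' ∈ L, ∃ z : ℤ, (c : ℂ) * classInner w w' = z)
    (h2 : Module.finrank ℂ (Submodule.span ℂ (L : Set (K → ℂ))) = 2) :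
    ∃ (v w : K → ℂ) (α β γ : ℤ), Good L v w ∧ (c : ℂ) * classInner v v = α ∧
      (c : ℂ) * classInner v w = β ∧ (c : ℂ) * classInner w w = γ ∧ 0 < α * γ - β ^ 2 ∧
      0 ≤ 2 * β ∧ 2 * β ≤ α ∧ α ≤ γ := by
  classical
  have hc0 : (c : ℂ) ≠ 0 := by exact_mod_cast hc.ne'
  -- existence of a good pair
  have hex : ∃ v w : K → ℂ, Good L v w := by
    obtain ⟨r, v, hvL, hli, hgen⟩ := exists_basis L hc0 hint
    have hr : r = 2 := by
      have h3 : Submodule.span ℂ (L : Set (K → ℂ)) = Submodule.span ℂ (Set.range v) := by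
        apply le_antisymm
        · rw [Submodule.span_le]
          intro w hw
          obtain ⟨a, rfl⟩ := hgen w hw
          exact Submodule.sum_mem _ fun i _ => Submodule.smul_mem _ _
            (Submodule.subset_span ⟨i, rfl⟩)
        · apply Submodule.span_mono
          rintro _ ⟨i, rfl⟩
          exact hvL i
      rw [h3, finrank_span_eq_card hli, Fintype.card_fin] at h2
      exact h2
    subst hr
    refine ⟨v 0, v 1, hvL 0, hvL 1, ?_, ?_⟩
    · intro s t hst
      have h3 := Fintype.linearIndependent_iff.1 hli ![s, t] (by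
        rw [Fin.sum_univ_two]; exact hst)
      exact ⟨h3 0, h3 1⟩
    · intro x hx
      obtain ⟨a, ha⟩ := hgen x hx
      exact ⟨a 0, a 1, by rw [ha, Fin.sum_univ_two]⟩
  -- positivity
  have hpos : ∀ v : K → ℂ, v ≠ 0 → ∀ z : ℤ, (c : ℂ) * classInner v v = z → 0 < z := by
    intro v hv z hz
    have h3 := H18.CharOrtho.inner_self_re_nonneg v
    have h4 : 0 < (classInner v v).re := by
      refine lt_of_le_of_ne h3 fun h5 => hv ?_
      rw [← H18.CharOrtho.inner_self_eq_zero]
      exact Complex.ext h5.symm (H18.CharOrtho.inner_self_im v)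
    have h5 := congrArg Complex.re hz
    rw [Complex.re_ofReal_mul, Complex.intCast_re] at h5
    have : (0 : ℝ) < z := by rw [← h5]; positivity
    exact_mod_cast this
  have hne : ∀ {v w : K → ℂ}, Good L v w → v ≠ 0 := by
    intro v w h hv
    have := (h.li 1 0 (by rw [hv]; simp)).1
    exact one_ne_zero this
  -- the traces
  let T : Set ℕ := {t | ∃ v w : K → ℂ, Good L v w ∧
    (c : ℂ) * classInner v v + (c : ℂ) * classInner w w = t}
  have hT : T.Nonempty := by
    obtain ⟨v, w, h⟩ := hex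
    obtain ⟨α, hα⟩ := hint v h.hv v h.hv
    obtain ⟨γ, hγ⟩ := hint w h.hw w h.hw
    have h3 := hpos v (hne h) α hα
    have h4 := hpos w (hne h.swap) γ hγ
    refine ⟨(α + γ).toNat, v, w, h, ?_⟩
    rw [hα, hγ]
    have h5 : ((α + γ).toNat : ℤ) = α + γ := Int.toNat_of_nonneg (by omega)
    exact_mod_cast h5.symm
  obtain ⟨v, w, hg, hvw⟩ := Nat.sInf_mem hT
  obtain ⟨α, hα⟩ := hint v hg.hv v hg.hv
  obtain ⟨β, hβ⟩ := hint v hg.hv w hg.hw
  obtain ⟨γ, hγ⟩ := hint w hg.hw w hg.hw
  have hmin : ∀ (v' w' : K → ℂ) (α' γ' : ℤ), Good L v' w' → (c : ℂ) * classInner v' v' = α' →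
      (c : ℂ) * classInner w' w' = γ' → α + γ ≤ α' + γ' := by
    intro v' w' α' γ' h' hα' hγ'
    have h3 := hpos v' (hne h') α' hα'
    have h4 := hpos w' (hne h'.swap) γ' hγ'
    have h5 : ((α' + γ').toNat : ℤ) = α' + γ' := Int.toNat_of_nonneg (by omega)
    have h6 : sInf T ≤ (α' + γ').toNat := by
      apply Nat.sInf_le
      refine ⟨v', w', h', ?_⟩
      rw [hα', hγ']
      exact_mod_cast h5.symm
    have h7 : α + γ = (sInf T : ℕ) := by
      rw [hα, hγ] at hvw
      exact_mod_cast hvw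
    omega
  have hβ' : (c : ℂ) * classInner w v = β := by
    have h3 := congrArg conj hβ
    rw [map_mul, H18.CharOrtho.inner_conj_symm, Complex.conj_ofReal, map_intCast] at h3
    exact h3
  -- the moves
  have hmove : ∀ (v w : K → ℂ) (α β γ s : ℤ), (c : ℂ) * classInner v v = α →
      (c : ℂ) * classInner v w = β → (c : ℂ) * classInner w v = β → (c : ℂ) * classInner w w = γ →
      (c : ℂ) * classInner (w + (s : ℂ) • v) (w + (s : ℂ) • v) = (γ + 2 * s * β + s ^ 2 * α : ℤ) := by
    intro v w α β γ s h3 h4 h5 h6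
    rw [H18.CharOrtho.inner_add_left, H18.CharOrtho.inner_add_right,
      H18.CharOrtho.inner_add_right, H18.CharOrtho.inner_smul_left, H18.CharOrtho.inner_smul_left,
      H18.CharOrtho.inner_smul_right, H18.CharOrtho.inner_smul_right, map_intCast]
    push_cast
    rw [← h3, ← h6]
    linear_combination (s : ℂ) * h4 + (s : ℂ) * h5
  have hb1 : ∀ s : ℤ, s ^ 2 = 1 → 0 ≤ α + 2 * s * β := by
    intro s hs
    have h3 := hmin _ _ _ _ (hg.add s) hα (hmove v w α β γ s hα hβ hβ' hγ)
    rw [hs] at h3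
    linarith
  have hb2 : ∀ s : ℤ, s ^ 2 = 1 → 0 ≤ γ + 2 * s * β := by
    intro s hs
    have h3 := hmin _ _ _ _ (hg.swap.add s) hγ (hmove w v γ β α s hγ hβ' hβ hα)
    rw [hs] at h3
    linarith
  have h11 := hb1 1 (by norm_num)
  have h12 := hb1 (-1) (by norm_num)
  have h21 := hb2 1 (by norm_num)
  have h22 := hb2 (-1) (by norm_num)
  -- the determinant
  have hdet : ∀ (v w : K → ℂ) (α β γ : ℤ), Good L v w → (c : ℂ) * classInner v v = α →
      (c : ℂ) * classInner v w = β → (c : ℂ) * classInner w v = β →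
      (c : ℂ) * classInner w w = γ → 0 < α * γ - β ^ 2 := by
    intro v w α β γ h h3 h4 h5 h6
    have h7 := hpos w (hne h.swap) γ h6
    have h8 : (γ : ℂ) • v + (-(β : ℂ)) • w ≠ 0 := by
      intro h9
      have := (h.li _ _ h9).1
      have : γ = 0 := by exact_mod_cast this
      omega
    have h9 : (c : ℂ) * classInner ((γ : ℂ) • v + (-(β : ℂ)) • w) ((γ : ℂ) • v + (-(β : ℂ)) • w) =
        (γ * (α * γ - β ^ 2) : ℤ) := by
      rw [H18.CharOrtho.inner_add_left, H18.CharOrtho.inner_add_right,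
        H18.CharOrtho.inner_add_right, H18.CharOrtho.inner_smul_left,
        H18.CharOrtho.inner_smul_left, H18.CharOrtho.inner_smul_left,
        H18.CharOrtho.inner_smul_left,
        H18.CharOrtho.inner_smul_right, H18.CharOrtho.inner_smul_right,
        H18.CharOrtho.inner_smul_right, H18.CharOrtho.inner_smul_right, map_intCast,
        map_neg, map_intCast]
      push_cast
      linear_combination (γ : ℂ) ^ 2 * h3 - (γ : ℂ) * β * h4 - (γ : ℂ) * β * h5 + (β : ℂ) ^ 2 * h6
    have h10 := hpos _ h8 _ h9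
    exact pos_of_mul_pos_right h10 h7.le
  -- normalisation of signs and order
  have hfin : ∀ (v w : K → ℂ) (α β γ : ℤ), Good L v w → (c : ℂ) * classInner v v = α →
      (c : ℂ) * classInner v w = β → (c : ℂ) * classInner w v = β →
      (c : ℂ) * classInner w w = γ → 0 ≤ β → 2 * β ≤ α → 2 * β ≤ γ →
      ∃ (v w : K → ℂ) (α β γ : ℤ), Good L v w ∧ (c : ℂ) * classInner v v = α ∧
      (c : ℂ) * classInner v w = β ∧ (c : ℂ) * classInner w w = γ ∧ 0 < α * γ - β ^ 2 ∧
      0 ≤ 2 * β ∧ 2 * β ≤ α ∧ α ≤ γ := by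
    intro v w α β γ h h3 h4 h5 h6 h7 h8 h9
    rcases le_total α γ with h10 | h10
    · exact ⟨v, w, α, β, γ, h, h3, h4, h6, hdet v w α β γ h h3 h4 h5 h6, by omega, h8, h10⟩
    · exact ⟨w, v, γ, β, α, h.swap, h6, h5, h3, hdet w v γ β α h.swap h6 h5 h4 h3, by omega, h9, h10⟩
  rcases le_total 0 β with h3 | h3
  · exact hfin v w α β γ hg hα hβ hβ' hγ h3 (by linarith) (by linarith)
  · refine hfin v (-w) α (-β) γ hg.neg hα ?_ ?_ ?_ (by omega) (by linarith) (by linarith)
    · rw [H18.CharOrtho.inner_neg_right, mul_neg, hβ]; push_cast; rfl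
    · rw [H18.CharOrtho.inner_neg_left, mul_neg, hβ']; push_cast; rfl
    · rw [H18.CharOrtho.inner_neg_right, H18.CharOrtho.inner_neg_left, neg_neg, hγ]

end H78.Lat2
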