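import Mathlib
import Cfsg.Agent.Lib.H78.Lat2

/-! Major subsections with a block of rank at most two (S4539). -/

set_option autoImplicit false
set_option linter.unusedSectionVars false
set_option linter.unusedVariables false
set_option linter.style.haveILetI false
open Cfsg H20.Loc H20.GA H20.Blk H20.Orth H20.Defect H20.Height H78.BlkCount H78.Sect
open Polynomial H78.Cyc2 H78.Contr H78.Lat2
open scoped ComplexConjugate

namespace H78.ContrL2

universe u

section Lam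
variable {K : Type u} [Group K] [Fintype K] [Fintype (IrrCharacter K)] {M : Ideal AlgInt} {p : ℕ}

open Classical in
/-- the lattice spanned by the restrictions to the `p`-regular elements -/
noncomputable def Lam (p : ℕ) (b : Set (IrrCharacter K)) : Submodule ℤ (K → ℂ) :=
  LinearMap.range (Fintype.linearCombination ℤ
    (fun ξ : IrrCharacter K => if ξ ∈ b then reg p (ξ : K → ℂ) else 0))

open Classical in
/-- integral combinations -/
noncomputable def V (p : ℕ) (b : Set (IrrCharacter K)) (a : IrrCharacter K → ℤ) : K → ℂ :=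
  ∑ ξ : IrrCharacter K, (if ξ ∈ b then (a ξ : ℂ) else 0) • reg p (ξ : K → ℂ)

theorem mem_Lam {b : Set (IrrCharacter K)} {w : K → ℂ} :
    w ∈ Lam p b ↔ ∃ a : IrrCharacter K → ℤ, w = V p b a := by
  classical
  have h1 : ∀ a : IrrCharacter K → ℤ, Fintype.linearCombination ℤ
    (fun ξ : IrrCharacter K => if ξ ∈ b then reg p (ξ : K → ℂ) else 0) a = V p b a := by
    intro a
    rw [Fintype.linearCombination_apply, V]
    refine Finset.sum_congr rfl fun ξ _ => ?_
    split_ifs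
    · rw [Int.cast_smul_eq_zsmul]
    · rw [smul_zero, zero_smul]
  rw [Lam, LinearMap.mem_range]
  constructor
  · rintro ⟨a, rfl⟩; exact ⟨a, h1 a⟩
  · rintro ⟨a, rfl⟩; exact ⟨a, h1 a⟩

theorem reg_mem_Lam {b : Set (IrrCharacter K)} {ξ : IrrCharacter K} (hξ : ξ ∈ b) :
    reg p (ξ : K → ℂ) ∈ Lam p b := by
  classical
  rw [mem_Lam]
  refine ⟨Pi.single ξ 1, ?_⟩
  rw [V, Finset.sum_eq_single ξ]
  · rw [if_pos hξ, Pi.single_eq_same, Int.cast_one, one_smul]
  · intro η _ hη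
    rw [Pi.single_eq_of_ne hη]
    simp
  · intro h; exact absurd (Finset.mem_univ _) h

theorem V_mem_rspn (b : Set (IrrCharacter K)) (a : IrrCharacter K → ℤ) : V p b a ∈ rspn p b := by
  classical
  rw [V]
  refine Submodule.sum_mem _ fun ξ _ => ?_
  split_ifs with h
  · exact Submodule.smul_mem _ _ (Submodule.subset_span ⟨ξ, h, (reg_eq_pRegularPart _).symm⟩)
  · rw [zero_smul]; exact Submodule.zero_mem _

theorem span_Lam (b : Set (IrrCharacter K)) :
    Submodule.span ℂ (Lam p b : Set (K → ℂ)) = rspn p b := by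
  apply le_antisymm
  · rw [Submodule.span_le]
    intro w hw
    obtain ⟨a, rfl⟩ := mem_Lam.1 hw
    exact V_mem_rspn b a
  · rw [rspn, Submodule.span_le]
    rintro _ ⟨ξ, hξ, rfl⟩
    show pRegularPart p (ξ : K → ℂ) ∈ _
    rw [← reg_eq_pRegularPart]
    exact Submodule.subset_span (reg_mem_Lam hξ)

theorem inner_V (b : Set (IrrCharacter K)) [DecidablePred (· ∈ b)] (a a' : IrrCharacter K → ℤ)
    (c : ℂ) :
    c * classInner (V p b a) (V p b a') = ∑ ξ : IrrCharacter K, ∑ ξ' : IrrCharacter K,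
      if ξ ∈ b ∧ ξ' ∈ b then (a ξ : ℂ) * a' ξ' * (c * classInner (reg p (ξ : K → ℂ)) (ξ' : K → ℂ))
        else 0 := by
  classical
  rw [V, V, H18.CharOrtho.inner_sum_left, Finset.mul_sum]
  refine Finset.sum_congr rfl fun ξ _ => ?_
  rw [H18.CharOrtho.inner_sum_right, Finset.mul_sum]
  refine Finset.sum_congr rfl fun ξ' _ => ?_
  rw [H18.CharOrtho.inner_smul_left, H18.CharOrtho.inner_smul_right]
  have h4 : classInner (reg p (ξ : K → ℂ)) (reg p (ξ' : K → ℂ)) =
      classInner (reg p (ξ : K → ℂ)) (ξ' : K → ℂ) := by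
    rw [← inner_reg_left, reg_reg]
  rw [h4]
  by_cases h1 : ξ ∈ b
  · by_cases h2 : ξ' ∈ b
    · rw [if_pos h1, if_pos h2, if_pos ⟨h1, h2⟩, map_intCast]
      ring
    · rw [if_neg h2, if_neg (fun h : ξ ∈ b ∧ ξ' ∈ b => h2 h.2), map_zero]
      ring
  · rw [if_neg h1, if_neg (fun h : ξ ∈ b ∧ ξ' ∈ b => h1 h.1)]
    ring

theorem inner_int (hM : IsPModular p M) {b : Set (IrrCharacter K)} (hb : IsPBlock M b) :
    ∀ w ∈ Lam p b, ∀ w' ∈ Lam p b, ∃ z : ℤ,
      ((((p : ℝ) ^ blockDefect p b : ℝ) : ℂ)) * classInner w w' = z := by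
  classical
  intro w hw w' hw'
  obtain ⟨a, rfl⟩ := mem_Lam.1 hw
  obtain ⟨a', rfl⟩ := mem_Lam.1 hw'
  refine ⟨∑ ξ : IrrCharacter K, ∑ ξ' : IrrCharacter K,
      if ξ ∈ b ∧ ξ' ∈ b then a ξ * a' ξ' * Ni p b ξ ξ' else 0, ?_⟩
  rw [inner_V, Int.cast_sum]
  refine Finset.sum_congr rfl fun ξ _ => ?_
  rw [Int.cast_sum]
  refine Finset.sum_congr rfl fun ξ' _ => ?_
  split_ifs with h
  · have h1 := Ni_spec hM hb h.1 ξ'
    push_cast
    rw [← h1]
  · simp

/-- rank one modulo `p` -/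
theorem rank_one (hM : IsPModular p M) {b : Set (IrrCharacter K)} [DecidablePred (· ∈ b)]
    (hb : IsPBlock M b) {ξ0 : IrrCharacter K} (hξ0 : ξ0 ∈ b) (a a' : IrrCharacter K → ℤ) :
    MemLocalIdeal M ((p : ℂ) ^ blockDefect p b * classInner (V p b a) (V p b a') -
      (∑ ξ : IrrCharacter K, if ξ ∈ b then (a ξ : ℂ) * rr p b ξ else 0) *
      (∑ ξ' : IrrCharacter K, if ξ' ∈ b then (a' ξ' : ℂ) * Q p ξ0 (ξ' : K → ℂ) (irr_class ξ')
        else 0)) := by
  haveI := pm_isPrime hM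
  rw [inner_V, Finset.sum_mul]
  refine locI_sum_congr fun ξ _ => ?_
  rw [Finset.mul_sum]
  refine locI_sum_congr fun ξ' _ => ?_
  by_cases h1 : ξ ∈ b
  · by_cases h2 : ξ' ∈ b
    · rw [if_pos h1, if_pos h2, if_pos ⟨h1, h2⟩, inner_eq_rr b ξ (irr_class ξ')]
      have h3 : (a ξ : ℂ) * a' ξ' * (rr p b ξ * Q p ξ (ξ' : K → ℂ) (irr_class ξ')) -
          a ξ * rr p b ξ * (a' ξ' * Q p ξ0 (ξ' : K → ℂ) (irr_class ξ')) =
          (a ξ * a' ξ' * rr p b ξ) * (Q p ξ (ξ' : K → ℂ) (irr_class ξ') -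
            Q p ξ0 (ξ' : K → ℂ) (irr_class ξ')) := by ring
      rw [h3]
      refine locI_mul_left (locR_mul (locR_mul (locR_intCast _) (locR_intCast _))
        (rr_memR hM hb h1)) ?_
      exact Q_congr (isPBlock_sameBlock hb h1 hξ0) (irr_class ξ') (irr_int ξ')
    · rw [if_neg h2, if_neg (fun h : ξ ∈ b ∧ ξ' ∈ b => h2 h.2), mul_zero, sub_zero]
      exact locI_zero
  · rw [if_neg h1, if_neg (fun h : ξ ∈ b ∧ ξ' ∈ b => h1 h.1), zero_mul, sub_zero]
    exact locI_zero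

theorem dvd_det (hM : IsPModular p M) {b : Set (IrrCharacter K)} (hb : IsPBlock M b)
    {v w : K → ℂ} (hv : v ∈ Lam p b) (hw : w ∈ Lam p b) {α β γ : ℤ}
    (h1 : (p : ℂ) ^ blockDefect p b * classInner v v = α)
    (h2 : (p : ℂ) ^ blockDefect p b * classInner v w = β)
    (h3 : (p : ℂ) ^ blockDefect p b * classInner w v = β)
    (h4 : (p : ℂ) ^ blockDefect p b * classInner w w = γ) : (p : ℤ) ∣ α * γ - β ^ 2 := by
  classical
  haveI := pm_isPrime hM
  obtain ⟨a, rfl⟩ := mem_Lam.1 hv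
  obtain ⟨a', rfl⟩ := mem_Lam.1 hw
  obtain ⟨ξ0, hξ0⟩ := isPBlock_nonempty hb
  have g1 := rank_one hM hb hξ0 a a
  have g2 := rank_one hM hb hξ0 a a'
  have g3 := rank_one hM hb hξ0 a' a
  have g4 := rank_one hM hb hξ0 a' a'
  rw [h1] at g1
  rw [h2] at g2
  rw [h3] at g3
  rw [h4] at g4
  have hR : ∀ a : IrrCharacter K → ℤ, MemLocalRing M
      (∑ ξ : IrrCharacter K, if ξ ∈ b then (a ξ : ℂ) * rr p b ξ else 0) := by
    intro a
    refine locR_sum fun ξ _ => ?_
    split_ifs with h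
    · exact locR_mul (locR_intCast _) (rr_memR hM hb h)
    · exact locR_zero
  have hS : ∀ a : IrrCharacter K → ℤ, MemLocalRing M
      (∑ ξ' : IrrCharacter K, if ξ' ∈ b then (a ξ' : ℂ) * Q p ξ0 (ξ' : K → ℂ) (irr_class ξ')
        else 0) := by
    intro a
    refine locR_sum fun ξ _ => ?_
    split_ifs with h
    · exact locR_mul (locR_intCast _) (Q_memR ξ0 (irr_class ξ) (irr_int ξ))
    · exact locR_zero
  have hR1 := hR a
  have hR2 := hR a'
  have hS1 := hS a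
  have hS2 := hS a'
  set r1 := (∑ ξ : IrrCharacter K, if ξ ∈ b then (a ξ : ℂ) * rr p b ξ else 0)
  set r2 := (∑ ξ : IrrCharacter K, if ξ ∈ b then (a' ξ : ℂ) * rr p b ξ else 0)
  set s1 := (∑ ξ' : IrrCharacter K, if ξ' ∈ b then (a ξ' : ℂ) * Q p ξ0 (ξ' : K → ℂ) (irr_class ξ')
        else 0)
  set s2 := (∑ ξ' : IrrCharacter K, if ξ' ∈ b then (a' ξ' : ℂ) * Q p ξ0 (ξ' : K → ℂ) (irr_class ξ')
        else 0)
  rw [← locI_intCast_iff hM]
  have h5 := locI_mul_congr (locR_mul hR1 hS1) (locR_intCast (M := M) γ) g1 g4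
  have h6 := locI_mul_congr (locR_mul hR1 hS2) (locR_intCast (M := M) β) g2 g3
  have h7 := locI_sub h5 h6
  push_cast
  have h8 : (α : ℂ) * γ - β ^ 2 = (α : ℂ) * γ - r1 * s1 * (r2 * s2) - (β * β -
      r1 * s2 * (r2 * s1)) := by ring
  rw [h8]
  exact h7

end Lam

section main
variable {G : Type u} [Group G] [Fintype G] {M : Ideal AlgInt} {p : ℕ}
variable {H : Subgroup G} [Fintype H] {u : G} {n : ℕ} {ζ : ℂ} {e : IrrCharacter H → ℕ}
  {b : Set (IrrCharacter H)} {B : Set (IrrCharacter G)} [Fintype (IrrCharacter H)]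
  [Fintype (IrrCharacter G)]

open Classical in
/-- coordinate polynomials -/
noncomputable def XP (b : Set (IrrCharacter H)) (e : IrrCharacter H → ℕ) (a : IrrCharacter H → ℤ)
    (χ : IrrCharacter G) : ℤ[X] :=
  ∑ ξ : IrrCharacter H, if ξ ∈ b then C (mult H χ ξ * a ξ) * X ^ (e ξ) else 0

open Classical in
theorem ev_XP (a : IrrCharacter H → ℤ) (χ : IrrCharacter G) (μ : ℂ) :
    ev (XP b e a χ) μ = ∑ ξ : IrrCharacter H,
      if ξ ∈ b then (mult H χ ξ : ℂ) * a ξ * μ ^ e ξ else 0 := by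
  rw [XP, ev, Polynomial.map_sum, eval_finsetSum]
  refine Finset.sum_congr rfl fun ξ _ => ?_
  split_ifs
  · simp
  · simp

/-- coordinates of the subsection functions -/
theorem dd_coord (S : Sit M p H u n ζ e b B) {v w : H → ℂ} {a1 a2 : IrrCharacter H → ℤ}
    (ha : ∀ ξ ∈ b, reg p (ξ : H → ℂ) = (a1 ξ : ℂ) • v + (a2 ξ : ℂ) • w) (χ : IrrCharacter G)
    (k : ℕ) : dd H (u ^ k) p b (χ : G → ℂ) =
      ev (XP b e a1 χ) (ζ ^ k) • v + ev (XP b e a2 χ) (ζ ^ k) • w := by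
  classical
  rw [dd_expand H u S.he, ev_XP, ev_XP, Finset.sum_smul, Finset.sum_smul, ← Finset.sum_add_distrib]
  refine Finset.sum_congr rfl fun ξ _ => ?_
  split_ifs with h
  · rw [ha ξ h, smul_add, smul_smul, smul_smul]
    congr 2 <;> ring
  · simp

/-- the contributions in coordinates -/
theorem A_coord (S : Sit M p H u n ζ e b B) {v w : H → ℂ} {a1 a2 : IrrCharacter H → ℤ}
    (ha : ∀ ξ ∈ b, reg p (ξ : H → ℂ) = (a1 ξ : ℂ) • v + (a2 ξ : ℂ) • w) {α β γ : ℤ}
    (h1 : (p : ℂ) ^ blockDefect p b * classInner v v = α)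
    (h2 : (p : ℂ) ^ blockDefect p b * classInner v w = β)
    (h3 : (p : ℂ) ^ blockDefect p b * classInner w v = β)
    (h4 : (p : ℂ) ^ blockDefect p b * classInner w w = γ)
    {μ : ℂ} (hμ : μ ∈ primitiveRoots n ℂ) (χ ψ : IrrCharacter G) :
    S.A μ χ ψ = α * (ev (XP b e a1 χ) μ * conj (ev (XP b e a1 ψ) μ)) +
      β * (ev (XP b e a1 χ) μ * conj (ev (XP b e a2 ψ) μ) +
        ev (XP b e a2 χ) μ * conj (ev (XP b e a1 ψ) μ)) +
      γ * (ev (XP b e a2 χ) μ * conj (ev (XP b e a2 ψ) μ)) := by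
  obtain ⟨k, rfl, -, -⟩ := S.exists_pow hμ
  rw [S.A_pow, mm, dd_coord S ha, dd_coord S ha]
  simp only [H18.CharOrtho.inner_add_left, H18.CharOrtho.inner_add_right,
    H18.CharOrtho.inner_smul_left, H18.CharOrtho.inner_smul_right]
  set x := ev (XP b e a1 χ) (ζ ^ k)
  set y := ev (XP b e a2 χ) (ζ ^ k)
  set x' := conj (ev (XP b e a1 ψ) (ζ ^ k))
  set y' := conj (ev (XP b e a2 ψ) (ζ ^ k))
  linear_combination (x * x') * h1 + (x * y') * h2 + (y * x') * h3 + (y * y') * h4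

/-- completeness relations -/
theorem complete (S : Sit M p H u n ζ e b B) {v w : H → ℂ} {a1 a2 : IrrCharacter H → ℤ}
    (ha : ∀ ξ ∈ b, reg p (ξ : H → ℂ) = (a1 ξ : ℂ) • v + (a2 ξ : ℂ) • w) {α β γ : ℤ}
    (hv : v ∈ rspn p b) (hw : w ∈ rspn p b)
    (h1 : (p : ℂ) ^ blockDefect p b * classInner v v = α)
    (h2 : (p : ℂ) ^ blockDefect p b * classInner v w = β)
    (h3 : (p : ℂ) ^ blockDefect p b * classInner w v = β)
    (h4 : (p : ℂ) ^ blockDefect p b * classInner w w = γ) (hdet : α * γ - β ^ 2 ≠ 0)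
    {μ : ℂ} (hμ : μ ∈ primitiveRoots n ℂ) :
    ((α * γ - β ^ 2 : ℤ) : ℂ) * (∑ χ : IrrCharacter G, conj (ev (XP b e a1 χ) μ) *
      ev (XP b e a1 χ) μ) = (p : ℂ) ^ blockDefect p b * γ ∧
    ((α * γ - β ^ 2 : ℤ) : ℂ) * (∑ χ : IrrCharacter G, conj (ev (XP b e a2 χ) μ) *
      ev (XP b e a2 χ) μ) = (p : ℂ) ^ blockDefect p b * α ∧
    ((α * γ - β ^ 2 : ℤ) : ℂ) * (∑ χ : IrrCharacter G, conj (ev (XP b e a1 χ) μ) *
      ev (XP b e a2 χ) μ) = - ((p : ℂ) ^ blockDefect p b * β) := by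
  obtain ⟨k, rfl, hk1, hk2⟩ := S.exists_pow hμ
  have hp := pm_prime S.hM
  have hP0 : (p : ℂ) ^ blockDefect p b ≠ 0 := pow_ne_zero _ (by exact_mod_cast hp.ne_zero)
  set P : ℂ := (p : ℂ) ^ blockDefect p b with hP
  set Δ : ℂ := ((α * γ - β ^ 2 : ℤ) : ℂ) with hΔ
  have hΔ0 : Δ ≠ 0 := by rw [hΔ]; exact_mod_cast hdet
  have hΔe : Δ = α * γ - β ^ 2 := by rw [hΔ]; push_cast; rfl
  set w1 : H → ℂ := (γ : ℂ) • v + (-(β : ℂ)) • w with hw1
  set w2 : H → ℂ := (-(β : ℂ)) • v + (α : ℂ) • w with hw2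
  have hw1m : w1 ∈ rspn p b := Submodule.add_mem _ (Submodule.smul_mem _ _ hv)
    (Submodule.smul_mem _ _ hw)
  have hw2m : w2 ∈ rspn p b := Submodule.add_mem _ (Submodule.smul_mem _ _ hv)
    (Submodule.smul_mem _ _ hw)
  have e1v : P * classInner w1 v = Δ := by
    rw [hw1, H18.CharOrtho.inner_add_left, H18.CharOrtho.inner_smul_left,
      H18.CharOrtho.inner_smul_left, hΔe]
    linear_combination (γ : ℂ) * h1 - (β : ℂ) * h3
  have e1w : P * classInner w1 w = 0 := by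
    rw [hw1, H18.CharOrtho.inner_add_left, H18.CharOrtho.inner_smul_left,
      H18.CharOrtho.inner_smul_left]
    linear_combination (γ : ℂ) * h2 - (β : ℂ) * h4
  have e2v : P * classInner w2 v = 0 := by
    rw [hw2, H18.CharOrtho.inner_add_left, H18.CharOrtho.inner_smul_left,
      H18.CharOrtho.inner_smul_left]
    linear_combination (-(β : ℂ)) * h1 + (α : ℂ) * h3
  have e2w : P * classInner w2 w = Δ := by
    rw [hw2, H18.CharOrtho.inner_add_left, H18.CharOrtho.inner_smul_left,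
      H18.CharOrtho.inner_smul_left, hΔe]
    linear_combination (-(β : ℂ)) * h2 + (α : ℂ) * h4
  -- inner products with the subsection functions
  have f1 : ∀ χ : IrrCharacter G, P * classInner w1 (tr H (u ^ k) (χ : G → ℂ)) =
      Δ * conj (ev (XP b e a1 χ) (ζ ^ k)) := by
    intro χ
    rw [← inner_dd H (u ^ k) S.hM S.hb.1 hw1m, dd_coord S ha, H18.CharOrtho.inner_add_right,
      H18.CharOrtho.inner_smul_right, H18.CharOrtho.inner_smul_right]
    linear_combination (conj (ev (XP b e a1 χ) (ζ ^ k))) * e1v +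
      (conj (ev (XP b e a2 χ) (ζ ^ k))) * e1w
  have f2 : ∀ χ : IrrCharacter G, P * classInner w2 (tr H (u ^ k) (χ : G → ℂ)) =
      Δ * conj (ev (XP b e a2 χ) (ζ ^ k)) := by
    intro χ
    rw [← inner_dd H (u ^ k) S.hM S.hb.1 hw2m, dd_coord S ha, H18.CharOrtho.inner_add_right,
      H18.CharOrtho.inner_smul_right, H18.CharOrtho.inner_smul_right]
    linear_combination (conj (ev (XP b e a1 χ) (ζ ^ k))) * e2v +
      (conj (ev (XP b e a2 χ) (ζ ^ k))) * e2w
  have hPc : conj P = P := by rw [hP, map_pow, Complex.conj_natCast]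
  have hΔc : conj Δ = Δ := by rw [hΔ, map_intCast]
  have key : ∀ {w w' : H → ℂ} {x x' : IrrCharacter G → ℂ}, w ∈ rspn p b → w' ∈ rspn p b →
      (∀ χ : IrrCharacter G, P * classInner w (tr H (u ^ k) (χ : G → ℂ)) = Δ * conj (x χ)) →
      (∀ χ : IrrCharacter G, P * classInner w' (tr H (u ^ k) (χ : G → ℂ)) = Δ * conj (x' χ)) →
      Δ * (Δ * ∑ χ : IrrCharacter G, conj (x χ) * x' χ) = P * (P * classInner w w') := by
    intro w w' x x' hw hw' hx hx'
    rw [← parseval_w H (u ^ k) hp hk1 hk2 hw hw', Finset.mul_sum, Finset.mul_sum, Finset.mul_sum,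
      Finset.mul_sum]
    refine Finset.sum_congr rfl fun χ _ => ?_
    have g1 := hx χ
    have g2 := congrArg conj (hx' χ)
    rw [map_mul, map_mul, hPc, hΔc, Complex.conj_conj] at g2
    calc Δ * (Δ * (conj (x χ) * x' χ)) = (Δ * conj (x χ)) * (Δ * x' χ) := by ring
      _ = (P * classInner w (tr H (u ^ k) (χ : G → ℂ))) *
          (P * conj (classInner w' (tr H (u ^ k) (χ : G → ℂ)))) := by rw [g1, g2]
      _ = _ := by ring
  have g11 : P * classInner w1 w1 = γ * Δ := by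
    conv_lhs => rw [hw1, H18.CharOrtho.inner_add_right, H18.CharOrtho.inner_smul_right,
      H18.CharOrtho.inner_smul_right]
    rw [← hw1, map_neg, map_intCast, map_intCast]
    linear_combination (γ : ℂ) * e1v - (β : ℂ) * e1w
  have g22 : P * classInner w2 w2 = α * Δ := by
    conv_lhs => rw [hw2, H18.CharOrtho.inner_add_right, H18.CharOrtho.inner_smul_right,
      H18.CharOrtho.inner_smul_right]
    rw [← hw2, map_neg, map_intCast, map_intCast]
    linear_combination (-(β : ℂ)) * e2v + (α : ℂ) * e2w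
  have g12 : P * classInner w1 w2 = -(β * Δ) := by
    conv_lhs => rw [hw2, H18.CharOrtho.inner_add_right, H18.CharOrtho.inner_smul_right,
      H18.CharOrtho.inner_smul_right]
    rw [map_neg, map_intCast, map_intCast]
    linear_combination (-(β : ℂ)) * e1v + (α : ℂ) * e1w
  refine ⟨?_, ?_, ?_⟩
  · have := key hw1m hw1m f1 f1
    rw [g11] at this
    apply mul_left_cancel₀ hΔ0
    rw [this]; ring
  · have := key hw2m hw2m f2 f2
    rw [g22] at this
    apply mul_left_cancel₀ hΔ0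
    rw [this]; ring
  · have := key hw1m hw2m f1 f2
    rw [g12] at this
    apply mul_left_cancel₀ hΔ0
    rw [this]; ring

theorem conj_mul_self_norm (x : ℂ) : conj x * x = ((‖x‖ ^ 2 : ℝ) : ℂ) := by
  rw [mul_comm, Complex.mul_conj, Complex.normSq_eq_norm_sq]

/-- real form of the completeness relations -/
theorem complete_re (S : Sit M p H u n ζ e b B) {v w : H → ℂ} {a1 a2 : IrrCharacter H → ℤ}
    (ha : ∀ ξ ∈ b, reg p (ξ : H → ℂ) = (a1 ξ : ℂ) • v + (a2 ξ : ℂ) • w) {α β γ : ℤ}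
    (hv : v ∈ rspn p b) (hw : w ∈ rspn p b)
    (h1 : (p : ℂ) ^ blockDefect p b * classInner v v = α)
    (h2 : (p : ℂ) ^ blockDefect p b * classInner v w = β)
    (h3 : (p : ℂ) ^ blockDefect p b * classInner w v = β)
    (h4 : (p : ℂ) ^ blockDefect p b * classInner w w = γ) (hdet : α * γ - β ^ 2 ≠ 0)
    {μ : ℂ} (hμ : μ ∈ primitiveRoots n ℂ) :
    ((α * γ - β ^ 2 : ℤ) : ℝ) * (∑ χ : IrrCharacter G, ‖ev (XP b e a1 χ) μ‖ ^ 2) =
      (p : ℝ) ^ blockDefect p b * γ ∧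
    ((α * γ - β ^ 2 : ℤ) : ℝ) * (∑ χ : IrrCharacter G, ‖ev (XP b e a2 χ) μ‖ ^ 2) =
      (p : ℝ) ^ blockDefect p b * α ∧
    ((α * γ - β ^ 2 : ℤ) : ℝ) * (∑ χ : IrrCharacter G,
      ‖ev (XP b e a1 χ + XP b e a2 χ) μ‖ ^ 2) =
      (p : ℝ) ^ blockDefect p b * (α + γ - 2 * β) := by
  obtain ⟨g1, g2, g3⟩ := complete S ha hv hw h1 h2 h3 h4 hdet hμ
  refine ⟨?_, ?_, ?_⟩
  · simp_rw [conj_mul_self_norm] at g1
    exact_mod_cast g1
  · simp_rw [conj_mul_self_norm] at g2
    exact_mod_cast g2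
  · have g4 := congrArg conj g3
    rw [map_mul, map_intCast, map_sum, map_neg, map_mul, map_pow, Complex.conj_natCast,
      map_intCast] at g4
    have g5 : ((α * γ - β ^ 2 : ℤ) : ℂ) * (∑ χ : IrrCharacter G,
        conj (ev (XP b e a1 χ + XP b e a2 χ) μ) * ev (XP b e a1 χ + XP b e a2 χ) μ) =
        (p : ℂ) ^ blockDefect p b * (α + γ - 2 * β) := by
      have g6 : ∀ χ : IrrCharacter G,
        conj (ev (XP b e a1 χ + XP b e a2 χ) μ) * ev (XP b e a1 χ + XP b e a2 χ) μ =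
        conj (ev (XP b e a1 χ) μ) * ev (XP b e a1 χ) μ +
        conj (ev (XP b e a2 χ) μ) * ev (XP b e a2 χ) μ +
        conj (ev (XP b e a1 χ) μ) * ev (XP b e a2 χ) μ +
        conj (conj (ev (XP b e a1 χ) μ) * ev (XP b e a2 χ) μ) := by
        intro χ
        rw [ev_add, map_add, map_mul, Complex.conj_conj]
        ring
      rw [Finset.sum_congr rfl (fun χ _ => g6 χ), Finset.sum_add_distrib, Finset.sum_add_distrib,
        Finset.sum_add_distrib, mul_add, mul_add, mul_add, g1, g2, g3, g4]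
      ring
    simp_rw [conj_mul_self_norm] at g5
    exact_mod_cast g5

theorem bound_one (S : Sit M p H u n ζ e b B) (hq : blockDefect p b = blockDefect p B)
    (hl : blockRank p b ≤ 1) : Nat.card B ≤ p ^ blockDefect p b := by
  classical
  set F := Finset.univ.filter (fun χ : IrrCharacter G => χ ∈ B) with hF
  have hk : Nat.card B = F.card := by
    rw [hF, ← Fintype.card_subtype, ← Nat.card_eq_fintype_card]
  have hζm : ζ ∈ primitiveRoots n ℂ := (mem_primitiveRoots (Nat.pos_of_ne_zero S.n_ne)).2 S.hζ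
  obtain ⟨ψ0, hψ0, h00⟩ := exists_height_zero S.hM S.hb.2.1
  have hcr : 0 < (primitiveRoots n ℂ).card := Finset.card_pos.2 ⟨ζ, hζm⟩
  set cr := (primitiveRoots n ℂ).card with hcrd
  have h1 : ∀ χ ∈ F, (cr : ℝ) ≤ ∑ μ ∈ primitiveRoots n ℂ, (S.A μ χ χ).re := by
    intro χ hχ
    have hχB := (Finset.mem_filter.1 hχ).2
    have h2 : S.A ζ χ χ ≠ 0 := by
      intro h3
      have h4 := S.diag_pos hζm (S.major_ne_zero hq hχB hψ0 h00 hζm)
      rw [h3] at h4
      exact lt_irrefl _ h4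
    refine (norm_ineq_val S.n_ne (f := Pol H p b n e χ χ) S.hζ h2).trans (le_of_eq ?_)
    refine Finset.sum_congr rfl fun μ hμ => ?_
    have h3 := S.diag_im hμ χ
    show ‖S.A μ χ χ‖ = _
    rw [← h3, Complex.norm_real, Complex.ofReal_re, Real.norm_of_nonneg (S.diag_nonneg hμ χ)]
  have h2 : (F.card : ℝ) * cr ≤ cr * ((p : ℝ) ^ blockDefect p b * blockRank p b) := by
    calc (F.card : ℝ) * cr = ∑ χ ∈ F, (cr : ℝ) := by rw [Finset.sum_const, nsmul_eq_mul]
      _ ≤ ∑ χ ∈ F, ∑ μ ∈ primitiveRoots n ℂ, (S.A μ χ χ).re := Finset.sum_le_sum h1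
      _ ≤ ∑ χ : IrrCharacter G, ∑ μ ∈ primitiveRoots n ℂ, (S.A μ χ χ).re :=
        Finset.sum_le_sum_of_subset_of_nonneg (Finset.subset_univ _)
          fun χ _ _ => Finset.sum_nonneg fun μ hμ => S.diag_nonneg hμ χ
      _ = _ := by
        rw [Finset.sum_comm, Finset.sum_congr rfl (fun μ hμ => S.sum_diag_re hμ),
          Finset.sum_const, nsmul_eq_mul]
  have h3 : (F.card : ℝ) ≤ (p : ℝ) ^ blockDefect p b * blockRank p b := by
    have hcr' : (0 : ℝ) < cr := by exact_mod_cast hcr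
    rw [mul_comm] at h2
    exact le_of_mul_le_mul_left h2 hcr'
  have h4 : (p : ℝ) ^ blockDefect p b * blockRank p b ≤ (p : ℝ) ^ blockDefect p b := by
    have : (blockRank p b : ℝ) ≤ 1 := by exact_mod_cast hl
    have h5 : (0 : ℝ) ≤ (p : ℝ) ^ blockDefect p b := by positivity
    nlinarith
  rw [hk]
  exact_mod_cast h3.trans h4

set_option maxHeartbeats 1600000 in
theorem bound_two (S : Sit M p H u n ζ e b B) (hq : blockDefect p b = blockDefect p B)
    (hl : blockRank p b = 2) : Nat.card B ≤ p ^ blockDefect p b := by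
  classical
  haveI := pm_isPrime S.hM
  have hp := pm_prime S.hM
  set F := Finset.univ.filter (fun χ : IrrCharacter G => χ ∈ B) with hF
  have hk : Nat.card B = F.card := by
    rw [hF, ← Fintype.card_subtype, ← Nat.card_eq_fintype_card]
  have hζm : ζ ∈ primitiveRoots n ℂ := (mem_primitiveRoots (Nat.pos_of_ne_zero S.n_ne)).2 S.hζ
  obtain ⟨ψ0, hψ0, h00⟩ := exists_height_zero S.hM S.hb.2.1
  have hcr : 0 < (primitiveRoots n ℂ).card := Finset.card_pos.2 ⟨ζ, hζm⟩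
  set cr := (primitiveRoots n ℂ).card with hcrd
  have hcr' : (0 : ℝ) < cr := by exact_mod_cast hcr
  -- the lattice
  have hPpos : (0 : ℝ) < (p : ℝ) ^ blockDefect p b := pow_pos (by exact_mod_cast hp.pos) _
  haveI : Module.Finite ℤ (Lam p b) := by
    rw [Lam]; infer_instance
  obtain ⟨v, w, α, β, γ, hg, h1, h2, h4, hdet, hβ0, hβα, hαγ⟩ := exists_reduced (L := Lam p b)
    hPpos (inner_int S.hM S.hb.1) (by rw [span_Lam, finrank_rspn]; exact hl)
  have h3 : (((p : ℝ) ^ blockDefect p b : ℝ) : ℂ) * classInner w v = β := by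
    have h3 := congrArg conj h2
    rw [map_mul, H18.CharOrtho.inner_conj_symm, Complex.conj_ofReal, map_intCast] at h3
    exact h3
  rw [Complex.ofReal_pow, Complex.ofReal_natCast] at h1 h2 h3 h4
  have hvr : v ∈ rspn p b := by
    obtain ⟨a, ha⟩ := mem_Lam.1 hg.hv
    rw [ha]; exact V_mem_rspn b a
  have hwr : w ∈ rspn p b := by
    obtain ⟨a, ha⟩ := mem_Lam.1 hg.hw
    rw [ha]; exact V_mem_rspn b a
  have hex : ∀ ξ : IrrCharacter H, ∃ a1 a2 : ℤ, ξ ∈ b →
      reg p (ξ : H → ℂ) = (a1 : ℂ) • v + (a2 : ℂ) • w := by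
    intro ξ
    by_cases hξ : ξ ∈ b
    · obtain ⟨a, a', haa⟩ := hg.gen _ (reg_mem_Lam hξ)
      exact ⟨a, a', fun _ => haa⟩
    · exact ⟨0, 0, fun h => absurd h hξ⟩
  choose a1 a2 ha using hex
  have hpd := dvd_det S.hM S.hb.1 hg.hv hg.hw h1 h2 h3 h4
  -- nonvanishing
  have hne : ∀ χ ∈ F, ∀ μ ∈ primitiveRoots n ℂ,
      ¬ (ev (XP b e a1 χ) μ = 0 ∧ ev (XP b e a2 χ) μ = 0) := by
    intro χ hχ μ hμ h
    apply S.major_ne_zero hq (Finset.mem_filter.1 hχ).2 hψ0 h00 hμ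
    rw [A_coord S ha h1 h2 h3 h4 hμ, h.1, h.2]
    simp
  have hcomp := fun μ (hμ : μ ∈ primitiveRoots n ℂ) =>
    complete_re S ha hvr hwr h1 h2 h3 h4 (by omega) hμ
  set Δ := α * γ - β ^ 2 with hΔ
  have hΔ' : (0 : ℝ) < (Δ : ℝ) := by exact_mod_cast hdet
  have hni : ∀ f : ℤ[X], ev f ζ ≠ 0 → (cr : ℝ) ≤ ∑ μ ∈ primitiveRoots n ℂ, ‖ev f μ‖ ^ 2 :=
    fun f hf => norm_ineq_one S.n_ne S.hζ hf
  have hnn : ∀ f : ℤ[X], (0 : ℝ) ≤ ∑ μ ∈ primitiveRoots n ℂ, ‖ev f μ‖ ^ 2 :=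
    fun f => Finset.sum_nonneg fun _ _ => by positivity
  rw [hk]
  by_cases hα2 : 2 ≤ α
  · -- the general case
    have h5 : ∀ χ ∈ F, (2 : ℝ) * cr ≤ ∑ μ ∈ primitiveRoots n ℂ, (‖ev (XP b e a1 χ) μ‖ ^ 2 +
        ‖ev (XP b e a2 χ) μ‖ ^ 2 + ‖ev (XP b e a1 χ + XP b e a2 χ) μ‖ ^ 2) := by
      intro χ hχ
      rw [Finset.sum_add_distrib, Finset.sum_add_distrib]
      have h6 := hne χ hχ ζ hζm
      by_cases hx : ev (XP b e a1 χ) ζ = 0
      · have hy : ev (XP b e a2 χ) ζ ≠ 0 := fun hy => h6 ⟨hx, hy⟩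
        have hxy : ev (XP b e a1 χ + XP b e a2 χ) ζ ≠ 0 := by rw [ev_add, hx, zero_add]; exact hy
        have := hni _ hy
        have := hni _ hxy
        have := hnn (XP b e a1 χ)
        linarith
      · by_cases hy : ev (XP b e a2 χ) ζ = 0
        · have hxy : ev (XP b e a1 χ + XP b e a2 χ) ζ ≠ 0 := by rw [ev_add, hy, add_zero]; exact hx
          have := hni _ hx
          have := hni _ hxy
          have := hnn (XP b e a2 χ)
          linarith
        · have := hni _ hx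
          have := hni _ hy
          have := hnn (XP b e a1 χ + XP b e a2 χ)
          linarith
    have h6 : (Δ : ℝ) * ((F.card : ℝ) * (2 * cr)) ≤
        cr * ((p : ℝ) ^ blockDefect p b * (2 * (α + γ - β))) := by
      calc (Δ : ℝ) * ((F.card : ℝ) * (2 * cr)) = Δ * ∑ χ ∈ F, (2 * (cr : ℝ)) := by
            rw [Finset.sum_const, nsmul_eq_mul]
        _ ≤ Δ * ∑ χ ∈ F, ∑ μ ∈ primitiveRoots n ℂ, (‖ev (XP b e a1 χ) μ‖ ^ 2 +
        ‖ev (XP b e a2 χ) μ‖ ^ 2 + ‖ev (XP b e a1 χ + XP b e a2 χ) μ‖ ^ 2) :=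
            mul_le_mul_of_nonneg_left (Finset.sum_le_sum h5) hΔ'.le
        _ ≤ Δ * ∑ χ : IrrCharacter G, ∑ μ ∈ primitiveRoots n ℂ, (‖ev (XP b e a1 χ) μ‖ ^ 2 +
        ‖ev (XP b e a2 χ) μ‖ ^ 2 + ‖ev (XP b e a1 χ + XP b e a2 χ) μ‖ ^ 2) :=
            mul_le_mul_of_nonneg_left (Finset.sum_le_sum_of_subset_of_nonneg (Finset.subset_univ _)
              fun _ _ _ => Finset.sum_nonneg fun _ _ => by positivity) hΔ'.le
        _ = ∑ μ ∈ primitiveRoots n ℂ, (p : ℝ) ^ blockDefect p b * (2 * (α + γ - β)) := by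
            rw [Finset.sum_comm, Finset.mul_sum]
            refine Finset.sum_congr rfl fun μ hμ => ?_
            obtain ⟨g1, g2, g3⟩ := hcomp μ hμ
            rw [Finset.sum_add_distrib, Finset.sum_add_distrib, mul_add, mul_add, g1, g2, g3]
            ring
        _ = _ := by rw [Finset.sum_const, nsmul_eq_mul]
    have h7 : α + γ - β ≤ Δ := by
      rw [hΔ]
      by_cases hβ2 : β ≤ 1
      · have h8 : β = 0 ∨ β = 1 := by omega
        rcases h8 with h8 | h8
        · subst h8; nlinarith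
        · subst h8; nlinarith
      · have h8 : 2 ≤ β := by omega
        have h9 : 2 * β ≤ γ := hβα.trans hαγ
        nlinarith [mul_le_mul (show 2 * β - 1 ≤ α - 1 by omega) (show 2 * β - 1 ≤ γ - 1 by omega)
          (by omega) (by omega)]
    have h8 : ((α : ℝ) + γ - β) ≤ Δ := by exact_mod_cast h7
    have h9 : (F.card : ℝ) ≤ (p : ℝ) ^ blockDefect p b := by
      have h10 : ((Δ : ℝ) * (2 * cr)) * F.card ≤ (Δ * (2 * cr)) * (p : ℝ) ^ blockDefect p b := by
        calc ((Δ : ℝ) * (2 * cr)) * F.card = (Δ : ℝ) * ((F.card : ℝ) * (2 * cr)) := by ring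
          _ ≤ cr * ((p : ℝ) ^ blockDefect p b * (2 * (α + γ - β))) := h6
          _ ≤ cr * ((p : ℝ) ^ blockDefect p b * (2 * Δ)) := by
            refine mul_le_mul_of_nonneg_left (mul_le_mul_of_nonneg_left ?_ hPpos.le) hcr'.le
            linarith
          _ = _ := by ring
      exact le_of_mul_le_mul_left h10 (by positivity)
    exact_mod_cast h9
  · -- the case `α = 1`
    have hαpos : 0 < α := by
      by_contra h5
      have h6 : α = 0 := by omega
      have h7 : β = 0 := by omega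
      rw [hΔ, h6, h7] at hdet
      simp at hdet
    have hα1 : α = 1 := by omega
    have hβ1 : β = 0 := by omega
    have hΔγ : Δ = γ := by rw [hΔ, hα1, hβ1]; ring
    rw [hΔγ] at hpd hdet hΔ'
    have hγ2 : 2 ≤ γ := by
      have := Int.le_of_dvd hdet hpd
      have := hp.two_le
      omega
    have hγ2' : (2 : ℝ) ≤ γ := by exact_mod_cast hγ2
    have hX : ∀ μ ∈ primitiveRoots n ℂ, ∑ χ : IrrCharacter G, ‖ev (XP b e a1 χ) μ‖ ^ 2 =
        (p : ℝ) ^ blockDefect p b := by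
      intro μ hμ
      have := (hcomp μ hμ).1
      rw [hΔγ, mul_comm ((p : ℝ) ^ blockDefect p b)] at this
      exact mul_left_cancel₀ hΔ'.ne' this
    have hY : ∀ μ ∈ primitiveRoots n ℂ, (γ : ℝ) * ∑ χ : IrrCharacter G, ‖ev (XP b e a2 χ) μ‖ ^ 2 =
        (p : ℝ) ^ blockDefect p b := by
      intro μ hμ
      have := (hcomp μ hμ).2.1
      rw [hΔγ, hα1, Int.cast_one, mul_one] at this
      exact this
    by_cases hall : ∀ χ ∈ F, ev (XP b e a1 χ) ζ ≠ 0
    · have h6 : (F.card : ℝ) * cr ≤ cr * (p : ℝ) ^ blockDefect p b := by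
        calc (F.card : ℝ) * cr = ∑ χ ∈ F, (cr : ℝ) := by rw [Finset.sum_const, nsmul_eq_mul]
          _ ≤ ∑ χ ∈ F, ∑ μ ∈ primitiveRoots n ℂ, ‖ev (XP b e a1 χ) μ‖ ^ 2 :=
              Finset.sum_le_sum fun χ hχ => hni _ (hall χ hχ)
          _ ≤ ∑ χ : IrrCharacter G, ∑ μ ∈ primitiveRoots n ℂ, ‖ev (XP b e a1 χ) μ‖ ^ 2 :=
              Finset.sum_le_sum_of_subset_of_nonneg (Finset.subset_univ _) fun _ _ _ => hnn _
          _ = _ := by
              rw [Finset.sum_comm, Finset.sum_congr rfl hX, Finset.sum_const, nsmul_eq_mul]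
      have h7 : (F.card : ℝ) ≤ (p : ℝ) ^ blockDefect p b := by
        rw [mul_comm] at h6
        exact le_of_mul_le_mul_left h6 hcr'
      exact_mod_cast h7
    · push Not at hall
      obtain ⟨χ1, hχ1, hx1⟩ := hall
      have hn' := Nat.pos_of_ne_zero S.n_ne
      have hzero : ∀ f : ℤ[X], ev f ζ = 0 → ∀ μ ∈ primitiveRoots n ℂ, ev f μ = 0 := by
        intro f hf μ hμ
        by_contra h
        exact H84.CyclicNorm.eval_ne_zero hn' f ((mem_primitiveRoots hn').1 hμ) S.hζ h hf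
      have hAc : ∀ μ ∈ primitiveRoots n ℂ, ∀ χ ψ : IrrCharacter G, S.A μ χ ψ =
          ev (XP b e a1 χ) μ * conj (ev (XP b e a1 ψ) μ) +
          γ * (ev (XP b e a2 χ) μ * conj (ev (XP b e a2 ψ) μ)) := by
        intro μ hμ χ ψ
        rw [A_coord S ha h1 h2 h3 h4 hμ, hα1, hβ1]
        push_cast
        ring
      have hμint : ∀ μ ∈ primitiveRoots n ℂ, IsIntegral ℤ μ := fun μ hμ =>
        ((mem_primitiveRoots hn').1 hμ).isIntegral hn'
      have hconjint : ∀ f : ℤ[X], ∀ μ ∈ primitiveRoots n ℂ, IsIntegral ℤ (conj (ev f μ)) :=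
        fun f μ hμ => (isIntegral_ev (hμint μ hμ) f).map (starRingEnd ℂ).toIntAlgHom
      -- characters of height zero
      have hy0 : ∀ ψ ∈ F, blockHeight p B (ψ : G → ℂ) = 0 → ev (XP b e a2 ψ) ζ ≠ 0 := by
        intro ψ hψ hψh h5
        apply S.major_ne_zero hq (Finset.mem_filter.1 hχ1).2 (Finset.mem_filter.1 hψ).2 hψh hζm
        rw [hAc ζ hζm, hx1, h5]
        simp
      -- `x_ψ0` is a unit
      have hunit : ∀ μ ∈ primitiveRoots n ℂ, ¬ MemLocalIdeal M (conj (ev (XP b e a1 ψ0) μ)) := by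
        intro μ hμ h5
        have h6 := S.unit hψ0 hψ0 h00 h00 hμ
        apply h6
        rw [hAc μ hμ]
        refine locI_add (locI_mul_left (isIntegral_mem (isIntegral_ev (hμint μ hμ) _)) h5) ?_
        refine locI_mul_right ((locI_intCast_iff S.hM).2 hpd) ?_
        exact locR_mul (isIntegral_mem (isIntegral_ev (hμint μ hμ) _))
          (isIntegral_mem (hconjint _ μ hμ))
      have h5 : ∀ χ ∈ F, (cr : ℝ) * γ ≤ (γ - 1) * ∑ μ ∈ primitiveRoots n ℂ,
          ‖ev (XP b e a1 χ) μ‖ ^ 2 + γ * ∑ μ ∈ primitiveRoots n ℂ, ‖ev (XP b e a2 χ) μ‖ ^ 2 := by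
        intro χ hχ
        by_cases hy : ev (XP b e a2 χ) ζ = 0
        · have hχB := (Finset.mem_filter.1 hχ).2
          have hxne : ev (XP b e a1 χ) ζ ≠ 0 := fun h => hne χ hχ ζ hζm ⟨h, hy⟩
          have hh : blockHeight p B (χ : G → ℂ) ≠ 0 := fun h => hy0 χ hχ h hy
          have h6 : ∀ μ ∈ primitiveRoots n ℂ, MemLocalRing M (ev (XP b e a1 χ) μ / (p : ℂ) ^ 1) := by
            intro μ hμ
            have h7 := (S.major hq hχB hψ0 hμ).1
            rw [hAc μ hμ, hzero _ hy μ hμ, zero_mul, mul_zero, add_zero] at h7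
            have h8 := hunit μ hμ
            have h9 : conj (ev (XP b e a1 ψ0) μ) ≠ 0 := fun h => h8 (h ▸ locI_zero)
            obtain ⟨h, hh'⟩ := Nat.exists_eq_succ_of_ne_zero hh
            have hpc : (p : ℂ) ≠ 0 := by exact_mod_cast hp.ne_zero
            have h10 : ev (XP b e a1 χ) μ / (p : ℂ) ^ 1 = (p : ℂ) ^ h *
                (ev (XP b e a1 χ) μ * conj (ev (XP b e a1 ψ0) μ) /
                  (p : ℂ) ^ blockHeight p B (χ : G → ℂ)) * (conj (ev (XP b e a1 ψ0) μ))⁻¹ := by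
              rw [hh', Nat.succ_eq_add_one, pow_succ]
              field_simp
              ring
            rw [h10]
            exact locR_mul (locR_mul (locR_pow (locR_natCast p) h) h7)
              (locR_inv (isIntegral_mem (hconjint _ μ hμ)) h8)
          have h7 := norm_ineq S.hM S.n_ne h6 S.hζ hxne
          rw [← hcrd] at h7
          have h8 := hnn (XP b e a2 χ)
          have hp2 : (4 : ℝ) ≤ ((p : ℝ) ^ 1) ^ 2 := by
            have : (2 : ℝ) ≤ p := by exact_mod_cast hp.two_le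
            nlinarith
          have h9 : (cr : ℝ) * 4 ≤ ∑ μ ∈ primitiveRoots n ℂ, ‖ev (XP b e a1 χ) μ‖ ^ 2 :=
            (mul_le_mul_of_nonneg_left hp2 hcr'.le).trans h7
          have h10 : ((γ : ℝ) - 1) * (cr * 4) ≤ (γ - 1) * ∑ μ ∈ primitiveRoots n ℂ,
            ‖ev (XP b e a1 χ) μ‖ ^ 2 := mul_le_mul_of_nonneg_left h9 (by linarith)
          have h11 : (0 : ℝ) ≤ γ * ∑ μ ∈ primitiveRoots n ℂ, ‖ev (XP b e a2 χ) μ‖ ^ 2 :=
            mul_nonneg (by linarith) h8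
          nlinarith
        · have h6 := hni _ hy
          have h7 := hnn (XP b e a1 χ)
          have h8 : (0 : ℝ) ≤ (γ - 1) * ∑ μ ∈ primitiveRoots n ℂ, ‖ev (XP b e a1 χ) μ‖ ^ 2 :=
            mul_nonneg (by linarith) h7
          have h9 : (γ : ℝ) * cr ≤ γ * ∑ μ ∈ primitiveRoots n ℂ, ‖ev (XP b e a2 χ) μ‖ ^ 2 :=
            mul_le_mul_of_nonneg_left h6 (by linarith)
          linarith
      have h6 : ∑ χ ∈ F, ((cr : ℝ) * γ) ≤ (γ - 1) * (cr * (p : ℝ) ^ blockDefect p b) +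
          cr * (p : ℝ) ^ blockDefect p b := by
        calc ∑ χ ∈ F, ((cr : ℝ) * γ) ≤ ∑ χ ∈ F, ((γ - 1) * ∑ μ ∈ primitiveRoots n ℂ,
          ‖ev (XP b e a1 χ) μ‖ ^ 2 + γ * ∑ μ ∈ primitiveRoots n ℂ, ‖ev (XP b e a2 χ) μ‖ ^ 2) :=
              Finset.sum_le_sum h5
          _ ≤ ∑ χ : IrrCharacter G, ((γ - 1) * ∑ μ ∈ primitiveRoots n ℂ,
          ‖ev (XP b e a1 χ) μ‖ ^ 2 + γ * ∑ μ ∈ primitiveRoots n ℂ, ‖ev (XP b e a2 χ) μ‖ ^ 2) := by
              refine Finset.sum_le_sum_of_subset_of_nonneg (Finset.subset_univ _) fun χ _ _ => ?_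
              have := hnn (XP b e a1 χ)
              have := hnn (XP b e a2 χ)
              have h7 : (0 : ℝ) ≤ (γ - 1) * ∑ μ ∈ primitiveRoots n ℂ, ‖ev (XP b e a1 χ) μ‖ ^ 2 :=
                mul_nonneg (by linarith) (hnn _)
              have h8 : (0 : ℝ) ≤ γ * ∑ μ ∈ primitiveRoots n ℂ, ‖ev (XP b e a2 χ) μ‖ ^ 2 :=
                mul_nonneg (by linarith) (hnn _)
              linarith
          _ = _ := by
              rw [Finset.sum_add_distrib, ← Finset.mul_sum, ← Finset.mul_sum]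
              congr 1
              · congr 1
                rw [Finset.sum_comm, Finset.sum_congr rfl hX, Finset.sum_const, nsmul_eq_mul]
              · rw [Finset.sum_comm, Finset.mul_sum, Finset.sum_congr rfl hY, Finset.sum_const,
                  nsmul_eq_mul]
      rw [Finset.sum_const, nsmul_eq_mul] at h6
      have h7 : ((cr : ℝ) * γ) * F.card ≤ (cr * γ) * (p : ℝ) ^ blockDefect p b := by
        linarith
      have h8 := le_of_mul_le_mul_left h7 (by positivity)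
      exact_mod_cast h8

end main

end H78.ContrL2
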