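import Mathlib
import Cfsg.Prelude.Def_Blocks
import Cfsg.Agent.Lib.H18.CharQuot
import Cfsg.Agent.Lib.H31.Clifford
import Cfsg.Agent.Lib.H78.Galois

/-! Characters stable under the Galois action `χ ↦ χ ∘ (· ^ k)`. -/

set_option autoImplicit false
open Cfsg

namespace H78.GalStab

open H18.CharBasic H18.CharOrtho H18.CharQuot H31.Clifford

universe u

/-- composition with the `k`-th power map -/
def pw {G : Type*} [Group G] (k : ℕ) (χ : G → ℂ) : G → ℂ := fun g => χ (g ^ k)

section basic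

variable {G : Type u} [Group G] [Finite G] {k : ℕ}

omit [Finite G] in
theorem pw_apply (χ : G → ℂ) (g : G) : pw k χ g = χ (g ^ k) := rfl

theorem inner_pw [Fintype G] (hk : Nat.Coprime k (Nat.card G)) (φ ψ : G → ℂ) :
    classInner (pw k φ) (pw k ψ) = classInner φ ψ := by
  unfold classInner
  congr 1
  exact Fintype.sum_equiv (powCoprime hk.symm) _ _ (fun g => rfl)

theorem irr_pw (hk : Nat.Coprime k (Nat.card G)) {χ : G → ℂ} (hχ : IsIrrCharacter G χ) :
    IsIrrCharacter G (pw k χ) := H78.Galois.isIrr_pow hk hχ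

theorem coprime_sub (hk : Nat.Coprime k (Nat.card G)) (H : Subgroup G) :
    Nat.Coprime k (Nat.card H) := Nat.Coprime.coprime_dvd_right (Subgroup.card_subgroup_dvd_card H) hk

omit [Finite G] in
theorem pw_conj (N : Subgroup G) [N.Normal] (g : G) (θ : N → ℂ) :
    pw k (conjFunN N g θ) = conjFunN N g (pw k θ) := by
  funext n
  rw [pw_apply, cj_apply, cj_apply, pw_apply]
  congr 1
  apply Subtype.ext
  show g * ((n ^ k : N) : G) * g⁻¹ = (g * (n : G) * g⁻¹) ^ k
  rw [Subgroup.coe_pow, conj_pow]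

omit [Finite G] in
theorem pw_iterate (m : ℕ) (χ : G → ℂ) : (pw k)^[m] χ = pw (k ^ m) χ := by
  induction m with
  | zero => funext g; simp [pw]
  | succ m ih =>
    rw [Function.iterate_succ_apply', ih]
    funext g
    simp only [pw]
    rw [← pow_mul, pow_succ']

theorem pw_eq_self_of_modEq {m : ℕ} (h : m ≡ 1 [MOD Nat.card G]) (χ : G → ℂ) : pw m χ = χ := by
  funext g
  rw [pw_apply]
  congr 1
  have h1 : m ≡ 1 [MOD orderOf g] := h.of_dvd (orderOf_dvd_natCard g)
  have := pow_eq_pow_iff_modEq.2 h1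
  rwa [pow_one] at this

theorem inner_res_pw [Fintype G] (hk : Nat.Coprime k (Nat.card G)) (N : Subgroup G) [Fintype N]
    (χ : G → ℂ) (θ : N → ℂ) :
    classInner (fun n : N => pw k χ n) (pw k θ) = classInner (fun n : N => χ n) θ :=
  inner_pw (coprime_sub hk N) (fun n : N => χ n) θ

end basic

/-- S4518 -/
theorem stable_of_constituent {G : Type u} [Group G] [Fintype G] (p : ℕ) [Fact p.Prime]
    (N : Subgroup G) [N.Normal] [Fintype N]
    (hidx : ¬ p ∣ N.index) (k e : ℕ) (hk : Nat.Coprime k (Nat.card G))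
    (hke : k ^ (p ^ e) ≡ 1 [MOD Nat.card G]) {χ : G → ℂ} (hχi : IsIrrCharacter G χ)
    (hχ : pw k χ = χ) {θ : N → ℂ} (hθi : IsIrrCharacter N θ)
    (hθ : classInner (fun n : N => χ n) θ ≠ 0) : pw k θ = θ := by
  classical
  have hkN := coprime_sub hk N
  -- the map on the orbit
  have hmap : ∀ φ ∈ orb N θ, pw k φ ∈ orb N θ := by
    intro φ hφ
    rw [mem_orb]
    have hφi := irr_of_mem_orb N hθi hφ
    obtain ⟨g, rfl⟩ := (mem_orb N).1 hφ
    refine constituents_conj N hχi hθi (irr_pw hkN hφi) hθ ?_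
    have h1 := inner_res_pw hk N χ (conjFunN N g θ)
    rw [hχ, inner_restrict_cj N g (isClassFunction_of_isIrr hχi)] at h1
    rw [h1]
    exact hθ
  let f : Function.End {φ : N → ℂ // φ ∈ orb N θ} := fun φ => ⟨pw k φ.1, hmap φ.1 φ.2⟩
  have hfi : ∀ (m : ℕ) (φ : {φ : N → ℂ // φ ∈ orb N θ}), ((f ^ m) φ).1 = pw (k ^ m) φ.1 := by
    intro m
    induction m with
    | zero =>
      intro φ
      funext n
      rw [pow_zero, pow_zero, pw_apply, pow_one]
      rfl
    | succ m ih =>
      intro φ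
      rw [pow_succ]
      show ((f ^ m) (f φ)).1 = _
      rw [ih]
      funext n
      simp only [f, pw]
      rw [← pow_mul, pow_succ]
  have hf : f ^ p ^ e = 1 := by
    funext φ
    apply Subtype.ext
    rw [hfi]
    exact pw_eq_self_of_modEq (hke.of_dvd (Subgroup.card_subgroup_dvd_card N)) φ.1
  have h1 := Equiv.Perm.card_fixedPoints_modEq hf
  have h2 : Fintype.card {φ : N → ℂ // φ ∈ orb N θ} = (inertia N θ).index := by
    rw [Fintype.card_coe, card_orb]
  have h3 : ¬ p ∣ (inertia N θ).index := by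
    intro h
    exact hidx (h.trans (Subgroup.index_dvd_of_le (le_inertia N (isClassFunction_of_isIrr hθi))))
  have h4 : Fintype.card (Function.fixedPoints f) ≠ 0 := by
    intro h0
    rw [h0, h2] at h1
    exact h3 ((Nat.modEq_zero_iff_dvd).1 h1)
  have h5 : Nonempty (Function.fixedPoints f) := by
    rw [← Fintype.card_pos_iff]
    omega
  obtain ⟨⟨⟨φ, hφo⟩, hφ⟩⟩ := h5
  have hφ1 : pw k φ = φ := congrArg Subtype.val hφ
  obtain ⟨g, rfl⟩ := (mem_orb N).1 hφo
  rw [pw_conj] at hφ1
  exact cj_inj N g hφ1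

end H78.GalStab
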