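import Mathlib
import Cfsg.Prelude.Def_Blocks
import Cfsg.Agent.Lib.H78.Cover2

/-! Elements of `ℂG` invariant under conjugation by a normal subgroup `N`; orbit sums. -/

set_option autoImplicit false
set_option linter.unusedSectionVars false
open Cfsg

namespace H78.Dade

open H20.Loc H20.GA H20.Blk H20.Orth H20.Defect H78.PrincReal H78.Cover
open H18.CharBasic H18.CharOrtho H18.CharQuot H31.Clifford H18.CharInd
open scoped ComplexConjugate

universe u

section inv

variable {G : Type u} [Group G] [Fintype G] (N : Subgroup G) [hN : N.Normal]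

/-- invariance under conjugation by `N` -/
def InvN (a : MonoidAlgebra ℂ G) : Prop := ∀ n ∈ N, ∀ g : G, a.coeff (n * g * n⁻¹) = a.coeff g

variable {N}

theorem InvN.comm {a : MonoidAlgebra ℂ G} (h : InvN N a) : ∀ n ∈ N,
    MonoidAlgebra.single n 1 * a = a * MonoidAlgebra.single n 1 := by
  intro n hn
  apply MonoidAlgebra.ext
  ext g
  rw [MonoidAlgebra.coeff_single_mul_apply, MonoidAlgebra.coeff_mul_single_apply, one_mul, mul_one]
  have := h n hn (n⁻¹ * g)
  rw [← this]
  congr 1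
  group

theorem InvN.mul {a b : MonoidAlgebra ℂ G} (ha : InvN N a) (hb : InvN N b) : InvN N (a * b) := by
  intro n hn g
  rw [coeff_mul_eq, coeff_mul_eq, ← Equiv.sum_comp (MulAut.conj n).toEquiv]
  refine Finset.sum_congr rfl fun x _ => ?_
  have h1 : (MulAut.conj n).toEquiv x = n * x * n⁻¹ := rfl
  rw [h1, ha n hn x]
  congr 1
  rw [← hb n hn (x⁻¹ * g)]
  congr 1
  group

theorem invN_central (z : ZG G) : InvN N (toA z) := fun n _ g => zc_class z g n

variable (N) in
/-- restriction of the coefficients -/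
noncomputable def resN (a : MonoidAlgebra ℂ G) (ha : InvN N a) : ZG N :=
  zof (fun n : N => a.coeff n) (fun g h => ha h h.2 g)

theorem zc_resN (a : MonoidAlgebra ℂ G) (ha : InvN N a) (n : N) : zc (resN N a ha) n = a.coeff n := rfl

/-- coefficients are local integers -/
def LocA (M : Ideal AlgInt) (a : MonoidAlgebra ℂ G) : Prop := ∀ g, MemLocalRing M (a.coeff g)

theorem LocA.mul {M : Ideal AlgInt} [M.IsPrime] {a b : MonoidAlgebra ℂ G} (ha : LocA M a)
    (hb : LocA M b) : LocA M (a * b) := by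
  intro g
  rw [coeff_mul_eq]
  exact locR_sum fun x _ => locR_mul (ha x) (hb _)

theorem resN_mem {M : Ideal AlgInt} [M.IsPrime] {a : MonoidAlgebra ℂ G} (ha : InvN N a)
    (hl : LocA M a) : resN N a ha ∈ zr M N := fun n => hl n

end inv

section orbit

variable {G : Type u} [Group G] [Fintype G] (N : Subgroup G) [hN : N.Normal]

open Classical in
/-- coefficient function of the `N`-orbit sum of `c` -/
noncomputable def wcf (c : G) (g : G) : ℂ := if ∃ n ∈ N, n * c * n⁻¹ = g then 1 else 0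

/-- The `N`-orbit sum of `c`. -/
noncomputable def wc (c : G) : MonoidAlgebra ℂ G := ga (wcf N c)

theorem coeff_wc (c g : G) : (wc N c).coeff g = wcf N c g := rfl

theorem invN_wc (c : G) : InvN N (wc N c) := by
  intro n hn g
  have h : (∃ m ∈ N, m * c * m⁻¹ = n * g * n⁻¹) ↔ ∃ m ∈ N, m * c * m⁻¹ = g := by
    constructor
    · rintro ⟨m, hm, h⟩
      refine ⟨n⁻¹ * m, N.mul_mem (N.inv_mem hn) hm, ?_⟩
      calc n⁻¹ * m * c * (n⁻¹ * m)⁻¹ = n⁻¹ * (m * c * m⁻¹) * n := by group
        _ = g := by rw [h]; group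
    · rintro ⟨m, hm, h⟩
      refine ⟨n * m, N.mul_mem hn hm, ?_⟩
      calc n * m * c * (n * m)⁻¹ = n * (m * c * m⁻¹) * n⁻¹ := by group
        _ = _ := by rw [h]
  rw [coeff_wc, coeff_wc, wcf, wcf]
  by_cases h1 : ∃ m ∈ N, m * c * m⁻¹ = g
  · rw [if_pos h1, if_pos (h.2 h1)]
  · rw [if_neg h1, if_neg (fun h2 => h1 (h.1 h2))]

theorem locA_wc {M : Ideal AlgInt} [M.IsPrime] (c : G) : LocA M (wc N c) := by
  intro g
  rw [coeff_wc, wcf]
  split_ifs
  · exact locR_one
  · exact locR_zero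

theorem supp_wc {c g : G} (h : (wc N c).coeff g ≠ 0) :
    (QuotientGroup.mk g : G ⧸ N) = QuotientGroup.mk c := by
  rw [coeff_wc, wcf] at h
  have h1 : ∃ n ∈ N, n * c * n⁻¹ = g := by
    by_contra h2
    rw [if_neg h2] at h
    exact h rfl
  obtain ⟨n, hn, rfl⟩ := h1
  have hn1 : (QuotientGroup.mk n : G ⧸ N) = 1 := (QuotientGroup.eq_one_iff n).2 hn
  rw [QuotientGroup.mk_mul, QuotientGroup.mk_mul, QuotientGroup.mk_inv, hn1]
  simp

theorem supp_wc_mul {c d g : G} (h : (wc N c * wc N d).coeff g ≠ 0) :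
    (QuotientGroup.mk g : G ⧸ N) = QuotientGroup.mk c * QuotientGroup.mk d := by
  rw [coeff_mul_eq] at h
  obtain ⟨x, _, hx⟩ := Finset.exists_ne_zero_of_sum_ne_zero h
  have h1 := supp_wc N (left_ne_zero_of_mul hx)
  have h2 := supp_wc N (right_ne_zero_of_mul hx)
  rw [← h1, ← h2, ← QuotientGroup.mk_mul]
  congr 1
  group

/-- the size of the `N`-orbit -/
noncomputable def ct (c : G) : ℕ := Nat.card {g : G // ∃ n ∈ N, n * c * n⁻¹ = g}

theorem sum_wcf (c : G) : ∑ g : G, (wc N c).coeff g = (ct N c : ℂ) := by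
  classical
  rw [ct, Nat.card_eq_fintype_card, Fintype.card_subtype, Finset.card_filter, Nat.cast_sum]
  refine Finset.sum_congr rfl fun g _ => ?_
  rw [coeff_wc, wcf]
  split_ifs <;> simp

theorem sum_mul (a b : MonoidAlgebra ℂ G) :
    ∑ g : G, (a * b).coeff g = (∑ g : G, a.coeff g) * ∑ g : G, b.coeff g := by
  simp_rw [coeff_mul_eq]
  rw [Finset.sum_comm, Finset.sum_mul]
  refine Finset.sum_congr rfl fun x _ => ?_
  rw [← Finset.mul_sum]
  congr 1
  exact Equiv.sum_comp (Equiv.mulLeft x⁻¹) (fun g => b.coeff g)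

theorem not_dvd_ct {p : ℕ} [Fact p.Prime] (P : Sylow p G) (hPN : (P : Subgroup G) ≤ N) {c : G}
    (hc : c ∈ Subgroup.centralizer ((P : Subgroup G) : Set G)) : ¬ p ∣ ct N c := by
  classical
  let _ : MulAction N G := MulAction.compHom G (MulAut.conj.comp N.subtype)
  have hsm : ∀ (n : N) (g : G), n • g = (n : G) * g * (n : G)⁻¹ := fun n g => rfl
  have h1 : ct N c = (MulAction.stabilizer N c).index := by
    rw [MulAction.index_stabilizer, ct]
    have h2 : {g : G | ∃ n ∈ N, n * c * n⁻¹ = g} = MulAction.orbit N c := by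
      ext g
      rw [MulAction.mem_orbit_iff]
      constructor
      · rintro ⟨n, hn, h⟩
        exact ⟨⟨n, hn⟩, h⟩
      · rintro ⟨n, h⟩
        exact ⟨n, n.2, h⟩
    rw [← h2]
    rfl
  rw [h1]
  intro hdvd
  have h3 : (P : Subgroup G).subgroupOf N ≤ MulAction.stabilizer N c := by
    intro n hn
    rw [MulAction.mem_stabilizer_iff, hsm]
    have h4 : (n : G) ∈ (P : Subgroup G) := hn
    have h5 := (Subgroup.mem_centralizer_iff.1 hc) n h4
    rw [h5, mul_inv_cancel_right]
  have h6 := Subgroup.index_dvd_of_le h3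
  have h7 : (P : Subgroup G).relIndex N ∣ (P : Subgroup G).index :=
    Subgroup.relIndex_dvd_index_of_le hPN
  exact P.not_dvd_index (hdvd.trans (h6.trans h7))

end orbit

section inert

variable {G : Type u} [Group G] [Fintype G] (N : Subgroup G) [hN : N.Normal] [Fintype N]

theorem wc_mul_conj (c : G) {x : G → ℂ} (hx : ∀ n ∈ N, ∀ g, x (n * g * n⁻¹) = x g) :
    wc N c * ga x = ga (fun s => x (c⁻¹ * s * c)) * wc N c := by
  apply MonoidAlgebra.ext
  ext g
  rw [coeff_mul_eq, coeff_mul_eq]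
  let e : G ≃ G := (Equiv.inv G).trans (Equiv.mulLeft g)
  rw [← Equiv.sum_comp e (fun s => (ga (fun s => x (c⁻¹ * s * c))).coeff s *
    (wc N c).coeff (s⁻¹ * g))]
  refine Finset.sum_congr rfl fun t _ => ?_
  have he : e t = g * t⁻¹ := rfl
  rw [he, coeff_ga, coeff_ga, coeff_wc, coeff_wc]
  have h1 : (g * t⁻¹)⁻¹ * g = t := by group
  rw [h1]
  by_cases ht : ∃ n ∈ N, n * c * n⁻¹ = t
  · obtain ⟨n, hn, rfl⟩ := ht
    rw [mul_comm]
    congr 1
    have h2 : c⁻¹ * (n * c * n⁻¹) ∈ N := by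
      have := hN.conj_mem n hn c⁻¹
      have h3 : c⁻¹ * (n * c * n⁻¹) = (c⁻¹ * n * c⁻¹⁻¹) * n⁻¹ := by group
      rw [h3]
      exact N.mul_mem this (N.inv_mem hn)
    rw [← hx _ h2 ((n * c * n⁻¹)⁻¹ * g)]
    congr 1
    group
  · rw [wcf, if_neg ht, zero_mul, mul_zero]

theorem supp_comm {w : MonoidAlgebra ℂ G} (hw : InvN N w) {x : G → ℂ} (hx : ∀ g, g ∉ N → x g = 0) :
    w * ga x = ga x * w := by
  apply MonoidAlgebra.ext
  ext g
  rw [coeff_mul_eq, coeff_mul_eq]
  let e : G ≃ G := (Equiv.inv G).trans (Equiv.mulLeft g)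
  rw [← Equiv.sum_comp e (fun s => w.coeff s * (ga x).coeff (s⁻¹ * g))]
  refine Finset.sum_congr rfl fun s _ => ?_
  have he : e s = g * s⁻¹ := rfl
  rw [he, coeff_ga, coeff_ga]
  have h1 : (g * s⁻¹)⁻¹ * g = s := by group
  rw [h1, mul_comm]
  by_cases hs : s ∈ N
  · congr 1
    rw [← hw s hs (s⁻¹ * g)]
    congr 1
    group
  · rw [hx s hs, zero_mul, zero_mul]

theorem sum_N (f : G → ℂ) (hf : ∀ g, g ∉ N → f g = 0) : ∑ g : G, f g = ∑ n : N, f n := by
  classical
  rw [← Finset.sum_subset (Finset.subset_univ (Finset.univ.filter (fun g : G => g ∈ N)))]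
  · rw [Finset.sum_subtype (p := fun g : G => g ∈ N) _ (by simp)]
  · intro g _ hg
    exact hf g (fun h => hg (Finset.mem_filter.2 ⟨Finset.mem_univ _, h⟩))

/-- If `ω_θ` does not vanish on the product of the orbit sums of `c` and `c⁻¹` then `θ` is
`c`-invariant. -/
theorem cj_eq_of_ne_zero (c : G) (θ : IrrCharacter N)
    (hne : omega θ (resN N (wc N c * wc N c⁻¹) ((invN_wc N c).mul (invN_wc N c⁻¹))) ≠ 0) :
    conjFunN N c (θ : N → ℂ) = θ := by
  classical
  by_contra hcon
  set W := wc N c * wc N c⁻¹ with hW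
  have hWinv : InvN N W := (invN_wc N c).mul (invN_wc N c⁻¹)
  let b : N → ℂ := blockCoeff ({θ} : Set (IrrCharacter N))
  have hb : IsClassFunction N b := blockCoeff_class _
  let x : G → ℂ := fun g => if h : g ∈ N then b ⟨g, h⟩ else 0
  have hx0 : ∀ g, g ∉ N → x g = 0 := fun g hg => dif_neg hg
  have hx1 : ∀ n : N, x n = b n := fun n => dif_pos n.2
  have hxinv : ∀ n ∈ N, ∀ g, x (n * g * n⁻¹) = x g := by
    intro n hn g
    by_cases hg : g ∈ N
    · have h1 := hb ⟨g, hg⟩ ⟨n, hn⟩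
      have h2 := hx1 (⟨n, hn⟩ * ⟨g, hg⟩ * (⟨n, hn⟩ : N)⁻¹)
      have h3 := hx1 ⟨g, hg⟩
      rw [h1, ← h3] at h2
      exact h2
    · rw [hx0 g hg, hx0]
      intro h
      apply hg
      have := N.mul_mem (N.mul_mem (N.inv_mem hn) h) hn
      have h2 : n⁻¹ * (n * g * n⁻¹) * n = g := by group
      rwa [h2] at this
  let y : G → ℂ := fun s => x (c⁻¹ * s * c)
  have hy0 : ∀ g, g ∉ N → y g = 0 := by
    intro g hg
    apply hx0
    intro h
    apply hg
    have := hN.conj_mem _ h c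
    have h2 : c * (c⁻¹ * g * c) * c⁻¹ = g := by group
    rwa [h2] at this
  have hkey : ga x * W = ga y * W := by
    rw [hW, ← mul_assoc, ← mul_assoc, ← supp_comm N (invN_wc N c) hx0, wc_mul_conj N c hxinv]
  -- restrict to N
  have hycl : IsClassFunction N (fun n : N => y n) := by
    intro g h
    show x (c⁻¹ * ((h * g * h⁻¹ : N) : G) * c) = x (c⁻¹ * (g : G) * c)
    have h1 : c⁻¹ * (h : G) * c ∈ N := by
      have := hN.conj_mem (h : G) h.2 c⁻¹
      simpa using this
    rw [← hxinv _ h1 (c⁻¹ * (g : G) * c)]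
    congr 1
    push_cast
    group
  let Y : ZG N := zof _ hycl
  let u : ZG N := resN N W hWinv
  have hres : ∀ (f : G → ℂ) (F : ZG N), (∀ g, g ∉ N → f g = 0) → (∀ n : N, zc F n = f n) →
      ∀ n : N, zc (F * u) n = (ga f * W).coeff n := by
    intro f F hf0 hF n
    rw [zc_mul, coeff_mul_eq, sum_N N (fun t => (ga f).coeff t * W.coeff (t⁻¹ * n))
      (fun g hg => by rw [coeff_ga, hf0 g hg, zero_mul])]
    refine Finset.sum_congr rfl fun m _ => ?_
    rw [hF, coeff_ga]
    rfl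
  have h1 : eB ({θ} : Set (IrrCharacter N)) * u = Y * u := by
    apply zG_ext
    intro n
    rw [hres x (eB ({θ} : Set (IrrCharacter N))) hx0 (fun n => (hx1 n).symm) n,
      hres y Y hy0 (fun n => rfl) n, hkey]
  have h2 := congrArg (omega θ) h1
  rw [map_mul, map_mul, omega_eB_mem (Set.mem_singleton θ), one_mul] at h2
  have h3 : omega θ Y = 0 := by
    rw [omega_eq_sum]
    have h4 : ∑ n : N, zc Y n * (θ : N → ℂ) n = ∑ n : N, b n * (cjIrr N c θ : N → ℂ) n := by
      rw [← Equiv.sum_comp (MulAut.conjNormal c : MulAut N).toEquiv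
        (fun n => zc Y n * (θ : N → ℂ) n)]
      refine Finset.sum_congr rfl fun n _ => ?_
      have h5 : (MulAut.conjNormal c : MulAut N).toEquiv n =
        ⟨c * n * c⁻¹, hN.conj_mem n n.2 c⟩ := rfl
      rw [h5, cjIrr_apply]
      congr 1
      show x (c⁻¹ * (c * (n : G) * c⁻¹) * c) = b n
      rw [← hx1]
      congr 1
      group
    rw [h4, sum_blockCoeff_mul N ({θ} : Set (IrrCharacter N)) (cjIrr N c θ), if_neg, zero_div]
    intro h5
    exact hcon (congrArg Subtype.val (Set.mem_singleton_iff.1 h5))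
  rw [h3, zero_mul] at h2
  exact hne h2

end inert

end H78.Dade
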