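import Mathlib
import Cfsg.Prelude.Def_Blocks
import Cfsg.Agent.Lib.H20.GA
import Cfsg.Agent.Lib.H18.CharQuot
import Cfsg.Agent.Lib.H83.Gallagher

/-! Gram matrix bound: elements of `ℂG` commuting with `N`. -/

set_option autoImplicit false
open Cfsg

namespace H78.Gram

open H20.GA
open H18.CharBasic H18.CharOrtho H18.CharQuot
open scoped ComplexConjugate

universe u

variable {G : Type u} [Group G] [Fintype G] (N : Subgroup G) [Fintype N]

/-- endomorphisms commuting with `N` -/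
noncomputable def E {d : ℕ} (ρ : Representation ℂ G (Fin d → ℂ)) :
    Submodule ℂ ((Fin d → ℂ) →ₗ[ℂ] (Fin d → ℂ)) :=
  (Representation.linHom (H83.Gallagher.resRep ρ N) (H83.Gallagher.resRep ρ N)).invariants

theorem mem_E {d : ℕ} (ρ : Representation ℂ G (Fin d → ℂ)) {a : MonoidAlgebra ℂ G}
    (ha : ∀ n ∈ N, MonoidAlgebra.single n 1 * a = a * MonoidAlgebra.single n 1) :
    (ρ.asAlgebraHom a : (Fin d → ℂ) →ₗ[ℂ] (Fin d → ℂ)) ∈ E N ρ := by
  intro n
  have h1 := congrArg ρ.asAlgebraHom (ha n n.2)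
  rw [map_mul, map_mul, Representation.asAlgebraHom_single_one] at h1
  show (ρ n) ∘ₗ ρ.asAlgebraHom a ∘ₗ (ρ ((n⁻¹ : N) : G)) = ρ.asAlgebraHom a
  have h2 : (ρ n) ∘ₗ ρ.asAlgebraHom a = ρ.asAlgebraHom a ∘ₗ (ρ n) := h1
  rw [← LinearMap.comp_assoc, h2, LinearMap.comp_assoc]
  have h3 : (ρ (n : G)) ∘ₗ (ρ ((n⁻¹ : N) : G)) = LinearMap.id := by
    have : ρ (n : G) * ρ ((n⁻¹ : N) : G) = 1 := by
      rw [← map_mul]
      simp
    exact this
  rw [h3, LinearMap.comp_id]

theorem finrank_E {d : ℕ} (ρ : Representation ℂ G (Fin d → ℂ)) :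
    (Module.finrank ℂ (E N ρ) : ℂ) =
      classInner (fun n : N => ρ.character n) (fun n : N => ρ.character n) := by
  have hinv : Invertible (Nat.card N : ℂ) :=
    invertibleOfNonzero (by exact_mod_cast (Nat.card_pos (α := N)).ne')
  have h1 := Representation.card_inv_mul_sum_char_mul_char_eq_finrank
    (H83.Gallagher.resRep ρ N) (H83.Gallagher.resRep ρ N)
  have h2 : Module.finrank ℂ (E N ρ) = Module.finrank ℂ
      (Representation.IntertwiningMap (H83.Gallagher.resRep ρ N) (H83.Gallagher.resRep ρ N)) :=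
    (Representation.invariantsEquivIntertwiningMap _ _).finrank_eq
  rw [h2, ← h1]
  have hc : IsCharacter N (fun n : N => ρ.character n) :=
    isCharacter_restrict N ⟨d, ρ, rfl⟩
  rw [inner_eq_sum_inv hc]
  rfl

/-- Gram matrix bound. -/
theorem gram_bound {J : Type*} [Fintype J] [DecidableEq J] (S' : Finset (IrrCharacter G))
    (v v' : J → MonoidAlgebra ℂ G)
    (hv : ∀ j, ∀ n ∈ N, MonoidAlgebra.single n 1 * v j = v j * MonoidAlgebra.single n 1)
    (c : IrrCharacter G → ℂ)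
    (hdet : (Matrix.of fun q r : J =>
      ∑ χ ∈ S', c χ * evA (χ : G → ℂ) (v q * v' r)).det ≠ 0) :
    ∃ f : IrrCharacter G → ℕ, (∀ χ, (f χ : ℂ) =
      classInner (fun n : N => (χ : G → ℂ) n) (fun n : N => (χ : G → ℂ) n)) ∧
      Fintype.card J ≤ ∑ χ ∈ S', f χ := by
  classical
  have hex : ∀ χ : IrrCharacter G, ∃ (d : ℕ) (ρ : Representation ℂ G (Fin d → ℂ)),
      ρ.character = (χ : G → ℂ) := by
    intro χ
    obtain ⟨d, ρ, _, h⟩ := χ.2
    exact ⟨d, ρ, h⟩
  choose d ρ hρ using hex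
  refine ⟨fun χ => Module.finrank ℂ (E N (ρ χ)), ?_, ?_⟩
  · intro χ
    rw [finrank_E, hρ]
  · let w : J → ((χ : S') → E N (ρ χ.1)) := fun j χ =>
      ⟨(ρ χ.1).asAlgebraHom (v j), mem_E N (ρ χ.1) (hv j)⟩
    let Φ : (J → ℂ) →ₗ[ℂ] ((χ : S') → E N (ρ χ.1)) := Fintype.linearCombination ℂ w
    have hinj : Function.Injective Φ := by
      refine (injective_iff_map_eq_zero Φ).2 ?_
      intro x hx
      have h1 : ∀ χ ∈ S', ∑ j, x j • (ρ χ).asAlgebraHom (v j) = 0 := by
        intro χ hχ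
        have h2 := congrFun hx ⟨χ, hχ⟩
        have h3 := congrArg Subtype.val h2
        rw [Fintype.linearCombination_apply] at h3
        simp only [Finset.sum_apply, Pi.smul_apply, Pi.zero_apply] at h3
        rw [AddSubmonoidClass.coe_finsetSum] at h3
        exact h3
      apply Matrix.eq_zero_of_vecMul_eq_zero hdet
      funext r
      rw [Matrix.vecMul, dotProduct]
      simp only [Matrix.of_apply, Pi.zero_apply]
      have h4 : ∀ χ ∈ S', ∑ j, x j * evA (χ : G → ℂ) (v j * v' r) = 0 := by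
        intro χ hχ
        have h5 : ∀ j, x j * evA (χ : G → ℂ) (v j * v' r) =
            LinearMap.trace ℂ _ ((x j • (ρ χ).asAlgebraHom (v j)) * (ρ χ).asAlgebraHom (v' r)) := by
          intro j
          rw [← hρ χ, ← trace_asAlgebraHom, map_mul, smul_mul_assoc, map_smul, smul_eq_mul]
        rw [Finset.sum_congr rfl (fun j _ => h5 j), ← map_sum, ← Finset.sum_mul, h1 χ hχ, zero_mul,
          map_zero]
      have h6 : ∑ j, x j * ∑ χ ∈ S', c χ * evA (χ : G → ℂ) (v j * v' r) =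
          ∑ χ ∈ S', c χ * ∑ j, x j * evA (χ : G → ℂ) (v j * v' r) := by
        simp_rw [Finset.mul_sum]
        rw [Finset.sum_comm]
        refine Finset.sum_congr rfl fun χ _ => Finset.sum_congr rfl fun j _ => by ring
      rw [h6]
      exact Finset.sum_eq_zero fun χ hχ => by rw [h4 χ hχ, mul_zero]
    have hfree : ∀ χ : S', Module.Free ℂ (E N (ρ χ.1)) := fun χ => Module.Free.of_divisionRing ℂ (E N (ρ χ.1))
    have hfin : ∀ χ : S', Module.Finite ℂ (E N (ρ χ.1)) := fun χ => inferInstance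
    have h7 := LinearMap.finrank_le_finrank_of_injective hinj
    rw [Module.finrank_fintype_fun_eq_card, Module.finrank_pi_fintype] at h7
    refine h7.trans (le_of_eq ?_)
    exact Finset.sum_coe_sort S' (fun χ => Module.finrank ℂ (E N (ρ χ)))

end H78.Gram
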