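import Mathlib
import Cfsg.Prelude.Def_Blocks
import Cfsg.Agent.Lib.H78.Dade1
import Cfsg.Agent.Lib.H78.Gram

/-! Alperin–Dade: isomorphic principal blocks. -/

set_option autoImplicit false
set_option linter.unusedSectionVars false
open Cfsg

namespace H78.Dade

open H20.Loc H20.GA H20.Blk H20.Orth H20.Defect H78.PrincReal H78.Cover
open H18.CharBasic H18.CharOrtho H18.CharQuot H31.Clifford H18.CharInd
open scoped ComplexConjugate

universe u

/-- The matrix `m_q (n δ - 1) m'_r` is invertible when `n = |J| + 1`. -/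
theorem det_ne_zero {F : Type*} [Field F] {J : Type*} [Fintype J] [DecidableEq J] (n : F)
    (hn : n = (Fintype.card J : F) + 1) (hn0 : n ≠ 0) (m m' : J → F) (hm : ∀ j, m j ≠ 0)
    (hm' : ∀ j, m' j ≠ 0) :
    (Matrix.of fun q r : J => (if q = r then n * (m q * m' q) else 0) - m q * m' r).det ≠ 0 := by
  let A : Matrix J J F := Matrix.of fun _ _ => 1
  have h1 : (Matrix.of fun q r : J => (if q = r then n * (m q * m' q) else 0) - m q * m' r) =
      Matrix.diagonal m * (n • (1 : Matrix J J F) - A) * Matrix.diagonal m' := by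
    ext q r
    rw [Matrix.mul_diagonal, Matrix.diagonal_mul, Matrix.sub_apply, Matrix.smul_apply,
      Matrix.one_apply, Matrix.of_apply]
    by_cases h : q = r
    · subst h
      rw [if_pos rfl, if_pos rfl, smul_eq_mul, mul_one]
      show _ = m q * (n - 1) * m' q
      ring
    · rw [if_neg h, if_neg h, smul_zero]
      show _ = m q * (0 - 1) * m' r
      ring
  have hAA : A * A = (Fintype.card J : F) • A := by
    ext q r
    rw [Matrix.mul_apply, Matrix.smul_apply]
    simp [A]
  have h2 : (n • (1 : Matrix J J F) - A) * (1 + A) = n • (1 : Matrix J J F) := by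
    rw [sub_mul, mul_add, mul_add, mul_one, mul_one, hAA, smul_mul_assoc, one_mul, hn]
    module
  have h3 : (n • (1 : Matrix J J F) - A).det ≠ 0 := by
    intro h0
    have h4 := congrArg Matrix.det h2
    rw [Matrix.det_mul, h0, zero_mul, Matrix.det_smul, Matrix.det_one, mul_one] at h4
    exact pow_ne_zero _ hn0 h4.symm
  rw [h1, Matrix.det_mul, Matrix.det_mul, Matrix.det_diagonal, Matrix.det_diagonal]
  exact mul_ne_zero (mul_ne_zero (Finset.prod_ne_zero_iff.2 fun j _ => hm j) h3)
    (Finset.prod_ne_zero_iff.2 fun j _ => hm' j)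

variable {G : Type u} [Group G] [Fintype G] {p : ℕ} {M : Ideal AlgInt} (N : Subgroup G)
  [hN : N.Normal] [Fintype N]

/-- Main trace formula for invariant `θ`. -/
theorem trace_formula [Fintype (IrrCharacter G)] (S : Set (IrrCharacter G)) [DecidablePred (· ∈ S)]
    (θ : IrrCharacter N) (hθ : ∀ g : G, conjFunN N g (θ : N → ℂ) = θ) {a : MonoidAlgebra ℂ G}
    (ha : InvN N a) :
    (∑ χ : IrrCharacter G, if χ ∈ S then
      classInner (fun n : N => (χ : G → ℂ) n) (θ : N → ℂ) * evA (χ : G → ℂ) a else 0) / (θ : N → ℂ) 1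
      = (N.index : ℂ) * omega θ (resN N (toA (eB S) * a) ((invN_central _).mul ha)) := by
  rw [sum_inner_evA N S (isCharacter_of_isIrr θ.2) a, evA_ind N (θ : N → ℂ) _ (Or.inl hθ),
    omega_eq_sum, mul_div_assoc]
  rfl

theorem triv_inv (g : G) : conjFunN N g ((triv N : IrrCharacter N) : N → ℂ) =
    ((triv N : IrrCharacter N) : N → ℂ) := rfl

/-- The hypotheses on the coset representatives. -/
structure Reps (p : ℕ) (M : Ideal AlgInt) where
  c : G ⧸ N → G
  mk_c : ∀ q, (QuotientGroup.mk (c q) : G ⧸ N) = q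
  ct1 : ∀ q, ¬ p ∣ ct N (c q)
  ct2 : ∀ q, ¬ p ∣ ct N (c q)⁻¹
  princ : ∀ χ : IrrCharacter G, χ ∈ principalBlock M G → (∀ n ∈ N, (χ : G → ℂ) n = (χ : G → ℂ) 1) →
    χ = triv G

variable {N}

theorem evA_triv (a : MonoidAlgebra ℂ G) :
    evA ((triv G : IrrCharacter G) : G → ℂ) a = ∑ g : G, a.coeff g := by
  rw [evA_eq_sum]
  refine Finset.sum_congr rfl fun g _ => ?_
  show a.coeff g * 1 = _
  rw [mul_one]

/-- sum of coefficients over `N` of the product of two orbit sums -/
theorem sum_res_wc (R : Reps N p M) (q r : G ⧸ N) [DecidableEq (G ⧸ N)] :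
    ∑ n : N, (wc N (R.c q) * wc N (R.c r)⁻¹).coeff n =
      if q = r then (ct N (R.c q) : ℂ) * (ct N (R.c q)⁻¹ : ℂ) else 0 := by
  split_ifs with h
  · subst h
    rw [← sum_wcf, ← sum_wcf, ← sum_mul]
    symm
    apply sum_N
    intro g hg
    by_contra h0
    have h1 := supp_wc_mul N h0
    rw [QuotientGroup.mk_inv, mul_inv_cancel] at h1
    exact hg ((QuotientGroup.eq_one_iff g).1 h1)
  · refine Finset.sum_eq_zero fun n _ => ?_
    by_contra h0
    have h1 := supp_wc_mul N h0
    rw [QuotientGroup.mk_inv, R.mk_c, R.mk_c, (QuotientGroup.eq_one_iff (n : G)).2 n.2] at h1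
    exact h (eq_of_mul_inv_eq_one h1.symm)

theorem omega_triv_resN {a : MonoidAlgebra ℂ G} (ha : InvN N a) :
    omega (triv N) (resN N a ha) = ∑ n : N, a.coeff n := by
  rw [omega_eq_sum]
  show (∑ n : N, a.coeff n * 1) / 1 = _
  rw [div_one]
  refine Finset.sum_congr rfl fun n _ => mul_one _

/-- All members of the principal block of `N` are `G`-invariant. -/
theorem invariant (hM : IsPModular p M) (R : Reps N p M) {θ : IrrCharacter N}
    (hθ : θ ∈ principalBlock M N) (g : G) : conjFunN N g (θ : N → ℂ) = θ := by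
  classical
  have := pm_isPrime hM
  have key : ∀ q : G ⧸ N, conjFunN N (R.c q) (θ : N → ℂ) = θ := by
    intro q
    apply cj_eq_of_ne_zero
    intro h0
    have hz := resN_mem (M := M) ((invN_wc N (R.c q)).mul (invN_wc N (R.c q)⁻¹))
      ((locA_wc N (R.c q)).mul (locA_wc N (R.c q)⁻¹))
    have h1 := (sameBlock_iff (χ := triv N) (ψ := θ)).1 hθ _ hz
    rw [h0, sub_zero, omega_triv_resN, sum_res_wc R q q, if_pos rfl] at h1
    have h2 : MemLocalIdeal M ((ct N (R.c q) * ct N (R.c q)⁻¹ : ℕ) : ℂ) := by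
      push_cast
      exact h1
    rw [locI_natCast_iff hM, (pm_prime hM).dvd_mul] at h2
    rcases h2 with h2 | h2
    · exact R.ct1 q h2
    · exact R.ct2 q h2
  have h1 : (QuotientGroup.mk (R.c (QuotientGroup.mk g)) : G ⧸ N) = QuotientGroup.mk g := R.mk_c _
  have h2 : (R.c (QuotientGroup.mk g))⁻¹ * g ∈ N := QuotientGroup.eq.1 h1
  have h3 : g = R.c (QuotientGroup.mk g) * ((R.c (QuotientGroup.mk g))⁻¹ * g) := by group
  rw [h3, ← cj_mul, key, cj_mem N (isClassFunction_of_isIrr θ.2) h2]


/-- restriction of a character over an invariant `θ` -/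
theorem restrict_of_invariant {θ : N → ℂ} (hθi : IsIrrCharacter N θ)
    (hinv : ∀ g : G, conjFunN N g θ = θ) {χ : G → ℂ} (hχ : IsIrrCharacter G χ)
    (h : classInner (fun n : N => χ n) θ ≠ 0) :
    (fun n : N => χ n) = classInner (fun n : N => χ n) θ • θ := by
  have h1 := restrict_eq N hχ hθi h
  have h2 : orb N θ = {θ} := by
    ext φ
    rw [mem_orb, Finset.mem_singleton]
    constructor
    · rintro ⟨g, rfl⟩; exact hinv g
    · rintro rfl; exact ⟨1, (cj_one _ _).symm⟩
  rwa [h2, Finset.sum_singleton] at h1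

theorem wt_invariant {θ : N → ℂ} (hθi : IsIrrCharacter N θ)
    (hinv : ∀ g : G, conjFunN N g θ = θ) {χ : G → ℂ} (hχ : IsIrrCharacter G χ)
    (h : classInner (fun n : N => χ n) θ ≠ 0) :
    (wt N θ χ : ℂ) = classInner (fun n : N => χ n) θ * classInner (fun n : N => χ n) θ ∧
      classInner (fun n : N => χ n) (fun n : N => χ n) = (wt N θ χ : ℂ) := by
  have h0 := irr_one_ne_zero hθi
  have h1 := restrict_of_invariant hθi hinv hχ h
  obtain ⟨e, he⟩ := inner_char_natCast (isCharacter_restrict N (isCharacter_of_isIrr hχ))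
      (isCharacter_of_isIrr hθi)
  have h2 : χ 1 = classInner (fun n : N => χ n) θ * θ 1 := by
    have := congrFun h1 1
    simpa using this
  have h3 : (wt N θ χ : ℂ) = classInner (fun n : N => χ n) θ * classInner (fun n : N => χ n) θ := by
    rw [← wt_spec N hχ hθi]
    conv_lhs => rw [h2]
    field_simp
  refine ⟨h3, ?_⟩
  rw [h3]
  conv_lhs => rw [h1]
  rw [H18.CharOrtho.inner_smul_left, H18.CharOrtho.inner_smul_right, inner_irr_self hθi, he]
  simp

theorem sum_wt_univ [Fintype (IrrCharacter G)] (θ : IrrCharacter N) :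
    ∑ χ : IrrCharacter G, wt N (θ : N → ℂ) (χ : G → ℂ) = N.index := by
  classical
  have h0 := irr_one_ne_zero θ.2
  have h1 := sum_inner_evA N (Set.univ : Set (IrrCharacter G)) (isCharacter_of_isIrr θ.2) 1
  rw [eB_univ, map_one, one_mul, evA_one, indFun_one] at h1
  have h2 : ((∑ χ : IrrCharacter G, wt N (θ : N → ℂ) (χ : G → ℂ) : ℕ) : ℂ) = (N.index : ℂ) := by
    rw [Nat.cast_sum]
    have h3 : ∀ χ : IrrCharacter G, (wt N (θ : N → ℂ) (χ : G → ℂ) : ℂ) =
        (if χ ∈ (Set.univ : Set (IrrCharacter G)) then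
          classInner (fun n : N => (χ : G → ℂ) n) (θ : N → ℂ) * evA (χ : G → ℂ) 1 else 0) /
          (θ : N → ℂ) 1 := by
      intro χ
      rw [if_pos (Set.mem_univ _), evA_one, ← wt_spec N χ.2 θ.2]
    rw [Finset.sum_congr rfl (fun χ _ => h3 χ), ← Finset.sum_div, h1, mul_div_assoc, div_self h0,
      mul_one]
  exact_mod_cast h2

theorem sum_wt_triv [Fintype (IrrCharacter G)] [DecidablePred (· ∈ principalBlock M G)]
    [M.IsPrime] (R : Reps N p M) :
    (∑ χ : IrrCharacter G, if χ ∈ principalBlock M G then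
      wt N ((triv N : IrrCharacter N) : N → ℂ) (χ : G → ℂ) else 0) = 1 := by
  rw [Finset.sum_eq_single (triv G)]
  · rw [if_pos triv_mem]
    have h2 := wt_spec N (triv G).2 (triv N).2
    have h3 : classInner (fun n : N => ((triv G : IrrCharacter G) : G → ℂ) n)
        ((triv N : IrrCharacter N) : N → ℂ) = 1 := inner_irr_self (triv N).2
    rw [h3] at h2
    have h4 : (1 : ℂ) * 1 / 1 = (wt N ((triv N : IrrCharacter N) : N → ℂ)
      ((triv G : IrrCharacter G) : G → ℂ) : ℂ) := h2
    have h5 : ((1 : ℕ) : ℂ) = (wt N ((triv N : IrrCharacter N) : N → ℂ)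
      ((triv G : IrrCharacter G) : G → ℂ) : ℂ) := by rw [← h4]; norm_num
    exact_mod_cast h5.symm
  · intro ψ _ hne
    split_ifs with hψB
    · by_contra h0
      have h2 := (wt_ne_zero_iff N ψ.2 (triv N).2).1 h0
      exact hne (R.princ ψ hψB (ker_of_over_one N ψ.2 h2))
    · rfl
  · intro hn
    exact absurd (Finset.mem_univ _) hn

/-- The key count. -/
theorem sum_wt_eq_one [Fintype (IrrCharacter G)] [DecidablePred (· ∈ principalBlock M G)]
    (hM : IsPModular p M) (hidx : ¬ p ∣ N.index) (R : Reps N p M) {θ : IrrCharacter N}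
    (hθ : θ ∈ principalBlock M N) :
    (∑ χ : IrrCharacter G, if χ ∈ principalBlock M G then
      wt N (θ : N → ℂ) (χ : G → ℂ) else 0) = 1 := by
  classical
  have hMp := pm_isPrime hM
  have hMm : M.IsMaximal := hM.2.1
  have hp := pm_prime hM
  have hchar := charP_resF hM
  set B := principalBlock M G with hBdef
  have hU : IsUnion M B := isUnion_of_isPBlock isPBlock_principal
  have hUc : IsUnion M Bᶜ := isUnion_compl hU
  have hinv := invariant hM R hθ
  have hθ1 := irr_one_ne_zero θ.2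
  let _ : Fintype (G ⧸ N) := Fintype.ofFinite _
  let J := {q : G ⧸ N // q ≠ 1}
  let v : J → MonoidAlgebra ℂ G := fun j => wc N (R.c j.1)
  let v' : J → MonoidAlgebra ℂ G := fun j => wc N (R.c j.1)⁻¹
  have hvv : ∀ q r : J, InvN N (v q * v' r) := fun q r => (invN_wc N _).mul (invN_wc N _)
  have hvl : ∀ q r : J, LocA M (v q * v' r) := fun q r => (locA_wc N _).mul (locA_wc N _)
  let S' : Finset (IrrCharacter G) := Finset.univ.filter
    (fun χ => χ ∉ B ∧ classInner (fun n : N => (χ : G → ℂ) n) (θ : N → ℂ) ≠ 0)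
  let cf : IrrCharacter G → ℂ := fun χ =>
    classInner (fun n : N => (χ : G → ℂ) n) (θ : N → ℂ) / (θ : N → ℂ) 1
  let F : IrrCharacter N → J → J → ℂ := fun φ q r =>
    (N.index : ℂ) * omega φ (resN N (toA (eB Bᶜ) * (v q * v' r))
      ((invN_central _).mul (hvv q r)))
  -- entries of the Gram matrix
  have hA : ∀ q r : J, ∑ χ ∈ S', cf χ * evA (χ : G → ℂ) (v q * v' r) = F θ q r := by
    intro q r
    have h1 := trace_formula N Bᶜ θ hinv (hvv q r)
    show _ = (N.index : ℂ) * _
    rw [← h1, Finset.sum_div, Finset.sum_filter]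
    refine Finset.sum_congr rfl fun χ _ => ?_
    by_cases h2 : χ ∉ B ∧ classInner (fun n : N => (χ : G → ℂ) n) (θ : N → ℂ) ≠ 0
    · rw [if_pos h2, if_pos (show χ ∈ Bᶜ from h2.1)]
      show _ / _ * _ = _
      ring
    · rw [if_neg h2]
      by_cases h3 : χ ∈ Bᶜ
      · rw [if_pos h3]
        have h4 : classInner (fun n : N => (χ : G → ℂ) n) (θ : N → ℂ) = 0 := by
          by_contra h5
          exact h2 ⟨h3, h5⟩
        rw [h4, zero_mul, zero_div]
      · rw [if_neg h3, zero_div]
  have hFR : ∀ (φ : IrrCharacter N) (q r : J), MemLocalRing M (F φ q r) := by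
    intro φ q r
    refine locR_mul (locR_natCast _) (omega_mem φ (resN_mem _ ?_))
    exact LocA.mul (fun g => (eB_mem_of_isUnion hUc) g) (hvl q r)
  have hFc : ∀ q r : J, MemLocalIdeal M (F (triv N) q r - F θ q r) := by
    intro q r
    show MemLocalIdeal M ((N.index : ℂ) * _ - (N.index : ℂ) * _)
    rw [← mul_sub]
    refine locI_mul_left (locR_natCast _) ?_
    refine (sameBlock_iff (χ := triv N) (ψ := θ)).1 hθ _ (resN_mem _ ?_)
    exact LocA.mul (fun g => (eB_mem_of_isUnion hUc) g) (hvl q r)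
  have hF1 : ∀ q r : J, F (triv N) q r =
      (if q = r then (N.index : ℂ) * ((ct N (R.c q.1) : ℂ) * (ct N (R.c q.1)⁻¹ : ℂ)) else 0) -
        (ct N (R.c q.1) : ℂ) * (ct N (R.c r.1)⁻¹ : ℂ) := by
    intro q r
    have h1 := trace_formula N Bᶜ (triv N) (triv_inv N) (hvv q r)
    have h2 := trace_formula N (Set.univ : Set (IrrCharacter G)) (triv N) (triv_inv N) (hvv q r)
    have h3 : ∑ χ : IrrCharacter G, (if χ ∈ B then
        classInner (fun n : N => (χ : G → ℂ) n) ((triv N : IrrCharacter N) : N → ℂ) *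
          evA (χ : G → ℂ) (v q * v' r) else 0) =
        (ct N (R.c q.1) : ℂ) * (ct N (R.c r.1)⁻¹ : ℂ) := by
      rw [Finset.sum_eq_single (triv G)]
      · rw [if_pos (show triv G ∈ B from triv_mem), evA_triv, sum_mul, sum_wcf, sum_wcf]
        have h3 : classInner (fun n : N => ((triv G : IrrCharacter G) : G → ℂ) n)
          ((triv N : IrrCharacter N) : N → ℂ) = 1 := inner_irr_self (triv N).2
        rw [h3, one_mul]
      · intro ψ _ hne
        split_ifs with hψB
        · by_cases h0 : classInner (fun n : N => (ψ : G → ℂ) n)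
            ((triv N : IrrCharacter N) : N → ℂ) = 0
          · rw [h0, zero_mul]
          · exact absurd (R.princ ψ hψB (ker_of_over_one N ψ.2 h0)) hne
        · rfl
      · intro hn
        exact absurd (Finset.mem_univ _) hn
    have h4 : (resN N (toA (eB (Set.univ : Set (IrrCharacter G))) * (v q * v' r))
        ((invN_central _).mul (hvv q r))) = resN N (v q * v' r) (hvv q r) := by
      apply zG_ext
      intro n
      rw [zc_resN, zc_resN, eB_univ, map_one, one_mul]
    have h5 := sum_res_wc R q.1 r.1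
    have h6 : (∑ χ : IrrCharacter G, if χ ∈ Bᶜ then
        classInner (fun n : N => (χ : G → ℂ) n) ((triv N : IrrCharacter N) : N → ℂ) *
          evA (χ : G → ℂ) (v q * v' r) else 0) =
        (∑ χ : IrrCharacter G, if χ ∈ (Set.univ : Set (IrrCharacter G)) then
        classInner (fun n : N => (χ : G → ℂ) n) ((triv N : IrrCharacter N) : N → ℂ) *
          evA (χ : G → ℂ) (v q * v' r) else 0) -
        ∑ χ : IrrCharacter G, (if χ ∈ B then
        classInner (fun n : N => (χ : G → ℂ) n) ((triv N : IrrCharacter N) : N → ℂ) *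
          evA (χ : G → ℂ) (v q * v' r) else 0) := by
      rw [← Finset.sum_sub_distrib]
      refine Finset.sum_congr rfl fun χ _ => ?_
      rw [if_pos (Set.mem_univ χ)]
      by_cases h7 : χ ∈ B
      · rw [if_neg (show χ ∉ Bᶜ from fun h => h h7), if_pos h7, sub_self]
      · rw [if_pos (show χ ∈ Bᶜ from h7), if_neg h7, sub_zero]
    have h1' : ((triv N : IrrCharacter N) : N → ℂ) 1 = 1 := rfl
    show (N.index : ℂ) * _ = _
    rw [← h1, h6, h3]
    rw [h1', div_one] at h2 ⊢
    rw [h2, h4, omega_triv_resN]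
    have h8 : ∑ n : N, (v q * v' r).coeff n =
        if q.1 = r.1 then (ct N (R.c q.1) : ℂ) * (ct N (R.c q.1)⁻¹ : ℂ) else 0 := h5
    rw [h8]
    by_cases h9 : q = r
    · rw [if_pos h9, if_pos (congrArg Subtype.val h9)]
    · rw [if_neg h9, if_neg (fun h => h9 (Subtype.ext h)), mul_zero]
  -- the determinant
  have hdet : (Matrix.of fun q r : J =>
      ∑ χ ∈ S', cf χ * evA (χ : G → ℂ) (v q * v' r)).det ≠ 0 := by
    let A' : Matrix J J (locRing M) := Matrix.of fun q r => ⟨F θ q r, hFR θ q r⟩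
    have h1 : (Matrix.of fun q r : J => ∑ χ ∈ S', cf χ * evA (χ : G → ℂ) (v q * v' r)) =
        (locRing M).subtype.mapMatrix A' := by
      ext q r
      exact hA q r
    intro h0
    rw [h1, ← RingHom.map_det] at h0
    have h2 : A'.det = 0 := by
      apply Subtype.ext
      exact h0
    have h3 := congrArg (redHom M) h2
    rw [RingHom.map_det, map_zero] at h3
    have h4 : (redHom M).mapMatrix A' = Matrix.of fun q r : J =>
        (if q = r then (N.index : ResF M) * ((ct N (R.c q.1) : ResF M) *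
          (ct N (R.c q.1)⁻¹ : ResF M)) else 0) -
          (ct N (R.c q.1) : ResF M) * (ct N (R.c r.1)⁻¹ : ResF M) := by
      ext q r
      show redFun M (F θ q r) = _
      rw [← (redFun_eq_iff (hFR (triv N) q r) (hFR θ q r)).2 (hFc q r), hF1 q r, Matrix.of_apply]
      have e1 : ((ct N (R.c q.1) : ℂ) * (ct N (R.c r.1)⁻¹ : ℂ)) =
        ((ct N (R.c q.1) * ct N (R.c r.1)⁻¹ : ℕ) : ℂ) := by push_cast; rfl
      have e2 : (N.index : ℂ) * ((ct N (R.c q.1) : ℂ) * (ct N (R.c q.1)⁻¹ : ℂ)) =
        ((N.index * (ct N (R.c q.1) * ct N (R.c q.1)⁻¹) : ℕ) : ℂ) := by push_cast; rfl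
      rw [e1, e2]
      by_cases h9 : q = r
      · rw [if_pos h9, if_pos h9, redFun_sub (locR_natCast _) (locR_natCast _), redFun_natCast,
          redFun_natCast]
        push_cast
        rfl
      · rw [if_neg h9, if_neg h9, redFun_sub locR_zero (locR_natCast _), redFun_natCast,
          redFun_zero]
        push_cast
        rfl
    rw [h4] at h3
    have hcast : ∀ m : ℕ, ¬ p ∣ m → (m : ResF M) ≠ 0 := by
      intro m hm h5
      exact hm ((CharP.cast_eq_zero_iff (ResF M) p m).1 h5)
    refine det_ne_zero (N.index : ResF M) ?_ (hcast _ hidx)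
      (fun q : J => (ct N (R.c q.1) : ResF M)) (fun q : J => (ct N (R.c q.1)⁻¹ : ResF M))
      (fun q => hcast _ (R.ct1 q.1)) (fun q => hcast _ (R.ct2 q.1)) h3
    have h5 : Fintype.card J + 1 = N.index := by
      have h6 : Fintype.card J = Fintype.card (G ⧸ N) - 1 := by
        rw [Fintype.card_subtype_compl, Fintype.card_subtype_eq]
      have h7 : 0 < Fintype.card (G ⧸ N) := Fintype.card_pos
      have h8 : Fintype.card (G ⧸ N) = N.index := by
        rw [← Nat.card_eq_fintype_card]; rfl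
      omega
    rw [← h5]
    push_cast
    rfl
  obtain ⟨f, hf, hle⟩ := H78.Gram.gram_bound N S' v v' (fun j => (invN_wc N _).comm) cf hdet
  have hfw : ∀ χ ∈ S', f χ = wt N (θ : N → ℂ) (χ : G → ℂ) := by
    intro χ hχ
    rw [Finset.mem_filter] at hχ
    have h1 := (wt_invariant θ.2 hinv χ.2 hχ.2.2).2
    rw [← hf χ] at h1
    exact_mod_cast h1
  rw [Finset.sum_congr rfl hfw] at hle
  have htot := sum_wt_univ (G := G) θ
  have hsplit : (∑ χ : IrrCharacter G, if χ ∈ B then wt N (θ : N → ℂ) (χ : G → ℂ) else 0) +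
      ∑ χ ∈ S', wt N (θ : N → ℂ) (χ : G → ℂ) =
      ∑ χ : IrrCharacter G, wt N (θ : N → ℂ) (χ : G → ℂ) := by
    rw [Finset.sum_filter, ← Finset.sum_add_distrib]
    refine Finset.sum_congr rfl fun χ _ => ?_
    by_cases h1 : χ ∈ B
    · rw [if_pos h1, if_neg (fun h => h.1 h1), add_zero]
    · rw [if_neg h1, zero_add]
      by_cases h2 : classInner (fun n : N => (χ : G → ℂ) n) (θ : N → ℂ) = 0
      · rw [if_neg (fun h => h.2 h2)]
        by_contra h3
        exact ((wt_ne_zero_iff N χ.2 θ.2).1 (fun h => h3 h.symm)) h2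
      · rw [if_pos ⟨h1, h2⟩]
  have hcardJ : Fintype.card J + 1 = N.index := by
    have h6 : Fintype.card J = Fintype.card (G ⧸ N) - 1 := by
      rw [Fintype.card_subtype_compl, Fintype.card_subtype_eq]
    have h7 : 0 < Fintype.card (G ⧸ N) := Fintype.card_pos
    have h8 : Fintype.card (G ⧸ N) = N.index := by
      rw [← Nat.card_eq_fintype_card]; rfl
    omega
  have hcong := sum_wt_congr N hM hU (θ := triv N) (θ' := θ) hθ
  rw [sum_wt_triv R] at hcong
  have hne : (∑ χ : IrrCharacter G, if χ ∈ B then wt N (θ : N → ℂ) (χ : G → ℂ) else 0) ≠ 0 := by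
    intro h0
    rw [h0] at hcong
    have := (Nat.modEq_zero_iff_dvd).1 hcong
    exact hp.one_lt.ne' (Nat.dvd_one.1 this)
  rw [htot] at hsplit
  have hfin : (∑ χ : IrrCharacter G, if χ ∈ B then wt N (θ : N → ℂ) (χ : G → ℂ) else 0) = 1 := by
    omega
  rw [← hfin]
  refine Finset.sum_congr rfl (fun χ _ => ?_)
  by_cases h : χ ∈ B
  · rw [if_pos h, if_pos h]
  · rw [if_neg h, if_neg h]

end H78.Dade
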