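import Mathlib

/-!
# Products of conjugacy classes in projective special linear groups
-/

set_option autoImplicit false
set_option linter.unusedSectionVars false
set_option linter.unusedVariables false

namespace H78.PslProd

open Matrix

variable {F : Type*} [Field F] {d : ℕ}

/-- a vector representing a functional vanishing on `p` and equal to one at `u` -/
theorem exists_fun {p : Submodule F (Fin d → F)} {u : Fin d → F} (hu : u ∉ p) :
    ∃ φ : Fin d → F, φ ⬝ᵥ u = 1 ∧ ∀ x ∈ p, φ ⬝ᵥ x = 0 := by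
  obtain ⟨f, hf, hp⟩ := Submodule.exists_le_ker_of_notMem hu
  have hdot : ∀ x, (fun j => (f u)⁻¹ * f (Pi.single j 1)) ⬝ᵥ x = (f u)⁻¹ * f x := by
    intro x
    have h1 : x = ∑ j, x j • (Pi.single j (1 : F) : Fin d → F) := by
      ext i
      simp [Finset.sum_apply, Pi.single_apply]
    conv_rhs => rw [h1, map_sum]
    rw [dotProduct, Finset.mul_sum]
    refine Finset.sum_congr rfl fun j _ => ?_
    rw [map_smul, smul_eq_mul]; ring
  refine ⟨_, by rw [hdot, inv_mul_cancel₀ hf], fun x hx => ?_⟩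
  rw [hdot, (LinearMap.mem_ker.1 (hp hx) : f x = 0), mul_zero]

theorem coe_mul' (g h : SpecialLinearGroup (Fin d) F) :
    ((g * h : SpecialLinearGroup (Fin d) F) : Matrix (Fin d) (Fin d) F) =
      (g : Matrix (Fin d) (Fin d) F) * (h : Matrix (Fin d) (Fin d) F) := rfl

theorem coe_one' : ((1 : SpecialLinearGroup (Fin d) F) : Matrix (Fin d) (Fin d) F) = 1 := rfl

/-- transvection -/
def tv (r φ : Fin d → F) (h : φ ⬝ᵥ r = 0) : SpecialLinearGroup (Fin d) F :=
  ⟨1 + vecMulVec r φ, by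
    rw [vecMulVec_eq Unit, det_one_add_replicateCol_mul_replicateRow, h, add_zero]⟩

theorem coe_tv (r φ : Fin d → F) (h : φ ⬝ᵥ r = 0) : ((tv r φ h : SpecialLinearGroup (Fin d) F) :
    Matrix (Fin d) (Fin d) F) = 1 + vecMulVec r φ := rfl

theorem tv_mulVec (r φ : Fin d → F) (h : φ ⬝ᵥ r = 0) (x : Fin d → F) :
    ((tv r φ h : SpecialLinearGroup (Fin d) F) : Matrix (Fin d) (Fin d) F) *ᵥ x = x + (φ ⬝ᵥ x) • r := by
  rw [coe_tv, add_mulVec, one_mulVec, vecMulVec_mulVec]
  congr 1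
  ext i
  simp [mul_comm]

theorem tv_inv (r φ : Fin d → F) (h : φ ⬝ᵥ r = 0) :
    (tv r φ h)⁻¹ = tv r (-φ) (by rw [neg_dotProduct, h, neg_zero]) := by
  apply inv_eq_of_mul_eq_one_right
  apply Subtype.ext
  show (1 + vecMulVec r φ) * (1 + vecMulVec r (-φ)) = 1
  have h1 : vecMulVec r φ * vecMulVec r (-φ) = 0 := by
    rw [vecMulVec_mul_vecMulVec, h, zero_smul, vecMulVec_zero]
  rw [mul_add, add_mul, add_mul, h1, vecMulVec_neg]
  simp

/-- existence of a vector outside a small subspace -/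
theorem exists_notMem (hd : 3 ≤ d) (v u : Fin d → F) : ∃ r, r ∉ Submodule.span F ({v, u} : Set (Fin d → F)) := by
  classical
  by_contra hcon
  push Not at hcon
  have h1 : Submodule.span F ({v, u} : Set (Fin d → F)) = ⊤ := (Submodule.eq_top_iff').2 hcon
  have h2 : Module.finrank F (Submodule.span F (({v, u} : Finset (Fin d → F)) : Set (Fin d → F))) ≤
      ({v, u} : Finset (Fin d → F)).card := finrank_span_finset_le_card (R := F) _
  rw [Finset.coe_pair, h1, finrank_top, Module.finrank_fin_fun] at h2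
  have h3 : ({v, u} : Finset (Fin d → F)).card ≤ 2 := Finset.card_le_two
  omega

theorem mul_mulVec' (g h : SpecialLinearGroup (Fin d) F) (x : Fin d → F) :
    ((g * h : SpecialLinearGroup (Fin d) F) : Matrix (Fin d) (Fin d) F) *ᵥ x =
      (g : Matrix (Fin d) (Fin d) F) *ᵥ ((h : Matrix (Fin d) (Fin d) F) *ᵥ x) := by
  rw [coe_mul', mulVec_mulVec]

theorem inv_mulVec (g : SpecialLinearGroup (Fin d) F) {x y : Fin d → F}
    (h : (g : Matrix (Fin d) (Fin d) F) *ᵥ x = y) :
    ((g⁻¹ : SpecialLinearGroup (Fin d) F) : Matrix (Fin d) (Fin d) F) *ᵥ y = x := by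
  rw [← h, ← mul_mulVec', inv_mul_cancel, coe_one', one_mulVec]

theorem inj_mulVec (g : SpecialLinearGroup (Fin d) F) {x y : Fin d → F}
    (h : (g : Matrix (Fin d) (Fin d) F) *ᵥ x = (g : Matrix (Fin d) (Fin d) F) *ᵥ y) : x = y := by
  have h1 := inv_mulVec g h
  have h2 := inv_mulVec g (rfl : (g : Matrix (Fin d) (Fin d) F) *ᵥ y = _)
  exact h1.symm.trans h2

theorem trans_indep {w v : Fin d → F} (h : w ∉ Submodule.span F ({v - w} : Set (Fin d → F))) :
    ∃ g : SpecialLinearGroup (Fin d) F, (g : Matrix (Fin d) (Fin d) F) *ᵥ w = v := by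
  obtain ⟨φ, h1, h2⟩ := exists_fun h
  refine ⟨tv (v - w) φ (h2 _ (Submodule.mem_span_singleton_self _)), ?_⟩
  rw [tv_mulVec, h1, one_smul]
  abel

theorem notMem_sub {w v : Fin d → F} (hw : v ∉ Submodule.span F ({w} : Set (Fin d → F))) (hw0 : w ≠ 0) :
    w ∉ Submodule.span F ({v - w} : Set (Fin d → F)) := by
  intro h
  obtain ⟨a, ha⟩ := Submodule.mem_span_singleton.1 h
  by_cases ha0 : a = 0
  · rw [ha0, zero_smul] at ha
    exact hw0 ha.symm
  · apply hw
    rw [Submodule.mem_span_singleton]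
    refine ⟨a⁻¹ + 1, ?_⟩
    have h1 : v - w = a⁻¹ • w := by
      rw [← ha, smul_smul, inv_mul_cancel₀ ha0, one_smul, ha]
    rw [add_smul, ← h1, one_smul]
    abel

/-- transitivity on nonzero vectors -/
theorem trans_vec (hd : 3 ≤ d) {w v : Fin d → F} (hw : w ≠ 0) (hv : v ≠ 0) :
    ∃ g : SpecialLinearGroup (Fin d) F, (g : Matrix (Fin d) (Fin d) F) *ᵥ w = v := by
  obtain ⟨r, hr⟩ := exists_notMem hd w v
  have h1 : r ∉ Submodule.span F ({w} : Set (Fin d → F)) := fun h =>
    hr (Submodule.span_mono (by simp) h)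
  have h2 : r ∉ Submodule.span F ({v} : Set (Fin d → F)) := fun h =>
    hr (Submodule.span_mono (by simp) h)
  have hr0 : r ≠ 0 := fun h => h1 (h ▸ Submodule.zero_mem _)
  obtain ⟨g, hg⟩ := trans_indep (notMem_sub h1 hw)
  have h3 : v ∉ Submodule.span F ({r} : Set (Fin d → F)) := by
    intro h
    obtain ⟨a, ha⟩ := Submodule.mem_span_singleton.1 h
    have ha0 : a ≠ 0 := by
      rintro rfl
      rw [zero_smul] at ha
      exact hv ha.symm
    apply h2
    rw [Submodule.mem_span_singleton]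
    exact ⟨a⁻¹, by rw [← ha, smul_smul, inv_mul_cancel₀ ha0, one_smul]⟩
  obtain ⟨k, hk⟩ := trans_indep (notMem_sub h3 hr0)
  exact ⟨k * g, by rw [mul_mulVec', hg, hk]⟩

/-- a nonscalar matrix moves some line -/
theorem exists_moved {A : SpecialLinearGroup (Fin d) F} (hA : A ∉ Subgroup.center (SpecialLinearGroup (Fin d) F)) :
    ∃ v : Fin d → F, (A : Matrix (Fin d) (Fin d) F) *ᵥ v ∉ Submodule.span F ({v} : Set (Fin d → F)) := by
  by_contra hcon
  push Not at hcon
  apply hA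
  obtain ⟨a, ha⟩ := LinearMap.exists_eq_smul_id_of_forall_notLinearIndependent
    (f := Matrix.toLin' (A : Matrix (Fin d) (Fin d) F)) (by
      intro v hv
      have h1 := hcon v
      have hv' : v ≠ 0 := by
        have := hv.ne_zero 0
        simpa using this
      rw [LinearIndependent.pair_iff' hv'] at hv
      obtain ⟨c, hc⟩ := Submodule.mem_span_singleton.1 h1
      exact hv c (by rw [hc, Matrix.toLin'_apply]))
  rw [Matrix.SpecialLinearGroup.mem_center_iff]
  have h2 : (A : Matrix (Fin d) (Fin d) F) = scalar (Fin d) a := by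
    apply Matrix.toLin'.injective
    rw [ha]
    ext i j
    simp [Pi.single_apply]
  refine ⟨a, ?_, h2.symm⟩
  have h3 := A.2
  rw [h2] at h3
  simpa using h3

/-- the vector mover -/
theorem exists_conj (hd : 3 ≤ d) {A B : SpecialLinearGroup (Fin d) F} {v w : Fin d → F}
    (hv : (A : Matrix (Fin d) (Fin d) F) *ᵥ v ∉ Submodule.span F ({v} : Set (Fin d → F)))
    (hw : (B : Matrix (Fin d) (Fin d) F) *ᵥ w ∉ Submodule.span F ({w} : Set (Fin d → F))) :
    ∃ g : SpecialLinearGroup (Fin d) F, (g : Matrix (Fin d) (Fin d) F) *ᵥ w = v ∧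
      (g : Matrix (Fin d) (Fin d) F) *ᵥ ((B : Matrix (Fin d) (Fin d) F) *ᵥ w) ∉
        Submodule.span F ({v, (A : Matrix (Fin d) (Fin d) F) *ᵥ v} : Set (Fin d → F)) := by
  set u := (A : Matrix (Fin d) (Fin d) F) *ᵥ v with hu
  have hv0 : v ≠ 0 := by
    rintro rfl
    apply hv
    rw [hu, mulVec_zero]; exact Submodule.zero_mem _
  have hw0 : w ≠ 0 := by
    rintro rfl
    apply hw
    rw [mulVec_zero]; exact Submodule.zero_mem _
  obtain ⟨g, hg⟩ := trans_vec hd hw0 hv0
  by_cases h : (g : Matrix (Fin d) (Fin d) F) *ᵥ ((B : Matrix (Fin d) (Fin d) F) *ᵥ w) ∉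
        Submodule.span F ({v, u} : Set (Fin d → F))
  · exact ⟨g, hg, h⟩
  · push Not at h
    obtain ⟨α, β, hαβ⟩ := Submodule.mem_span_pair.1 h
    have hβ : β ≠ 0 := by
      rintro rfl
      apply hw
      rw [Submodule.mem_span_singleton]
      refine ⟨α, ?_⟩
      apply inj_mulVec g
      rw [mulVec_smul, hg, ← hαβ, zero_smul, add_zero]
    obtain ⟨r, hr⟩ := exists_notMem hd v u
    have hup : u ∉ Submodule.span F ({v, r} : Set (Fin d → F)) := by
      intro h1
      obtain ⟨a, b, hab⟩ := Submodule.mem_span_pair.1 h1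
      have hb : b ≠ 0 := by
        rintro rfl
        apply hv
        rw [Submodule.mem_span_singleton]
        exact ⟨a, by rw [← hab, zero_smul, add_zero]⟩
      apply hr
      rw [Submodule.mem_span_pair]
      refine ⟨-(b⁻¹ * a), b⁻¹, ?_⟩
      rw [← hab, smul_add, smul_smul, smul_smul, inv_mul_cancel₀ hb, one_smul, neg_smul]
      abel
    obtain ⟨φ, h1, h2⟩ := exists_fun hup
    have hφv : φ ⬝ᵥ v = 0 := h2 v (Submodule.subset_span (by simp))
    have hφr : φ ⬝ᵥ r = 0 := h2 r (Submodule.subset_span (by simp))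
    refine ⟨tv r φ hφr * g, ?_, ?_⟩
    · rw [mul_mulVec', hg, tv_mulVec, hφv, zero_smul, add_zero]
    · rw [mul_mulVec', tv_mulVec, ← hαβ, dotProduct_add, dotProduct_smul, dotProduct_smul, h1, hφv]
      intro h3
      apply hr
      have h4 : (α • (0 : F) + β • (1 : F)) • r = β • r := by simp
      rw [h4] at h3
      have h5 : β • r ∈ Submodule.span F ({v, u} : Set (Fin d → F)) := by
        have h6 := Submodule.sub_mem _ h3 (Submodule.mem_span_pair.2 ⟨α, β, rfl⟩)
        rwa [add_sub_cancel_left] at h6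
      have h6 := Submodule.smul_mem _ β⁻¹ h5
      rwa [smul_smul, inv_mul_cancel₀ hβ, one_smul] at h6

/-- conjugating to get an independent commutator vector -/
theorem exists_conj_comm (hd : 3 ≤ d) {A B : SpecialLinearGroup (Fin d) F} {v w : Fin d → F}
    (hv : (A : Matrix (Fin d) (Fin d) F) *ᵥ v ∉ Submodule.span F ({v} : Set (Fin d → F)))
    (hw : (B : Matrix (Fin d) (Fin d) F) *ᵥ w ∉ Submodule.span F ({w} : Set (Fin d → F))) :
    ∃ g : SpecialLinearGroup (Fin d) F,
      ((g * B * g⁻¹ : SpecialLinearGroup (Fin d) F) : Matrix (Fin d) (Fin d) F) *ᵥ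
          ((A : Matrix (Fin d) (Fin d) F) *ᵥ v) -
        (A : Matrix (Fin d) (Fin d) F) *ᵥ
          (((g * B * g⁻¹ : SpecialLinearGroup (Fin d) F) : Matrix (Fin d) (Fin d) F) *ᵥ v) ∉
        Submodule.span F ({v, (A : Matrix (Fin d) (Fin d) F) *ᵥ v} : Set (Fin d → F)) := by
  obtain ⟨g, hg1, hg2⟩ := exists_conj hd hv hw
  set u := (A : Matrix (Fin d) (Fin d) F) *ᵥ v with hu
  set y := (g : Matrix (Fin d) (Fin d) F) *ᵥ ((B : Matrix (Fin d) (Fin d) F) *ᵥ w) with hy
  have hBv : ((g * B * g⁻¹ : SpecialLinearGroup (Fin d) F) : Matrix (Fin d) (Fin d) F) *ᵥ v = y := by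
    rw [mul_mulVec', inv_mulVec g hg1, mul_mulVec']
  set z := ((g * B * g⁻¹ : SpecialLinearGroup (Fin d) F) : Matrix (Fin d) (Fin d) F) *ᵥ u with hz
  by_cases h : z - (A : Matrix (Fin d) (Fin d) F) *ᵥ y ∉ Submodule.span F ({v, u} : Set (Fin d → F))
  · exact ⟨g, by rw [hBv]; exact h⟩
  · push Not at h
    have hup : u ∉ Submodule.span F ({v, y} : Set (Fin d → F)) := by
      intro h1
      obtain ⟨a, b, hab⟩ := Submodule.mem_span_pair.1 h1
      have hb : b ≠ 0 := by
        rintro rfl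
        apply hv
        rw [Submodule.mem_span_singleton]
        exact ⟨a, by rw [← hab, zero_smul, add_zero]⟩
      apply hg2
      rw [Submodule.mem_span_pair]
      refine ⟨-(b⁻¹ * a), b⁻¹, ?_⟩
      rw [← hab, smul_add, smul_smul, smul_smul, inv_mul_cancel₀ hb, one_smul, neg_smul]
      abel
    obtain ⟨φ, h1, h2⟩ := exists_fun hup
    have hφv : φ ⬝ᵥ v = 0 := h2 v (Submodule.subset_span (by simp))
    have hφy : φ ⬝ᵥ y = 0 := h2 y (Submodule.subset_span (by simp))
    -- σ p = p - φ(p) v, σ⁻¹ p = p + φ(p) v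
    set σ := (tv v φ hφv)⁻¹ with hσ
    have hσa : ∀ x, ((σ : SpecialLinearGroup (Fin d) F) : Matrix (Fin d) (Fin d) F) *ᵥ x = x - (φ ⬝ᵥ x) • v := by
      intro x
      rw [hσ, tv_inv, tv_mulVec, neg_dotProduct, neg_smul, sub_eq_add_neg]
    have hσi : ∀ x, ((σ⁻¹ : SpecialLinearGroup (Fin d) F) : Matrix (Fin d) (Fin d) F) *ᵥ x = x + (φ ⬝ᵥ x) • v := by
      intro x
      rw [hσ, inv_inv, tv_mulVec]
    have hconj : σ * g * B * (σ * g)⁻¹ = σ * (g * B * g⁻¹) * σ⁻¹ := by group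
    refine ⟨σ * g, ?_⟩
    rw [hconj]
    have e1 : ((σ * (g * B * g⁻¹) * σ⁻¹ : SpecialLinearGroup (Fin d) F) : Matrix (Fin d) (Fin d) F) *ᵥ v = y := by
      rw [mul_mulVec', hσi, hφv, zero_smul, add_zero, mul_mulVec', hBv, hσa, hφy, zero_smul, sub_zero]
    have e2 : ((σ * (g * B * g⁻¹) * σ⁻¹ : SpecialLinearGroup (Fin d) F) : Matrix (Fin d) (Fin d) F) *ᵥ u =
        z + y - (φ ⬝ᵥ (z + y)) • v := by
      rw [mul_mulVec', hσi, h1, one_smul, mul_mulVec', mulVec_add, hBv, ← hz, hσa]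
    rw [e1, e2]
    intro h3
    apply hg2
    have h4 : y = (z + y - (φ ⬝ᵥ (z + y)) • v - (A : Matrix (Fin d) (Fin d) F) *ᵥ y) -
        (z - (A : Matrix (Fin d) (Fin d) F) *ᵥ y) + (φ ⬝ᵥ (z + y)) • v := by abel
    rw [h4]
    exact Submodule.add_mem _ (Submodule.sub_mem _ h3 h)
      (Submodule.smul_mem _ _ (Submodule.subset_span (by simp)))

/-- the trace of the product takes all values -/
theorem exists_trace (hd : 3 ≤ d) {A B : SpecialLinearGroup (Fin d) F}
    (hA : A ∉ Subgroup.center (SpecialLinearGroup (Fin d) F))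
    (hB : B ∉ Subgroup.center (SpecialLinearGroup (Fin d) F)) (s : F) :
    ∃ g : SpecialLinearGroup (Fin d) F,
      Matrix.trace ((A * (g * B * g⁻¹) : SpecialLinearGroup (Fin d) F) : Matrix (Fin d) (Fin d) F) = s := by
  obtain ⟨v, hv⟩ := exists_moved hA
  obtain ⟨w, hw⟩ := exists_moved hB
  obtain ⟨g, hg⟩ := exists_conj_comm hd hv hw
  set u := (A : Matrix (Fin d) (Fin d) F) *ᵥ v with hu
  set B' := g * B * g⁻¹ with hB'
  obtain ⟨φ, h1, h2⟩ := exists_fun hg
  have hφv : φ ⬝ᵥ v = 0 := h2 v (Submodule.subset_span (by simp))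
  have hφu : φ ⬝ᵥ u = 0 := h2 u (Submodule.subset_span (by simp))
  have hmain : ∀ t : F, Matrix.trace ((A * (tv (t • v) φ (by rw [dotProduct_smul, hφv, smul_zero]) * B' *
      (tv (t • v) φ (by rw [dotProduct_smul, hφv, smul_zero]))⁻¹) : SpecialLinearGroup (Fin d) F) :
        Matrix (Fin d) (Fin d) F) =
      Matrix.trace ((A * B' : SpecialLinearGroup (Fin d) F) : Matrix (Fin d) (Fin d) F) + t := by
    intro t
    rw [tv_inv]
    simp only [coe_mul', coe_tv]
    set MA := (A : Matrix (Fin d) (Fin d) F) with hMA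
    set MB := (B' : Matrix (Fin d) (Fin d) F) with hMB
    have e1 : MA * ((1 + vecMulVec (t • v) φ) * MB * (1 + vecMulVec (t • v) (-φ))) =
        MA * MB - MA * MB * vecMulVec (t • v) φ + MA * (vecMulVec (t • v) φ * MB) -
          MA * (vecMulVec (t • v) φ * MB * vecMulVec (t • v) φ) := by
      rw [vecMulVec_neg]
      noncomm_ring
    rw [e1, Matrix.trace_sub, Matrix.trace_add, Matrix.trace_sub]
    have e2 : Matrix.trace (MA * MB * vecMulVec (t • v) φ) = t * (φ ⬝ᵥ (MA *ᵥ (MB *ᵥ v))) := by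
      rw [mul_vecMulVec, trace_vecMulVec, mulVec_smul, smul_dotProduct, smul_eq_mul, dotProduct_comm, mulVec_mulVec]
    have e3 : Matrix.trace (MA * (vecMulVec (t • v) φ * MB)) = t * (φ ⬝ᵥ (MB *ᵥ u)) := by
      rw [vecMulVec_mul, mul_vecMulVec, trace_vecMulVec, mulVec_smul, smul_dotProduct, smul_eq_mul, ← hu,
        dotProduct_comm, ← dotProduct_mulVec]
    have e4 : Matrix.trace (MA * (vecMulVec (t • v) φ * MB * vecMulVec (t • v) φ)) = 0 := by
      rw [vecMulVec_mul, vecMulVec_mul_vecMulVec, mul_vecMulVec, trace_vecMulVec, mulVec_smul, smul_dotProduct,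
        ← hu, dotProduct_smul, dotProduct_comm u φ, hφu, smul_zero, smul_zero]
    rw [e2, e3, e4]
    have e5 : φ ⬝ᵥ (MB *ᵥ u) - φ ⬝ᵥ (MA *ᵥ (MB *ᵥ v)) = 1 := by
      rw [← dotProduct_sub]; exact h1
    linear_combination t * e5
  set t0 := s - Matrix.trace ((A * B' : SpecialLinearGroup (Fin d) F) : Matrix (Fin d) (Fin d) F) with ht0
  refine ⟨tv (t0 • v) φ (by rw [dotProduct_smul, hφv, smul_zero]) * g, ?_⟩
  have h3 := hmain t0
  have h4 : tv (t0 • v) φ (by rw [dotProduct_smul, hφv, smul_zero]) * g * B *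
      (tv (t0 • v) φ (by rw [dotProduct_smul, hφv, smul_zero]) * g)⁻¹ =
      tv (t0 • v) φ (by rw [dotProduct_smul, hφv, smul_zero]) * B' *
      (tv (t0 • v) φ (by rw [dotProduct_smul, hφv, smul_zero]))⁻¹ := by
    rw [hB']; group
  rw [h4, h3, ht0]
  ring

/-- the trace up to a nonzero scalar is determined by the class of the image in `PSL` -/
theorem trace_of_isConj {P Q : SpecialLinearGroup (Fin d) F}
    (h : IsConj (P : ProjectiveSpecialLinearGroup (Fin d) F) (Q : ProjectiveSpecialLinearGroup (Fin d) F)) :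
    ∃ r : F, r ≠ 0 ∧ Matrix.trace (Q : Matrix (Fin d) (Fin d) F) = r * Matrix.trace (P : Matrix (Fin d) (Fin d) F) := by
  rcases Nat.eq_zero_or_pos d with rfl | hd
  · exact ⟨1, one_ne_zero, by simp [Matrix.trace]⟩
  rw [isConj_iff] at h
  obtain ⟨c, hc⟩ := h
  obtain ⟨C, rfl⟩ := QuotientGroup.mk_surjective c
  have h1 : ((C * P * C⁻¹ : SpecialLinearGroup (Fin d) F) : ProjectiveSpecialLinearGroup (Fin d) F) = Q := hc
  rw [QuotientGroup.eq] at h1
  rw [Matrix.SpecialLinearGroup.mem_center_iff] at h1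
  obtain ⟨r, hr1, hr2⟩ := h1
  refine ⟨r, ?_, ?_⟩
  · rintro rfl
    rw [Fintype.card_fin, zero_pow (by omega)] at hr1
    exact zero_ne_one hr1
  · have h2 : Q = C * P * C⁻¹ * ((C * P * C⁻¹)⁻¹ * Q) := by group
    have h3 : (Q : Matrix (Fin d) (Fin d) F) = ((C * P * C⁻¹ : SpecialLinearGroup (Fin d) F) :
        Matrix (Fin d) (Fin d) F) * scalar (Fin d) r := by
      rw [hr2, ← coe_mul', ← h2]
    rw [h3]
    have h4 : ((C * P * C⁻¹ : SpecialLinearGroup (Fin d) F) : Matrix (Fin d) (Fin d) F) * scalar (Fin d) r =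
        r • ((C * P * C⁻¹ : SpecialLinearGroup (Fin d) F) : Matrix (Fin d) (Fin d) F) := by
      ext i j
      simp [Matrix.scalar_apply, Matrix.mul_diagonal, mul_comm]
    rw [h4, Matrix.trace_smul, smul_eq_mul, coe_mul', Matrix.trace_mul_comm,
      ← coe_mul', ← mul_assoc, inv_mul_cancel, one_mul]

theorem main (hd : 3 ≤ d) (a b : ProjectiveSpecialLinearGroup (Fin d) F) (ha : a ≠ 1) (hb : b ≠ 1) :
    ∃ g h : ProjectiveSpecialLinearGroup (Fin d) F, ¬ IsConj (a * b) (g * a * g⁻¹ * (h * b * h⁻¹)) := by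
  obtain ⟨A, rfl⟩ := QuotientGroup.mk_surjective a
  obtain ⟨B, rfl⟩ := QuotientGroup.mk_surjective b
  have hA : A ∉ Subgroup.center (SpecialLinearGroup (Fin d) F) := fun h => ha ((QuotientGroup.eq_one_iff A).2 h)
  have hB : B ∉ Subgroup.center (SpecialLinearGroup (Fin d) F) := fun h => hb ((QuotientGroup.eq_one_iff B).2 h)
  by_contra hcon
  push Not at hcon
  obtain ⟨g, hg⟩ := exists_trace hd hA hB 0
  obtain ⟨k, hk⟩ := exists_trace hd hA hB 1
  have h1 : IsConj ((A * B : SpecialLinearGroup (Fin d) F) : ProjectiveSpecialLinearGroup (Fin d) F)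
      ((A * (g * B * g⁻¹) : SpecialLinearGroup (Fin d) F) : ProjectiveSpecialLinearGroup (Fin d) F) := by
    have := hcon 1 g
    rw [one_mul, inv_one, mul_one] at this
    exact this
  have h2 : IsConj ((A * B : SpecialLinearGroup (Fin d) F) : ProjectiveSpecialLinearGroup (Fin d) F)
      ((A * (k * B * k⁻¹) : SpecialLinearGroup (Fin d) F) : ProjectiveSpecialLinearGroup (Fin d) F) := by
    have := hcon 1 k
    rw [one_mul, inv_one, mul_one] at this
    exact this
  obtain ⟨r, hr0, hr⟩ := trace_of_isConj h1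
  obtain ⟨s, hs0, hs⟩ := trace_of_isConj h2
  rw [hg] at hr
  rw [hk] at hs
  rcases mul_eq_zero.1 hr.symm with h3 | h3
  · exact hr0 h3
  · rw [h3, mul_zero] at hs
    exact one_ne_zero hs

end H78.PslProd
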