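import Cfsg.Agent.Lib.H56.ZJSl2
import Cfsg.Agent.Lib.H29.PGrp
import Cfsg.Agent.Lib.H78.ZfI

/-! Where the control of fusion by `Z(J(S))` fails. -/

set_option autoImplicit false

namespace H78.Zf

open Cfsg H38.Basic H38.Alperin H38.Functor H38.Control H14.ZJ H14.MaxIn

section

variable {G : Type*} [Group G]

/-- the centralizer of `A` modulo `D` -/
def CMod (D A : Subgroup G) [D.Normal] : Subgroup G :=
  (Subgroup.centralizer ((A.map (QuotientGroup.mk' D) : Subgroup (G ⧸ D)) : Set (G ⧸ D))).comap (QuotientGroup.mk' D)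

theorem mem_CMod {D A : Subgroup G} [D.Normal] {g : G} : g ∈ CMod D A ↔ ∀ a ∈ A, g * a * g⁻¹ * a⁻¹ ∈ D := by
  have hπ : ∀ a : G, QuotientGroup.mk' D a = 1 ↔ a ∈ D := by
    intro a
    rw [QuotientGroup.mk'_apply, QuotientGroup.eq_one_iff]
  rw [CMod, Subgroup.mem_comap, Subgroup.mem_centralizer_iff]
  constructor
  · intro h a ha
    have := h _ ⟨a, ha, rfl⟩
    rw [← hπ, map_mul, map_mul, map_mul, map_inv, map_inv, ← this]
    group
  · rintro h _ ⟨a, ha, rfl⟩
    have := (hπ _).2 (h a ha)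
    rw [map_mul, map_mul, map_mul, map_inv, map_inv, mul_inv_eq_one, mul_inv_eq_iff_eq_mul] at this
    exact this.symm

theorem CMod_anti {D A B : Subgroup G} [D.Normal] (h : A ≤ B) : CMod D B ≤ CMod D A := by
  intro g hg
  rw [mem_CMod] at hg ⊢
  exact fun a ha => hg a (h ha)

theorem le_CMod_comm {D A B : Subgroup G} [hD : D.Normal] (h : A ≤ CMod D B) : B ≤ CMod D A := by
  intro b hb
  rw [mem_CMod]
  intro a ha
  have := D.inv_mem (mem_CMod.1 (h ha) b hb)
  have e : (a * b * a⁻¹ * b⁻¹)⁻¹ = b * a * b⁻¹ * a⁻¹ := by group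
  rwa [e] at this

theorem CMod_norm {D A : Subgroup G} [hD : D.Normal] {g : G} (hg : g ∈ Subgroup.normalizer (A : Set G)) :
    g ∈ Subgroup.normalizer (CMod D A : Set G) := by
  have key : ∀ g ∈ Subgroup.normalizer (A : Set G), ∀ c ∈ CMod D A, g * c * g⁻¹ ∈ CMod D A := by
    intro g hg c hc
    rw [mem_CMod] at hc ⊢
    intro a ha
    have ha' : g⁻¹ * a * g ∈ A := by
      have := (Subgroup.mem_normalizer_iff.1 (Subgroup.inv_mem _ hg) a).1 ha
      rwa [inv_inv] at this
    have := hD.conj_mem _ (hc _ ha') g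
    have e : g * (c * (g⁻¹ * a * g) * c⁻¹ * (g⁻¹ * a * g)⁻¹) * g⁻¹ = g * c * g⁻¹ * a * (g * c * g⁻¹)⁻¹ * a⁻¹ := by group
    rwa [e] at this
  rw [Subgroup.mem_normalizer_iff]
  intro c
  refine ⟨key g hg c, fun h => ?_⟩
  have := key g⁻¹ (Subgroup.inv_mem _ hg) _ h
  have e : g⁻¹ * (g * c * g⁻¹) * g⁻¹⁻¹ = c := by group
  rwa [e] at this

/-- the elements normalizing `U` and acting on it like elements of `H` -/
def ARs (H U : Subgroup G) : Subgroup G where
  carrier := {g | g ∈ Subgroup.normalizer (U : Set G) ∧ ActRel H (U : Set G) g}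
  one_mem' := ⟨Subgroup.one_mem _, 1, H.one_mem, fun _ _ => rfl⟩
  mul_mem' := by
    rintro g k ⟨g1, x, hx, hxa⟩ ⟨k1, y, hy, hya⟩
    refine ⟨Subgroup.mul_mem _ g1 k1, x * y, H.mul_mem hx hy, fun a ha => ?_⟩
    have h1 := hxa (k * a * k⁻¹) ((Subgroup.mem_normalizer_iff.1 k1 a).1 ha)
    calc x * y * a * (x * y)⁻¹ = x * (y * a * y⁻¹) * x⁻¹ := by group
      _ = x * (k * a * k⁻¹) * x⁻¹ := by rw [hya a ha]
      _ = g * (k * a * k⁻¹) * g⁻¹ := h1
      _ = _ := by group
  inv_mem' := by
    rintro g ⟨g1, x, hx, hxa⟩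
    refine ⟨Subgroup.inv_mem _ g1, x⁻¹, H.inv_mem hx, fun a ha => ?_⟩
    have h1 := hxa (g⁻¹ * a * g⁻¹⁻¹) ((Subgroup.mem_normalizer_iff.1 (Subgroup.inv_mem _ g1) a).1 ha)
    calc x⁻¹ * a * x⁻¹⁻¹ = x⁻¹ * (g * (g⁻¹ * a * g⁻¹⁻¹) * g⁻¹) * x⁻¹⁻¹ := by group
      _ = x⁻¹ * (x * (g⁻¹ * a * g⁻¹⁻¹) * x⁻¹) * x⁻¹⁻¹ := by rw [h1]
      _ = _ := by group

theorem mem_ARs {H U : Subgroup G} {g : G} : g ∈ ARs H U ↔ g ∈ Subgroup.normalizer (U : Set G) ∧ ActRel H (U : Set G) g := Iff.rfl

variable [Finite G] {p : ℕ} [hp : Fact p.Prime]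

theorem L1 {S : Sylow p G} {H Gs : Subgroup G} (hSH : (S : Subgroup G) ≤ H) (hSG : (S : Subgroup G) ≤ Gs)
    (hst : StrongIn H (S : Subgroup G) Gs) {g h : G} (hh : h ∈ H) (hg : h⁻¹ * g ∈ Gs) {R : Subgroup G}
    (hR : R ≤ (S : Subgroup G)) (hgR : R.map (MulAut.conj g).toMonoidHom ≤ (S : Subgroup G)) : ActRel H (R : Set G) g := by
  set c := h⁻¹ * g with hc
  have h1 : R.map (MulAut.conj c).toMonoidHom ≤ H := by
    rw [hc, ← conj_conj]
    have := conj_mono (hgR.trans hSH) h⁻¹
    rwa [conj_eq_of_mem (H.inv_mem hh)] at this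
  have h2 : R.map (MulAut.conj c).toMonoidHom ≤ Gs := by
    have := conj_mono (hR.trans hSG) c
    rwa [conj_eq_of_mem hg] at this
  have hS : IsSyl p (S : Subgroup G) (Gs ⊓ H) := (isSyl_sylow S).of_le (le_inf hSG hSH) le_top
  obtain ⟨m, hm, hmR⟩ := hS.exists_conj_le (isPGroup_conj (S.2.to_le hR) c) (le_inf h2 h1)
  rw [conj_conj] at hmR
  obtain ⟨x, hx, hxa⟩ := hst (R : Set G) (m * c) (Gs.mul_mem hm.1 hg) hR (by
    rintro _ ⟨a, ha, rfl⟩
    exact hmR ⟨a, ha, rfl⟩)
  refine ⟨h * m⁻¹ * x, H.mul_mem (H.mul_mem hh (H.inv_mem hm.2)) hx, fun a ha => ?_⟩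
  calc h * m⁻¹ * x * a * (h * m⁻¹ * x)⁻¹ = h * m⁻¹ * (x * a * x⁻¹) * (h * m⁻¹)⁻¹ := by group
    _ = h * m⁻¹ * (m * c * a * (m * c)⁻¹) * (h * m⁻¹)⁻¹ := by rw [hxa a ha]
    _ = g * a * g⁻¹ := by rw [hc]; group

/-- the functor `P ↦ W(P/D)` -/
noncomputable def XF (p : ℕ) (D : Subgroup G) [D.Normal] (P : Subgroup G) : Subgroup G :=
  open Classical in if D ≤ P then (WW false p (P.map (QuotientGroup.mk' D))).comap (QuotientGroup.mk' D) else P

theorem comap_conj {D : Subgroup G} [D.Normal] (A : Subgroup (G ⧸ D)) (g : G) :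
    (A.map (MulAut.conj (QuotientGroup.mk' D g)).toMonoidHom).comap (QuotientGroup.mk' D) =
      (A.comap (QuotientGroup.mk' D)).map (MulAut.conj g).toMonoidHom := by
  ext x
  rw [Subgroup.mem_comap, mem_conj, mem_conj, Subgroup.mem_comap, map_mul, map_mul, map_inv]

theorem XF_isConj {D : Subgroup G} [hD : D.Normal] : IsConjugacyFunctor p (XF p D) := by
  intro P hP
  have hker : ∀ A : Subgroup (G ⧸ D), D ≤ A.comap (QuotientGroup.mk' D) := by
    intro A d hd
    rw [Subgroup.mem_comap, QuotientGroup.mk'_apply, (QuotientGroup.eq_one_iff d).2 hd]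
    exact A.one_mem
  refine ⟨?_, ?_, ?_⟩
  · unfold XF
    split_ifs with h
    · refine (Subgroup.comap_mono (WW_le false p _)).trans ?_
      rw [Subgroup.comap_map_eq, QuotientGroup.ker_mk']
      exact sup_le le_rfl h
    · exact le_rfl
  · intro hne
    unfold XF
    split_ifs with h
    · intro hb
      have h1 : D = ⊥ := le_bot_iff.1 ((hker _).trans hb.le)
      have h2 : WW false p (P.map (QuotientGroup.mk' D)) = ⊥ := by
        rw [← Subgroup.map_comap_eq_self_of_surjective (QuotientGroup.mk'_surjective D) (WW false p (P.map (QuotientGroup.mk' D))), hb, Subgroup.map_bot]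
      have h3 : P.map (QuotientGroup.mk' D) = ⊥ := by
        by_contra h4
        exact H14.ZJ4.WW_ne_bot false (hP.map _) h4 h2
      rw [Subgroup.map_eq_bot_iff, QuotientGroup.ker_mk', h1] at h3
      exact hne (le_bot_iff.1 h3)
    · exact hne
  · intro g
    have h1 : D ≤ P.map (MulAut.conj g).toMonoidHom ↔ D ≤ P := by
      have h2 : D.map (MulAut.conj g).toMonoidHom = D := conj_normal D g
      constructor
      · intro h
        rw [← h2] at h
        exact conj_le_conj_iff.1 h
      · intro h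
        rw [← h2]
        exact conj_mono h g
    unfold XF
    by_cases h : D ≤ P
    · rw [if_pos h, if_pos (h1.2 h), ← comap_conj]
      congr 1
      rw [← WW_map false p (MulAut.conj (QuotientGroup.mk' D g)).injective, Subgroup.map_map, Subgroup.map_map]
      congr 1
    · rw [if_neg h, if_neg (fun h' => h (h1.1 h'))]

theorem cop_fix {D : Subgroup G} (hDp : IsPGroup p D) {g u : G} (hd : g * u * g⁻¹ * u⁻¹ ∈ D)
    (hgd : ∀ d ∈ D, g * d * g⁻¹ = d) (hg : ¬ p ∣ orderOf g) : g * u * g⁻¹ = u := by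
  set d := g * u * g⁻¹ * u⁻¹ with hdd
  have h1 : ∀ i : ℕ, g ^ i * u * (g ^ i)⁻¹ = d ^ i * u := by
    intro i
    induction i with
    | zero => simp
    | succ i ih =>
      have e1 : g ^ (i + 1) * u * (g ^ (i + 1))⁻¹ = g * (g ^ i * u * (g ^ i)⁻¹) * g⁻¹ := by rw [pow_succ' g]; group
      rw [e1, ih]
      have e2 : g * (d ^ i * u) * g⁻¹ = (g * d ^ i * g⁻¹) * (d * u) := by rw [hdd]; group
      rw [e2, hgd _ (D.pow_mem hd i), ← mul_assoc, ← pow_succ]
  have h2 := h1 (orderOf g)
  rw [pow_orderOf_eq_one] at h2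
  have h3 : d ^ orderOf g = 1 := by
    have : u = d ^ orderOf g * u := by simpa using h2
    exact (mul_eq_right.1 this.symm)
  obtain ⟨k, hk⟩ := hDp ⟨d, hd⟩
  have hk' : d ^ p ^ k = 1 := congrArg Subtype.val hk
  have hcop : Nat.Coprime (p ^ k) (orderOf g) := Nat.Coprime.pow_left _ ((Nat.Prime.coprime_iff_not_dvd hp.out).2 hg)
  have h4 : orderOf d ∣ 1 := by
    rw [← hcop.gcd_eq_one]
    exact Nat.dvd_gcd (orderOf_dvd_of_pow_eq_one hk') (orderOf_dvd_of_pow_eq_one h3)
  rw [Nat.dvd_one, orderOf_eq_one_iff] at h4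
  rw [hdd, mul_inv_eq_one] at h4
  exact h4

theorem claimA (S : Sylow p G) {D0 Zs H : Subgroup G} [hD0 : D0.Normal] (hDZ : D0 ≤ Zs) (hZS : Zs ≤ (S : Subgroup G))
    (hZc : ∀ z ∈ Zs, ∀ z' ∈ Zs, z * z' = z' * z) (hZC : Zs ≤ CMod D0 (S : Subgroup G)) (hSH : (S : Subgroup G) ≤ H)
    (hNS : Subgroup.normalizer ((S : Subgroup G) : Set G) ≤ H)
    (hwp : ∀ U : Subgroup G, IsWellPlaced p (XF p D0) (S : Subgroup G) U → Zs ≤ U → ∀ x ∈ Subgroup.normalizer (U : Set G),
      ActRel H (U : Set G) x) : StrongIn H (S : Subgroup G) ⊤ := by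
  have hR := actRel_isFusionRel H
  have hD0p : IsPGroup p D0 := S.2.to_le (hDZ.trans hZS)
  have main : ∀ d k : ℕ, Nat.card (S : Subgroup G) ≤ d + k → ∀ T : Subgroup G, T ≤ (S : Subgroup G) → k ≤ Nat.card T →
      ∀ x : G, T.map (MulAut.conj x).toMonoidHom ≤ (S : Subgroup G) → ActRel H (T : Set G) x := by
    intro d
    induction d with
    | zero =>
      intro k hk T hT hkT x hx
      have hTS : T = (S : Subgroup G) := Subgroup.eq_of_le_of_card_ge hT (by omega)
      subst hTS
      refine ⟨x, hNS ?_, fun _ _ => rfl⟩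
      rw [H38.Basic.mem_normalizer_iff']
      exact Subgroup.eq_of_le_of_card_ge hx (by rw [card_conj])
    | succ d ih =>
      intro k hk T hT hkT x hx
      refine alperin_abs S hR k (fun x hx => ⟨x, hNS hx, fun _ _ => rfl⟩) ?_ T hT hkT x hx
      intro Q hQ hkQ
      obtain ⟨g, hg⟩ := exists_wellPlaced S (XF_isConj (p := p) (D := D0)) Q hQ.le
      set U := Q.map (MulAut.conj g).toMonoidHom with hU
      have hUw := (isWellPlaced_iff S.2).1 hg
      have hUS : U ≤ (S : Subgroup G) := hUw.1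
      have hUsyl : IsSyl p ((S : Subgroup G) ⊓ Subgroup.normalizer (U : Set G)) (Subgroup.normalizer (U : Set G)) := hUw.2 0
      have hcU : Nat.card U = Nat.card Q := card_conj Q g
      have hbig : ∀ U' : Subgroup G, U < U' → U' ≤ (S : Subgroup G) → ∀ n ∈ Subgroup.normalizer (U' : Set G), ActRel H (U : Set G) n := by
        intro U' hUU' hU'S n hn
        have hlt : Nat.card U < Nat.card U' := by
          have h3 := Subgroup.card_le_of_le hUU'.le
          rcases h3.lt_or_eq with h4 | h4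
          · exact h4
          · exact absurd (Subgroup.eq_of_le_of_card_ge hUU'.le h4.ge) hUU'.ne
        have h4 := ih (k + 1) (by omega) U' hU'S (by omega) n (by rw [H38.Basic.mem_normalizer_iff'.1 hn]; exact hU'S)
        exact hR.mono (show (U : Set G) ⊆ U' from hUU'.le) h4
      refine ⟨U, ⟨g, rfl⟩, hUsyl, ?_⟩
      intro x hx
      by_cases hDU : D0 ≤ U
      · by_cases hZU : Zs ≤ U
        · exact hwp U hg hZU x hx
        · set C := Subgroup.normalizer (U : Set G) ⊓ CMod D0 U ⊓ Subgroup.centralizer (D0 : Set G) with hC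
          have hCN : C ≤ Subgroup.normalizer (U : Set G) := inf_le_left.trans inf_le_left
          have hNC : Subgroup.normalizer (U : Set G) ≤ Subgroup.normalizer (C : Set G) := by
            intro n hn
            rw [mem_normalizer_iff', hC, conj_inf, conj_inf, conj_eq_of_mem hn, mem_normalizer_iff'.1 (CMod_norm hn),
              conj_centralizer', conj_normal]
          have h1 := hUsyl.inf_normal hCN hNC
          obtain ⟨m, hm, n, hn, hmn⟩ := H38.Goldschmidt.frattini h1 hNC hx hCN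
          set T' := (S : Subgroup G) ⊓ Subgroup.normalizer (U : Set G) ⊓ C with hT'
          have hT'S : T' ≤ (S : Subgroup G) := inf_le_left.trans inf_le_left
          -- elements of C
          have hmA : m ∈ ARs H U := by
            have h2 := (le_op_sup h1) hm
            refine (sup_le ?_ ?_ : _ ≤ ARs H U) h2
            · rw [Subgroup.closure_le]
              rintro c ⟨hc, hcp⟩
              refine ⟨hCN hc, 1, H.one_mem, fun a ha => ?_⟩
              have h3 := cop_fix hD0p (g := c) (u := a) (mem_CMod.1 hc.1.2 a ha) (fun d hd => by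
                have := Subgroup.mem_centralizer_iff.1 hc.2 d hd
                rw [← this]; group) hcp
              rw [h3]; group
            · intro s hs
              exact ⟨hs.1.2, s, hSH hs.1.1, fun _ _ => rfl⟩
          have hnA : n ∈ ARs H U := by
            refine ⟨hn.1, ?_⟩
            have hU'S : U ⊔ T' ≤ (S : Subgroup G) := sup_le hUS hT'S
            refine hbig (U ⊔ T') (lt_of_le_of_ne le_sup_left fun h => hZU ?_) hU'S n ?_
            · rw [h]
              refine le_trans ?_ le_sup_right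
              have hZN : Zs ≤ Subgroup.normalizer (U : Set G) := by
                intro z hz
                apply mem_norm_of_le
                intro a ha
                have h3 := hDU (mem_CMod.1 (hZC hz) a (hUS ha))
                have := U.mul_mem h3 ha
                rwa [inv_mul_cancel_right] at this
              refine le_inf (le_inf hZS hZN) (le_inf (le_inf hZN (hZC.trans (CMod_anti hUS))) ?_)
              intro z hz
              rw [Subgroup.mem_centralizer_iff]
              intro d hd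
              exact hZc d (hDZ hd) z hz
            · rw [mem_normalizer_iff', conj_sup, mem_normalizer_iff'.1 hn.1, mem_normalizer_iff'.1 hn.2]
          rw [hmn]
          exact ((ARs H U).mul_mem hmA hnA).2
      · refine hbig (U ⊔ D0) (lt_of_le_of_ne le_sup_left fun h => hDU ?_) (sup_le hUS (hDZ.trans hZS)) x ?_
        · rw [h]; exact le_sup_right
        · rw [mem_normalizer_iff', conj_sup, mem_normalizer_iff'.1 hx, conj_normal]
  intro A g _ hA hg
  have hcl : Subgroup.closure A ≤ (S : Subgroup G) := (Subgroup.closure_le _).2 hA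
  have := main (Nat.card (S : Subgroup G)) 0 (by omega) (Subgroup.closure A) hcl (Nat.zero_le _) g
    (closure_conj_le (fun a ha => hg (mem_cj ha)))
  exact hR.mono Subgroup.subset_closure this

end

end H78.Zf
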