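import Cfsg.Agent.Lib.H78.ZfJ
import Cfsg.Agent.Lib.H78.ZfK

/-! The section data in a minimal overgroup in which `Z(J(S))` does not control fusion. -/

set_option autoImplicit false

namespace H78.Zf

open Cfsg H38.Basic H38.Alperin H38.Functor H38.Control H14.ZJ H14.MaxIn

open scoped commutatorElement

section

variable {G : Type*} [Group G]

theorem Qs_conj {K V D0 : Subgroup G} [hD0 : D0.Normal] (hKV : K ≤ Subgroup.normalizer (V : Set G)) :
    ∀ n ∈ K, ∀ x ∈ Qs K V D0, n * x * n⁻¹ ∈ Qs K V D0 := by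
  rintro n hn x ⟨hx, hxq⟩
  refine ⟨K.mul_mem (K.mul_mem hn hx) (K.inv_mem hn), fun v hv => ?_⟩
  have hv' : n⁻¹ * v * n ∈ V := by
    have := (Subgroup.mem_normalizer_iff.1 (Subgroup.inv_mem _ (hKV hn)) v).1 hv
    rwa [inv_inv] at this
  have h1 := hD0.conj_mem _ (hxq _ hv') n
  have e : n * x * n⁻¹ * (n * x * n⁻¹ * v * (n * x * n⁻¹)⁻¹ * v⁻¹) * (n * x * n⁻¹)⁻¹ * (n * x * n⁻¹ * v * (n * x * n⁻¹)⁻¹ * v⁻¹)⁻¹ =
      n * (x * (x * (n⁻¹ * v * n) * x⁻¹ * (n⁻¹ * v * n)⁻¹) * x⁻¹ * (x * (n⁻¹ * v * n) * x⁻¹ * (n⁻¹ * v * n)⁻¹)⁻¹) * n⁻¹ := by group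
  rw [e]; exact h1

variable [Finite G] {p : ℕ} [hp : Fact p.Prime]

theorem mem_of_comm_maxIn {P A : Subgroup G} (hA : A ∈ maxIn false p P) {v : G} (hv : v ∈ P)
    (hc : ∀ a ∈ A, a * v = v * a) : v ∈ A := by
  have h1 := H14.PBasic.isMulCommutative_closure_insert hA.2.1.1 (x := v) (by
    intro a ha; first | exact hc a ha | exact (hc a ha).symm)
  have h2 := hA.2.2 _ ?_ (prE_false.mpr h1)
  · have h3 := Subgroup.eq_of_le_of_card_ge (H14.PBasic.le_closure_insert A v) h2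
    rw [h3]
    exact H14.PBasic.mem_closure_insert A v
  · rw [Subgroup.closure_le]
    rintro y (rfl | hy)
    · exact hv
    · exact hA.1 hy

/-- quadratic action of an abelian subgroup normalised by `V` -/
theorem quad_of_norm {V A : Subgroup G} (hVA : V ≤ Subgroup.normalizer (A : Set G)) (hA : ∀ a ∈ A, ∀ b ∈ A, a * b = b * a)
    {x v : G} (hx : x ∈ A) (hv : v ∈ V) : x * (x * v * x⁻¹ * v⁻¹) * x⁻¹ * (x * v * x⁻¹ * v⁻¹)⁻¹ = 1 := by
  have h1 : x * v * x⁻¹ * v⁻¹ ∈ A := by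
    have h2 := (Subgroup.mem_normalizer_iff.1 (hVA hv) x⁻¹).1 (A.inv_mem hx)
    have := A.mul_mem hx h2
    have e : x * (v * x⁻¹ * v⁻¹) = x * v * x⁻¹ * v⁻¹ := by group
    rwa [e] at this
  rw [hA x hx _ h1]; group

theorem main_dat (hp2 : p ≠ 2) (S : Sylow p G)
    (hfail : ¬ StrongIn (Subgroup.normalizer (WW false p (S : Subgroup G) : Set G)) (S : Subgroup G) ⊤)
    (hmin : ∀ X : Subgroup G, (S : Subgroup G) ≤ X → X ≠ ⊤ →
      StrongIn (Subgroup.normalizer (WW false p (S : Subgroup G) : Set G)) (S : Subgroup G) X) {ω : ℕ} (hω : ¬ p ∣ ω) :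
    ∃ (Va A1 Vb : Subgroup G) (x h u : G), DatP p ω Va A1 Vb x h u ∧ Va ≤ (S : Subgroup G) ∧ x ∈ (S : Subgroup G) ∧
      h ∈ Subgroup.normalizer (WW false p (S : Subgroup G) : Set G) ∧ u ∈ WW false p (S : Subgroup G) := by
  classical
  set W := WW false p (S : Subgroup G) with hW
  set H := Subgroup.normalizer (W : Set G) with hH
  have hWS : W ≤ (S : Subgroup G) := WW_le false p _
  have hWc : ∀ a ∈ W, ∀ b ∈ W, a * b = b * a := fun a ha b hb => (prE_WW false p (S : Subgroup G)).comm ha hb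
  have hNS : Subgroup.normalizer ((S : Subgroup G) : Set G) ≤ H := normalizer_le_normalizer_WW false p _
  have hSH : (S : Subgroup G) ≤ H := Subgroup.le_normalizer.trans hNS
  set D0 := W.normalCore with hD0
  have hD0n : D0.Normal := W.normalCore_normal
  have hD0W : D0 ≤ W := W.normalCore_le
  have hcore : ∀ N : Subgroup G, N.Normal → N ≤ W → N ≤ D0 := fun N hN h => Subgroup.normal_le_normalCore.2 h
  have hWn : ¬ W.Normal := by
    intro h
    apply hfail
    have h1 : H = ⊤ := Subgroup.normalizer_eq_top_iff.2 h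
    rw [h1]
    intro A g _ _ _
    exact ⟨g, trivial, fun _ _ => rfl⟩
  set Zs := W ⊓ CMod D0 (S : Subgroup G) with hZs
  have hZW : Zs ≤ W := inf_le_left
  have hZS : Zs ≤ (S : Subgroup G) := hZW.trans hWS
  have hZC : Zs ≤ CMod D0 (S : Subgroup G) := inf_le_right
  have hD0Z : D0 ≤ Zs := by
    refine le_inf hD0W fun d hd => mem_CMod.2 fun s _ => ?_
    have := D0.mul_mem hd (hD0n.conj_mem _ (D0.inv_mem hd) s)
    have e : d * (s * d⁻¹ * s⁻¹) = d * s * d⁻¹ * s⁻¹ := by group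
    rwa [e] at this
  let π := QuotientGroup.mk' D0
  have hπs : Function.Surjective π := QuotientGroup.mk'_surjective D0
  have hπ : ∀ a : G, π a = 1 ↔ a ∈ D0 := by
    intro a
    rw [QuotientGroup.mk'_apply, QuotientGroup.eq_one_iff]
  have hZD : ¬ Zs ≤ D0 := by
    intro hle
    have h1 : W.map π ≠ ⊥ := by
      intro h
      rw [Subgroup.map_eq_bot_iff, QuotientGroup.ker_mk'] at h
      apply hWn
      have : W = D0 := le_antisymm h hD0W
      rw [this]; exact hD0n
    have h2 := H29.PGrp.inf_center_ne_bot (p := p) (P := (S : Subgroup G).map π) (M := W.map π) (S.2.map π) (Subgroup.map_mono hWS) (by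
      rintro _ ⟨s, hs, rfl⟩
      apply mem_norm_of_le
      rintro _ ⟨w, hw, rfl⟩
      exact ⟨s * w * s⁻¹, (Subgroup.mem_normalizer_iff.1 (hSH hs) w).1 hw, by simp⟩) h1
    apply h2
    rw [eq_bot_iff]
    rintro _ ⟨⟨w, hw, rfl⟩, hc⟩
    have h3 : w ∈ CMod D0 (S : Subgroup G) := hc
    rw [Subgroup.mem_bot, hπ]
    exact hle ⟨hw, h3⟩
  set Gs := CMod D0 Zs with hGs
  have hSG : (S : Subgroup G) ≤ Gs := le_CMod_comm hZC
  have hGst : Gs ≠ ⊤ := by
    intro h
    apply hZD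
    apply hcore _ ?_ hZW
    constructor
    intro z hz g
    have h1 : g ∈ Gs := by rw [h]; trivial
    have := Zs.mul_mem (hD0Z (mem_CMod.1 h1 z hz)) hz
    rwa [inv_mul_cancel_right] at this
  have hst := hmin Gs hSG hGst
  -- realised elements
  let Re : G → Prop := fun g => ∃ h ∈ H, h⁻¹ * g ∈ Gs
  have hReL : ∀ g, Re g → ∀ R : Subgroup G, R ≤ (S : Subgroup G) → R.map (MulAut.conj g).toMonoidHom ≤ (S : Subgroup G) →
      ActRel H (R : Set G) g := by
    rintro g ⟨h, hh, hg⟩ R hR hgR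
    exact L1 hSH hSG hst hh hg hR hgR
  have hReOf : ∀ g, ∀ R : Subgroup G, Zs ≤ R → ActRel H (R : Set G) g → Re g := by
    rintro g R hR ⟨x, hx, hxa⟩
    refine ⟨x, hx, mem_CMod.2 fun z hz => ?_⟩
    have h1 := hxa z (hR hz)
    have e : x⁻¹ * g * z * (x⁻¹ * g)⁻¹ * z⁻¹ = x⁻¹ * (g * z * g⁻¹) * x * z⁻¹ := by group
    rw [e, ← h1]
    have e2 : x⁻¹ * (x * z * x⁻¹) * x * z⁻¹ = 1 := by group
    rw [e2]; exact D0.one_mem
  have hXF := XF_isConj (p := p) (D := D0)
  have hex : ∃ U : Subgroup G, IsWellPlaced p (XF p D0) (S : Subgroup G) U ∧ Zs ≤ U ∧ ∃ x ∈ Subgroup.normalizer (U : Set G), ¬ Re x := by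
    by_contra hcon
    push Not at hcon
    apply hfail
    refine claimA S hD0Z hZS (fun z hz z' hz' => hWc z (hZW hz) z' (hZW hz')) hZC hSH hNS ?_
    intro U hU hZU x hx
    refine hReL x (hcon U hU hZU x hx) U hU.1 ?_
    rw [mem_normalizer_iff'.1 hx]; exact hU.1
  obtain ⟨U, ⟨hUwp, hZU, x0, hx0N, hx0⟩, hUmax⟩ := Set.exists_max_image
    {U : Subgroup G | IsWellPlaced p (XF p D0) (S : Subgroup G) U ∧ Zs ≤ U ∧ ∃ x ∈ Subgroup.normalizer (U : Set G), ¬ Re x}
    (fun U => Nat.card ↥((S : Subgroup G) ⊓ Subgroup.normalizer (U : Set G))) (Set.toFinite _) hex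
  have hUw := (isWellPlaced_iff S.2).1 hUwp
  have hUS : U ≤ (S : Subgroup G) := hUw.1
  set P := (S : Subgroup G) ⊓ Subgroup.normalizer (U : Set G) with hPdef
  have hPsyl : IsSyl p P (Subgroup.normalizer (U : Set G)) := hUw.2 0
  have hPS : P ≤ (S : Subgroup G) := inf_le_left
  obtain ⟨K, -, ⟨hPK, hKN, k0, hk0K, hk0⟩, hKmin⟩ := (Set.toFinite {K : Subgroup G | P ≤ K ∧ K ≤ Subgroup.normalizer (U : Set G) ∧ ∃ x ∈ K, ¬ Re x}).exists_le_minimal
    (show Subgroup.normalizer (U : Set G) ∈ {K : Subgroup G | P ≤ K ∧ K ≤ Subgroup.normalizer (U : Set G) ∧ ∃ x ∈ K, ¬ Re x} from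
      ⟨inf_le_right, le_rfl, x0, hx0N, hx0⟩)
  -- V
  set V := Subgroup.closure {v | ∃ k ∈ K, ∃ z ∈ Zs, v = k * z * k⁻¹} with hV
  have hZV : Zs ≤ V := fun z hz => Subgroup.subset_closure ⟨1, K.one_mem, z, hz, by simp⟩
  have hVle : ∀ T : Subgroup G, Zs ≤ T → K ≤ Subgroup.normalizer (T : Set G) → V ≤ T := by
    intro T hT hKT
    rw [hV, Subgroup.closure_le]
    rintro _ ⟨k, hk, z, hz, rfl⟩
    exact (Subgroup.mem_normalizer_iff.1 (hKT hk) z).1 (hT hz)
  have hKV : K ≤ Subgroup.normalizer (V : Set G) := by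
    intro n hn
    apply mem_norm_of_le
    intro a ha
    have h1 : V.map (MulAut.conj n).toMonoidHom ≤ V := by
      conv_lhs => rw [hV]
      refine closure_conj_le ?_
      rintro _ ⟨k, hk, z, hz, rfl⟩
      refine Subgroup.subset_closure ⟨n * k, K.mul_mem hn hk, z, hz, by group⟩
    exact h1 ⟨a, ha, rfl⟩
  have hVU : V ≤ U := hVle U hZU hKN
  have hVS : V ≤ (S : Subgroup G) := hVU.trans hUS
  have hVP : V ≤ P := le_inf hVS (hVU.trans Subgroup.le_normalizer)
  have hD0V : D0 ≤ V := hD0Z.trans hZV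
  have hVCU : V ≤ CMod D0 U := hVle _ (hZC.trans (CMod_anti hUS)) (fun k hk => CMod_norm (hKN hk))
  have hVc : ∀ a ∈ V, ∀ b ∈ V, a * b * a⁻¹ * b⁻¹ ∈ D0 := fun a ha b hb => mem_CMod.1 (hVCU ha) b (hVU hb)
  set M := K ⊓ ARs H V with hM
  have hMre : ∀ g ∈ K, Re g → g ∈ M := by
    intro g hg hR
    refine ⟨hg, hKV hg, hReL g hR V hVS ?_⟩
    rw [mem_normalizer_iff'.1 (hKV hg)]; exact hVS
  have hMre' : ∀ g ∈ M, Re g := fun g hg => hReOf g V hZV hg.2.2
  have hReS : ∀ s ∈ H, Re s := fun s hs => ⟨s, hs, by rw [inv_mul_cancel]; exact Gs.one_mem⟩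
  have hPM : P ≤ M := fun g hg => hMre g (hPK hg) (hReS g (hSH (hPS hg)))
  have hMK : M < K := lt_of_le_of_ne inf_le_left fun h => hk0 (hMre' k0 (by rw [h]; exact hk0K))
  have hMc : ∀ g ∈ K, (∀ z ∈ Zs, g * z * g⁻¹ * z⁻¹ ∈ D0) → g ∈ M := by
    intro g hg h
    refine hMre g hg ⟨1, H.one_mem, ?_⟩
    rw [inv_one, one_mul]
    exact mem_CMod.2 h
  have hE1 : ∀ K' : Subgroup G, P ≤ K' → K' ≤ K → K' ≠ K → K' ≤ M := by
    intro K' h1 h2 h3 g hg
    refine hMre g (h2 hg) ?_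
    by_contra hcon
    exact h3 (le_antisymm h2 (hKmin ⟨h1, h2.trans hKN, g, hg, hcon⟩ h2))
  have hP : IsSyl p P K := hPsyl.of_le hPK hKN
  have hPZ : ∀ x ∈ P, ∀ z ∈ Zs, x * z * x⁻¹ * z⁻¹ ∈ D0 := fun x hx z hz => mem_CMod.1 (hSG (hPS hx)) z hz
  -- R
  set R := P ⊓ CMod D0 V with hR
  have hKR : K ≤ Subgroup.normalizer (R : Set G) := by
    have hC1 : K ⊓ CMod D0 V ≤ K := inf_le_left
    have hC2 : K ≤ Subgroup.normalizer ((K ⊓ CMod D0 V : Subgroup G) : Set G) := by
      intro n hn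
      rw [mem_normalizer_iff', conj_inf, conj_eq_of_mem hn, mem_normalizer_iff'.1 (CMod_norm (hKV hn))]
    have h1 := hP.inf_normal hC1 hC2
    have h2 : P ⊓ (K ⊓ CMod D0 V) = R := by rw [← inf_assoc, inf_eq_left.2 hPK]
    rw [h2] at h1
    by_contra hcon
    have h3 : K ⊓ Subgroup.normalizer (R : Set G) ≠ K := fun h => hcon (by rw [← h]; exact inf_le_right)
    have h4 := hE1 (K ⊓ Subgroup.normalizer (R : Set G)) (le_inf hPK (by
      intro n hn
      rw [mem_normalizer_iff', hR, conj_inf, conj_eq_of_mem hn, mem_normalizer_iff'.1 (CMod_norm (hKV (hPK hn)))])) inf_le_left h3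
    apply hMK.not_ge
    intro x hx
    obtain ⟨m, hm, n, hn, rfl⟩ := H38.Goldschmidt.frattini h1 hC2 hx hC1
    refine M.mul_mem (hMc m hm.1 fun z hz => mem_CMod.1 hm.2 z (hZV hz)) (h4 hn)
  -- the quadratic element
  have hquad : ∃ x ∈ Qs K V D0, x ∈ P ∧ x ∉ CMod D0 V := by
    by_cases hPS' : P = (S : Subgroup G)
    · have hKt : K = ⊤ := by
        by_contra hKt
        have h1 := hmin K (by rw [← hPS']; exact hPK) hKt
        apply hMK.not_ge
        intro x hx
        refine ⟨hx, hKV hx, ?_⟩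
        obtain ⟨y, hy, hya⟩ := h1 (V : Set G) x hx hVS (by
          rintro _ ⟨a, ha, rfl⟩
          exact hVS ((Subgroup.mem_normalizer_iff.1 (hKV hx) a).1 ha))
        exact ⟨y, hy, hya⟩
      have hVn : V.Normal := by
        rw [← Subgroup.normalizer_eq_top_iff, eq_top_iff, ← hKt]
        exact hKV
      have hVW : ¬ V ≤ W := fun h => hZD (hZV.trans (hcore V hVn h))
      obtain ⟨A, hA, hVA⟩ : ∃ A ∈ maxIn false p (S : Subgroup G), ¬ V ≤ A := by
        by_contra hcon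
        push Not at hcon
        exact hVW (le_sInf hcon)
      obtain ⟨A1, hA1, -, hVA1, hVN⟩ := replacement_in S.2 hp2 false V hVS (by
          intro s hs
          exact hKV (by rw [hKt]; trivial)) ⟨A, hA, by
          rw [Subgroup.commutator_le]
          intro a ha b hb
          exact WW_le_of_mem hA (hD0W (hVc a ha b hb)), hVA⟩
      have hA1c : ∀ a ∈ A1, ∀ b ∈ A1, a * b = b * a := fun a ha b hb => hA1.2.1.comm ha hb
      obtain ⟨x, hx, hxC⟩ : ∃ x ∈ A1, x ∉ CMod D0 V := by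
        by_contra hcon
        push Not at hcon
        apply hVA1
        have hA1R : A1 ≤ R := by
          refine le_inf ?_ hcon
          rw [hPS']; exact hA1.1
        have hRS : R ≤ (S : Subgroup G) := inf_le_left.trans hPS
        have hA1R' : A1 ∈ maxIn false p R := ⟨hA1R, hA1.2.1, fun B hB hB2 => hA1.2.2 B (hB.trans hRS) hB2⟩
        have hWR : W ≤ WW false p R := by
          intro w hw
          rw [mem_WW]
          intro B hB
          have hB' : B ∈ maxIn false p (S : Subgroup G) := mem_maxIn_of_card hA1 (hB.1.trans hRS) hB.2.1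
            (le_antisymm (hA1R'.2.2 B hB.1 hB.2.1) (hB.2.2 A1 hA1R hA1.2.1))
          exact WW_le_of_mem hB' hw
        exact (hVle (WW false p R) (hZW.trans hWR) (hKR.trans (normalizer_le_normalizer_WW false p R))).trans (WW_le_of_mem hA1R')
      refine ⟨x, ⟨by rw [hKt]; trivial, fun v hv => ?_⟩, by rw [hPS']; exact hA1.1 hx, hxC⟩
      rw [quad_of_norm hVN hA1c hx hv]; exact D0.one_mem
    · have hPlt : P < (S : Subgroup G) := lt_of_le_of_ne hPS hPS'
      have hD0P : D0 ≤ P := hD0V.trans hVP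
      set U1 := functorTower (XF p D0) (S : Subgroup G) U 1 with hU1
      have hU1wp : IsWellPlaced p (XF p D0) (S : Subgroup G) U1 := isWellPlaced_next hXF S.2 hUwp
      have hU1eq : U1 = (WW false p (P.map π)).comap π := by
        have h1 : U1 = XF p D0 P := rfl
        rw [h1, XF, if_pos hD0P]
      have hZU1 : Zs ≤ U1 := by
        rw [hU1eq]
        intro z hz
        rw [Subgroup.mem_comap]
        apply H56.ZJSl2.central_le_WW
        · exact ⟨z, hVP (hZV hz), rfl⟩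
        · rintro _ ⟨y, hy, rfl⟩
          have := (hπ _).2 (hPZ y hy z hz)
          rw [map_mul, map_mul, map_mul, map_inv, map_inv, mul_inv_eq_one, mul_inv_eq_iff_eq_mul] at this
          exact this
      have hlt : P < (S : Subgroup G) ⊓ Subgroup.normalizer (U1 : Set G) := towerNorm_lt_succ (W := XF p D0) (T := U) hXF S.2 0 hPlt
      have hReU1 : ∀ x ∈ Subgroup.normalizer (U1 : Set G), Re x := by
        by_contra hcon
        push Not at hcon
        have h1 := hUmax U1 ⟨hU1wp, hZU1, hcon⟩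
        exact hlt.ne (Subgroup.eq_of_le_of_card_ge hlt.le h1)
      have hKU1 : ¬ K ≤ Subgroup.normalizer (U1 : Set G) := fun h => hk0 (hReU1 k0 (h hk0K))
      have hex2 : ∃ A ∈ maxIn false p (P.map π), ¬ V.map π ≤ A := by
        by_contra hcon
        push Not at hcon
        apply hKU1
        have hRP : R.map π ≤ P.map π := Subgroup.map_mono inf_le_left
        have hAR : ∀ A ∈ maxIn false p (P.map π), A ≤ R.map π := by
          intro A hA a ha
          obtain ⟨y, hy, rfl⟩ := hA.1 ha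
          refine ⟨y, ⟨hy, ?_⟩, rfl⟩
          show π y ∈ Subgroup.centralizer ((V.map π : Subgroup (G ⧸ D0)) : Set (G ⧸ D0))
          rw [Subgroup.mem_centralizer_iff]
          intro v hv
          exact hA.2.1.comm (hcon A hA hv) ha
        have hWW : WW false p (P.map π) = WW false p (R.map π) := by
          have h1 : ∀ A ∈ maxIn false p (P.map π), A ∈ maxIn false p (R.map π) :=
            fun A hA => ⟨hAR A hA, hA.2.1, fun B hB hB2 => hA.2.2 B (hB.trans hRP) hB2⟩
          have h2 : ∀ B ∈ maxIn false p (R.map π), B ∈ maxIn false p (P.map π) := by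
            intro B hB
            obtain ⟨A, hA⟩ := maxIn_nonempty false p (P.map π)
            exact mem_maxIn_of_card hA (hB.1.trans hRP) hB.2.1
              (le_antisymm (hA.2.2 B (hB.1.trans hRP) hB.2.1) (hB.2.2 A (hAR A hA) hA.2.1))
          ext w
          rw [mem_WW, mem_WW]
          exact ⟨fun h B hB => h B (h2 B hB), fun h A hA => h A (h1 A hA)⟩
        intro k hk
        rw [hU1eq, hWW]
        apply mem_norm_of_le
        intro a ha
        rw [Subgroup.mem_comap] at ha ⊢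
        rw [map_mul, map_mul, map_inv]
        refine (Subgroup.mem_normalizer_iff.1 (normalizer_le_normalizer_WW false p (R.map π) ?_) _).1 ha
        apply mem_norm_of_le
        rintro _ ⟨r, hr, rfl⟩
        exact ⟨k * r * k⁻¹, (Subgroup.mem_normalizer_iff.1 (hKR hk) r).1 hr, by simp⟩
      obtain ⟨A, hA, hVA⟩ := hex2
      obtain ⟨A1, hA1, -, hVA1, hVN⟩ := replacement_in (hP.2.1.map π) hp2 false (V.map π) (Subgroup.map_mono hVP) (by
          rintro _ ⟨s, hs, rfl⟩
          apply mem_norm_of_le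
          rintro _ ⟨v, hv, rfl⟩
          exact ⟨s * v * s⁻¹, (Subgroup.mem_normalizer_iff.1 (hKV (hPK hs)) v).1 hv, by simp⟩) ⟨A, hA, by
          rw [Subgroup.commutator_le]
          rintro _ ⟨a, ha, rfl⟩ _ ⟨b, hb, rfl⟩
          have : ⁅π a, π b⁆ = 1 := by
            rw [← map_commutatorElement, hπ]
            exact hVc a ha b hb
          rw [this]; exact A.one_mem, hVA⟩
      have hA1c : ∀ a ∈ A1, ∀ b ∈ A1, a * b = b * a := fun a ha b hb => hA1.2.1.comm ha hb
      obtain ⟨v, hv, hvA⟩ := SetLike.not_le_iff_exists.1 hVA1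
      obtain ⟨a, ha, hav⟩ : ∃ a ∈ A1, a * v ≠ v * a := by
        by_contra hcon
        push Not at hcon
        exact hvA (mem_of_comm_maxIn hA1 (Subgroup.map_mono hVP hv) hcon)
      obtain ⟨x, hx, rfl⟩ := hA1.1 ha
      refine ⟨x, ⟨hPK hx, fun w hw => ?_⟩, hx, fun hxC => hav ?_⟩
      · have := quad_of_norm hVN hA1c ha (show π w ∈ V.map π from ⟨w, hw, rfl⟩)
        rw [← hπ]
        simpa only [map_mul, map_inv] using this
      · have h1 : π x ∈ Subgroup.centralizer ((V.map π : Subgroup (G ⧸ D0)) : Set (G ⧸ D0)) := hxC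
        exact (Subgroup.mem_centralizer_iff.1 h1 v hv).symm
  obtain ⟨xq, hxqQ, hxqP, hxqC⟩ := hquad
  have hJ : ∀ n ∈ K, n ∈ Subgroup.normalizer (Subgroup.closure (Qs K V D0 ∩ P) : Set G) → n ∈ M := by
    set J := Subgroup.closure (Qs K V D0 ∩ P) with hJ
    intro n hn hnJ
    refine hE1 (K ⊓ Subgroup.normalizer (J : Set G)) (le_inf hPK ?_) inf_le_left ?_ ⟨hn, hnJ⟩
    · intro y hy
      apply mem_norm_of_le
      intro a ha
      have h1 : J.map (MulAut.conj y).toMonoidHom ≤ J := by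
        conv_lhs => rw [hJ]
        refine closure_conj_le ?_
        rintro b ⟨hb1, hb2⟩
        exact Subgroup.subset_closure ⟨Qs_conj hKV y (hPK hy) b hb1, P.mul_mem (P.mul_mem hy hb2) (P.inv_mem hy)⟩
      exact h1 ⟨a, ha, rfl⟩
    · intro heq
      have hKJ : K ≤ Subgroup.normalizer (J : Set G) := by rw [← heq]; exact inf_le_right
      have hJP : J ≤ P := (Subgroup.closure_le _).2 fun x hx => hx.2
      have h1 : Zs ≤ CMod D0 J := le_CMod_comm ((hJP.trans hPS).trans hSG)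
      have h2 : V ≤ CMod D0 J := hVle _ h1 (fun k hk => CMod_norm (hKJ hk))
      exact hxqC (le_CMod_comm h2 (Subgroup.subset_closure ⟨hxqQ, hxqP⟩))
  obtain ⟨Va, A1, Vb, x, t, u, hd, hVaV, hxP, htM, huZ⟩ := core_dat hp2 hD0V hVP hKV hVc hZV hPZ hP hPM hMK hMc hJ hω
  obtain ⟨h, hh, hha⟩ := htM.2.2
  exact ⟨Va, A1, Vb, x, h, u, hd.congr (fun v hv => hha v (hVaV hv)), hVaV.trans hVS, hPS hxP, hh, hZW huZ⟩

end

end H78.Zf
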