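import Cfsg.Agent.Lib.H78.ZfL
import Cfsg.Agent.Lib.H39.SFOne

/-! Failure of control of fusion by `Z(J(S))`: the theorem. -/

set_option autoImplicit false

namespace H78.Zf

open Cfsg H38.Basic H38.Alperin H38.Functor H38.Control H14.ZJ H14.MaxIn

universe u

theorem exists_gen {p : ℕ} [hp : Fact p.Prime] (hp2 : p ≠ 2) : ∃ ω : ℕ, ¬ p ∣ ω ∧ (∀ a : ZMod p, a ≠ 0 → ∃ l : ℕ, (ω : ZMod p) ^ l = a) ∧
    (ω : ZMod p) ≠ 1 := by
  obtain ⟨g, hg⟩ := IsCyclic.exists_generator (α := (ZMod p)ˣ)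
  have hpne : NeZero p := ⟨hp.out.ne_zero⟩
  have hval : (((g : ZMod p).val : ℕ) : ZMod p) = (g : ZMod p) := by simp
  have hgen : ∀ a : ZMod p, a ≠ 0 → ∃ l : ℕ, (((g : ZMod p).val : ℕ) : ZMod p) ^ l = a := by
    intro a ha
    have h1 := hg (Units.mk0 a ha)
    rw [mem_zpowers_iff_mem_range_orderOf] at h1
    obtain ⟨l, -, hl⟩ := Finset.mem_image.1 h1
    refine ⟨l, ?_⟩
    rw [hval]
    have := congrArg Units.val hl
    simpa using this
  refine ⟨(g : ZMod p).val, ?_, hgen, ?_⟩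
  · intro h
    have : (((g : ZMod p).val : ℕ) : ZMod p) = 0 := (ZMod.natCast_eq_zero_iff _ _).2 h
    rw [hval] at this
    exact g.ne_zero this
  · intro h
    obtain ⟨l, hl⟩ := hgen (-1) (neg_ne_zero.2 one_ne_zero)
    rw [h, one_pow] at hl
    have : Fact (2 < p) := ⟨lt_of_le_of_ne hp.out.two_le hp2.symm⟩
    exact ZMod.neg_one_ne_one hl.symm

theorem final {G : Type u} [Group G] [Finite G] {p : ℕ} [hp : Fact p.Prime] (hp2 : p ≠ 2) (S : Sylow p G)
    (hfail : ¬ StrongIn (Subgroup.normalizer (WW false p (S : Subgroup G) : Set G)) (S : Subgroup G) ⊤) :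
    Involves ↥(fOver (ZMod p)) ↥(Subgroup.normalizer (WW false p (S : Subgroup G) : Set G)) ∧
      ∃ C : Subgroup G, C ≤ WW false p (S : Subgroup G) ∧ Nat.card C = p ∧
        (Subgroup.normalizer (WW false p (S : Subgroup G) : Set G) ⊓ Subgroup.centralizer (C : Set G)).relIndex
          (Subgroup.normalizer (WW false p (S : Subgroup G) : Set G) ⊓ Subgroup.normalizer (C : Set G)) = p - 1 := by
  classical
  set W := WW false p (S : Subgroup G) with hW
  set H := Subgroup.normalizer (W : Set G) with hH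
  have hWS : W ≤ (S : Subgroup G) := WW_le false p _
  have hWc : ∀ a ∈ W, ∀ b ∈ W, a * b = b * a := fun a ha b hb => (prE_WW false p (S : Subgroup G)).comm ha hb
  have hSH : (S : Subgroup G) ≤ H := Subgroup.le_normalizer.trans (normalizer_le_normalizer_WW false p _)
  obtain ⟨ω, hω, hgen, hω1⟩ := exists_gen (p := p) hp2
  obtain ⟨X, -, ⟨hSX, hXf⟩, hXmin⟩ := (Set.toFinite {X : Subgroup G | (S : Subgroup G) ≤ X ∧ ¬ StrongIn (X ⊓ H) (S : Subgroup G) X}).exists_le_minimal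
    (show (⊤ : Subgroup G) ∈ {X : Subgroup G | (S : Subgroup G) ≤ X ∧ ¬ StrongIn (X ⊓ H) (S : Subgroup G) X} from
      ⟨le_top, by rw [top_inf_eq]; exact hfail⟩)
  let S' : Sylow p X := S.subtype hSX
  have hS' : (S' : Subgroup X) = (S : Subgroup G).subgroupOf X := rfl
  have hS'map : (S' : Subgroup X).map X.subtype = (S : Subgroup G) := by
    rw [hS', Subgroup.subgroupOf_map_subtype, inf_eq_left]; exact hSX
  set W' := WW false p (S' : Subgroup X) with hW'
  have hW'map : W'.map X.subtype = W := by rw [hW', ← WW_map false p X.subtype_injective, hS'map]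
  have hNmap : (Subgroup.normalizer (W' : Set X)).map X.subtype = X ⊓ H := by
    rw [H38.Witness.map_normalizer, hW'map]
  have hfail' : ¬ StrongIn (Subgroup.normalizer (W' : Set X)) (S' : Subgroup X) ⊤ := by
    intro h
    apply hXf
    have h3 := H38.Section.strongIn_map h
    rwa [hNmap, hS'map] at h3
  have hmin' : ∀ Y : Subgroup X, (S' : Subgroup X) ≤ Y → Y ≠ ⊤ → StrongIn (Subgroup.normalizer (W' : Set X)) (S' : Subgroup X) Y := by
    intro Y hSY hY
    have h1 : StrongIn ((Y.map X.subtype) ⊓ H) (S : Subgroup G) (Y.map X.subtype) := by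
      by_contra hcon
      apply hY
      have h2 : X ≤ Y.map X.subtype := hXmin ⟨by rw [← hS'map]; exact Subgroup.map_mono hSY, hcon⟩ (Subgroup.map_subtype_le _)
      rw [eq_top_iff]
      intro x _
      obtain ⟨y, hy, hyx⟩ := h2 x.2
      have : y = x := Subtype.ext hyx
      rwa [← this]
    intro A g hg hA hgA
    obtain ⟨x, ⟨hx1, hx2⟩, hxa⟩ := h1 (Subtype.val '' A) (g : G) ⟨g, hg, rfl⟩ (by
      rintro _ ⟨a, ha, rfl⟩
      rw [← hS'map]
      exact ⟨a, hA ha, rfl⟩) (by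
      rintro _ ⟨_, ⟨a, ha, rfl⟩, rfl⟩
      rw [← hS'map]
      exact ⟨g * a * g⁻¹, hgA ⟨a, ha, rfl⟩, rfl⟩)
    have hxX : x ∈ X := Subgroup.map_subtype_le _ hx1
    refine ⟨⟨x, hxX⟩, ?_, fun a ha => Subtype.ext (hxa a ⟨a, ha, rfl⟩)⟩
    have h2 : x ∈ (Subgroup.normalizer (W' : Set X)).map X.subtype := by rw [hNmap]; exact ⟨hxX, hx2⟩
    obtain ⟨y, hy, hyx⟩ := h2
    have : y = ⟨x, hxX⟩ := Subtype.ext hyx
    rwa [← this]
  obtain ⟨Va, A1, Vb, x, h, w, hd, hVaS, hxS, hhH, hwW⟩ := main_dat hp2 S' hfail' hmin' hω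
  have hd' := hd.map X.subtype X.subtype_injective
  have hVaS' : Va.map X.subtype ≤ (S : Subgroup G) := by rw [← hS'map]; exact Subgroup.map_mono hVaS
  have hxS' : (x : G) ∈ (S : Subgroup G) := by rw [← hS'map]; exact ⟨x, hxS, rfl⟩
  have hhH' : (h : G) ∈ H := by
    have : (h : G) ∈ (Subgroup.normalizer (W' : Set X)).map X.subtype := ⟨h, hhH, rfl⟩
    rw [hNmap] at this
    exact this.2
  have hwW' : (w : G) ∈ W := by rw [← hW'map]; exact ⟨w, hwW, rfl⟩
  have hxp : IsPGroup p (Subgroup.zpowers (x : G)) := S.2.to_le (by rw [Subgroup.zpowers_le]; exact hxS')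
  refine ⟨hd'.involves (hVaS'.trans hSH) (hSH hxS') hhH' hxp hω hgen hω1, ?_⟩
  refine exists_C hWc (S.2.to_le hWS) le_rfl hhH' ?_ hd'.tVb hω hgen hd'.tA (fun a ha => hd'.pw a (hd'.hA1V ha)) hwW' hd'.uA hd'.uB
  apply mem_norm_of_le
  intro a ha
  have := (A1.map X.subtype).mul_mem (hd'.hVbA (hd'.tA a ha)) ((A1.map X.subtype).pow_mem ha ω)
  rwa [inv_mul_cancel_right] at this

end H78.Zf
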